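import Groth.Agent.GrSegre.K962.Pieces
import Mathlib.RingTheory.Ideal.Operations
import Mathlib.RingTheory.KrullDimension.Basic
import Mathlib.LinearAlgebra.Dimension.Free
import Mathlib.LinearAlgebra.Dual.Lemmas
import Mathlib.LinearAlgebra.FiniteDimensional.Basic

/-!
# Segre products: dimensions of the pieces, shifts, standard graded rings, number of generators of `R(a) # S(b)`
-/

set_option autoImplicit false
set_option linter.unusedSectionVars false
set_option linter.style.haveILetI false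
universe u
open scoped TensorProduct DirectSum

namespace K962.Dims

open K962.Basic K962.Pieces

section Piece

variable {k : Type u} [Field k] {M N : Type u} [AddCommGroup M] [Module k M] [AddCommGroup N] [Module k N]
  {ι : Type} (ℳ : ι → Submodule k M) (𝒩 : ι → Submodule k N)

theorem tmul_ne_zero {x : M} {y : N} (hx : x ≠ 0) (hy : y ≠ 0) : x ⊗ₜ[k] y ≠ 0 := by
  intro h
  obtain ⟨f, hf⟩ := Module.Projective.exists_dual_eq_one k hx
  obtain ⟨g, hg⟩ := Module.Projective.exists_dual_eq_one k hy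
  have := congrArg (LinearMap.mul' k k ∘ₗ TensorProduct.map f g) h
  simp [hf, hg] at this

theorem range_mapIncl (n : ι) : LinearMap.range (TensorProduct.mapIncl (ℳ n) (𝒩 n)) =
    GrSeg.segrePiece k ℳ 𝒩 n := by
  apply le_antisymm
  · rintro _ ⟨w, rfl⟩
    induction w using TensorProduct.induction_on with
    | zero => rw [map_zero]; exact zero_mem _
    | add x y hx hy => rw [map_add]; exact add_mem hx hy
    | tmul x y => exact Submodule.subset_span ⟨x.1, x.2, y.1, y.2, rfl⟩
  · rw [GrSeg.segrePiece, Submodule.span_le]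
    rintro _ ⟨a, ha, b, hb, rfl⟩
    exact ⟨⟨a, ha⟩ ⊗ₜ ⟨b, hb⟩, rfl⟩

/-- `M_n ⊗ N_n ≃ (M # N)_n`. -/
noncomputable def pieceEquiv (n : ι) : (ℳ n ⊗[k] 𝒩 n) ≃ₗ[k] GrSeg.segrePiece k ℳ 𝒩 n :=
  (LinearEquiv.ofInjective (TensorProduct.mapIncl (ℳ n) (𝒩 n))
    (Module.Flat.tensorProduct_mapIncl_injective_of_right _ _)).trans
    (LinearEquiv.ofEq _ _ (range_mapIncl ℳ 𝒩 n))

theorem pieceEquiv_tmul (n : ι) (x : ℳ n) (y : 𝒩 n) :
    (pieceEquiv ℳ 𝒩 n (x ⊗ₜ y) : M ⊗[k] N) = (x : M) ⊗ₜ (y : N) := rfl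

theorem finrank_segrePiece (n : ι) : Module.finrank k (GrSeg.segrePiece k ℳ 𝒩 n) =
    Module.finrank k (ℳ n) * Module.finrank k (𝒩 n) := by
  rw [← LinearEquiv.finrank_eq (pieceEquiv ℳ 𝒩 n), Module.finrank_tensorProduct]

theorem segrePiece_eq_bot_iff (n : ι) : GrSeg.segrePiece k ℳ 𝒩 n = ⊥ ↔ ℳ n = ⊥ ∨ 𝒩 n = ⊥ := by
  constructor
  · intro h
    by_contra hh
    push Not at hh
    obtain ⟨x, hx, hx0⟩ := Submodule.exists_mem_ne_zero_of_ne_bot hh.1
    obtain ⟨y, hy, hy0⟩ := Submodule.exists_mem_ne_zero_of_ne_bot hh.2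
    have : x ⊗ₜ[k] y ∈ GrSeg.segrePiece k ℳ 𝒩 n := Submodule.subset_span ⟨x, hx, y, hy, rfl⟩
    rw [h, Submodule.mem_bot] at this
    exact tmul_ne_zero hx0 hy0 this
  · rintro (h | h)
    · rw [GrSeg.segrePiece, Submodule.span_eq_bot]
      rintro _ ⟨a, ha, b, hb, rfl⟩
      rw [h] at ha
      rw [(Submodule.mem_bot k).1 ha, TensorProduct.zero_tmul]
    · rw [GrSeg.segrePiece, Submodule.span_eq_bot]
      rintro _ ⟨a, ha, b, hb, rfl⟩
      rw [h] at hb
      rw [(Submodule.mem_bot k).1 hb, TensorProduct.tmul_zero]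

end Piece

section Shift

variable {k : Type u} [CommRing k] {M : Type u} [AddCommGroup M] [Module k M]
  {ι : Type} [AddCommGroup ι] [DecidableEq ι] (ℳ : ι → Submodule k M) [DirectSum.Decomposition ℳ]

/-- The grading of the shifted module `M(a)`. -/
def sh (a : ι) : ι → Submodule k M := fun n => ℳ (n + a)

noncomputable instance shDecomposition (a : ι) : DirectSum.Decomposition (sh ℳ a) :=
  DirectSum.Decomposition.ofLinearMap (sh ℳ a)
    ((DirectSum.toModule k ι _ (fun i => (DirectSum.lof k ι (fun n => sh ℳ a n) (i - a)) ∘ₗ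
      Submodule.inclusion (show ℳ i ≤ sh ℳ a (i - a) by rw [sh, sub_add_cancel]))) ∘ₗ
      (DirectSum.decomposeLinearEquiv ℳ).toLinearMap)
    (by
      refine LinearMap.ext fun x => ?_
      have h : (DirectSum.coeLinearMap (sh ℳ a)) ∘ₗ
          (DirectSum.toModule k ι _ (fun i => (DirectSum.lof k ι (fun n => sh ℳ a n) (i - a)) ∘ₗ
            Submodule.inclusion (show ℳ i ≤ sh ℳ a (i - a) by rw [sh, sub_add_cancel])))
            = DirectSum.coeLinearMap ℳ := by
        refine DirectSum.linearMap_ext k fun i => LinearMap.ext fun y => ?_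
        simp
      have h2 := DFunLike.congr_fun h (DirectSum.decomposeLinearEquiv ℳ x)
      rw [LinearMap.comp_apply] at h2
      refine h2.trans ?_
      exact DirectSum.Decomposition.left_inv x)
    (by
      refine DirectSum.linearMap_ext k fun i => LinearMap.ext fun y => ?_
      have hy : (y : M) ∈ ℳ (i + a) := y.2
      have h1 : (DirectSum.decomposeLinearEquiv ℳ) (y : M) = DirectSum.lof k ι (fun n => ℳ n) (i + a) ⟨y, hy⟩ :=
        DirectSum.decompose_of_mem ℳ hy
      simp only [LinearMap.comp_apply, DirectSum.coeLinearMap_lof, LinearEquiv.coe_coe, LinearMap.id_apply]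
      rw [h1, DirectSum.toModule_lof, LinearMap.comp_apply]
      have : ∀ (j : ι) (hj : j = i) (z : M) (hz : z ∈ sh ℳ a j) (hz' : z ∈ sh ℳ a i),
          DirectSum.lof k ι (fun n => sh ℳ a n) j ⟨z, hz⟩ = DirectSum.lof k ι (fun n => sh ℳ a n) i ⟨z, hz'⟩ := by
        rintro j rfl z hz hz'; rfl
      exact this _ (add_sub_cancel_right i a) _ _ _)

variable {R : Type u} [CommRing R] [Algebra k R] (𝒜 : ι → Submodule k R) [GradedAlgebra 𝒜] [Module R M]
  [SetLike.GradedSMul 𝒜 ℳ]

instance sh_gradedSMul (a : ι) : SetLike.GradedSMul 𝒜 (sh ℳ a) where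
  smul_mem i j r m hr hm := by
    have := SetLike.GradedSMul.smul_mem (A := 𝒜) (B := ℳ) hr (show m ∈ ℳ (j + a) from hm)
    rw [vadd_eq_add, ← add_assoc] at this
    exact this

end Shift

section Std

variable {k : Type u} [Field k] {R : Type u} [CommRing R] [Algebra k R] (𝒜 : ℤ → Submodule k R) [GradedAlgebra 𝒜]

/-- In a standard graded ring, `R_m` is spanned by products `a r`, `a ∈ R_1`, `r ∈ R_{m-1}` (`m ≥ 1`). -/
theorem mem_span_mul_of_std
    (hstd : Ideal.span (⋃ n ∈ Set.Ioi (0 : ℤ), (𝒜 n : Set R)) = Ideal.span ((𝒜 1 : Submodule k R) : Set R))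
    {m : ℤ} (hm : 0 < m) {x : R} (hx : x ∈ 𝒜 m) :
    x ∈ Submodule.span k {y : R | ∃ a ∈ 𝒜 1, ∃ r ∈ 𝒜 (m - 1), y = a * r} := by
  have h1 : x ∈ Ideal.span ((𝒜 1 : Submodule k R) : Set R) := by
    rw [← hstd]
    exact Ideal.subset_span (Set.mem_biUnion (show m ∈ Set.Ioi (0 : ℤ) from hm) hx)
  have key : ∀ z ∈ Ideal.span ((𝒜 1 : Submodule k R) : Set R),
      pr 𝒜 m z ∈ Submodule.span k {y : R | ∃ a ∈ 𝒜 1, ∃ r ∈ 𝒜 (m - 1), y = a * r} := by
    intro z hz
    induction hz using Submodule.closure_induction with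
    | zero => rw [map_zero]; exact zero_mem _
    | add x y _ _ hx hy => rw [map_add]; exact add_mem hx hy
    | smul_mem c a ha =>
      have ha' : a ∈ 𝒜 1 := ha
      have h2 : pr 𝒜 m (c • a) = a * pr 𝒜 (m - 1) c := by
        have := pr_smul 𝒜 𝒜 ha' (m - 1) c
        rw [add_sub_cancel] at this
        rw [smul_eq_mul, mul_comm c a]
        exact this
      rw [h2]
      exact Submodule.subset_span ⟨a, ha', _, pr_mem 𝒜 _ _, rfl⟩
  have := key x h1
  rwa [pr_of_mem 𝒜 hx] at this

theorem finrank_zero_piece [Nontrivial R] (h0 : 𝒜 0 = Submodule.span k {(1 : R)}) :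
    Module.finrank k (𝒜 0) = 1 := by
  rw [h0]; exact finrank_span_singleton one_ne_zero

end Std

section Gens

variable {k : Type u} [Field k] {R S T : Type u} [CommRing R] [Algebra k R] [CommRing S] [Algebra k S]
  [CommRing T] [Algebra k T]
  {𝒜 : ℤ → Submodule k R} [GradedAlgebra 𝒜] {ℬ : ℤ → Submodule k S} [GradedAlgebra ℬ]
  {𝒯 : ℤ → Submodule k T} [GradedAlgebra 𝒯] {ψ : T →ₐ[k] R ⊗[k] S}
  {P : Type u} [AddCommGroup P] [Module T P] [Module k P] [IsScalarTower k T P]
  {𝒬 : ℤ → AddSubgroup P} [DirectSum.Decomposition 𝒬] {φ : P →ₗ[k] R ⊗[k] S}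

/-- `P/T_+P` for `P = R(a) # S(b)`, `b ≤ a`, is the lowest piece `P_{-b}`. -/
theorem finrank_quotient
    (hposS : ∀ n : ℤ, n < 0 → ℬ n = ⊥) (hT : GrSeg.IsSegreRing 𝒜 ℬ 𝒯 ψ)
    (hstdR : Ideal.span (⋃ n ∈ Set.Ioi (0 : ℤ), (𝒜 n : Set R)) = Ideal.span ((𝒜 1 : Submodule k R) : Set R))
    (hstdS : Ideal.span (⋃ n ∈ Set.Ioi (0 : ℤ), (ℬ n : Set S)) = Ideal.span ((ℬ 1 : Submodule k S) : Set S))
    (mT : Ideal T) (hmT : mT = Ideal.span (⋃ n ∈ Set.Ioi (0 : ℤ), (𝒯 n : Set T)))
    (a b : ℤ) (hab : b ≤ a) (hP : GrSeg.IsSegreMod ψ (sh 𝒜 a) (sh ℬ b) 𝒬 φ) :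
    Module.finrank k (P ⧸ (mT • (⊤ : Submodule T P))) =
      Module.finrank k (𝒜 (a - b)) * Module.finrank k (ℬ 0) := by
  classical
  -- generators
  have hgen : ∀ n : ℤ, 0 < n → ∀ t ∈ 𝒯 n, t ∈ mT := fun n hn t ht => by
    rw [hmT]; exact Ideal.subset_span (Set.mem_biUnion (show n ∈ Set.Ioi (0 : ℤ) from hn) ht)
  have hup : ∀ n : ℤ, -b < n → ∀ p ∈ 𝒬 n, p ∈ mT • (⊤ : Submodule T P) := by
    intro n hn p hp
    have key : ∀ w ∈ GrSeg.segrePiece k (sh 𝒜 a) (sh ℬ b) n, ∃ q ∈ mT • (⊤ : Submodule T P), φ q = w := by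
      intro w hw
      induction hw using Submodule.span_induction with
      | mem w hw =>
        obtain ⟨x, hx, y, hy, rfl⟩ := hw
        have hx' := mem_span_mul_of_std 𝒜 hstdR (show (0 : ℤ) < n + a by omega) hx
        have hy' := mem_span_mul_of_std ℬ hstdS (show (0 : ℤ) < n + b by omega) hy
        clear hx hy
        induction hx' using Submodule.span_induction with
        | mem x hx =>
          obtain ⟨r, hr, x, hx, rfl⟩ := hx
          induction hy' using Submodule.span_induction with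
          | mem y hy =>
            obtain ⟨s, hs, y, hy, rfl⟩ := hy
            obtain ⟨t, ht, hte⟩ := exists_psi_eq hT (mem_segrePiece_tmul 𝒜 ℬ hr hs)
            have hx2 : x ∈ sh 𝒜 a (n - 1) := by
              show x ∈ 𝒜 (n - 1 + a); convert hx using 2; ring
            have hy2 : y ∈ sh ℬ b (n - 1) := by
              show y ∈ ℬ (n - 1 + b); convert hy using 2; ring
            obtain ⟨q, -, hqe⟩ := exists_phi_eq hP (mem_segrePiece_tmul (sh 𝒜 a) (sh ℬ b) hx2 hy2)
            refine ⟨t • q, Submodule.smul_mem_smul (hgen 1 one_pos t ht) trivial, ?_⟩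
            rw [hP.map_smul, hte, hqe, GrSeg.act_tmul]; rfl
          | zero => exact ⟨0, zero_mem _, by simp⟩
          | add y y' _ _ h h' =>
            obtain ⟨q, hq, h⟩ := h
            obtain ⟨q', hq', h'⟩ := h'
            exact ⟨q + q', add_mem hq hq', by rw [map_add, h, h', TensorProduct.tmul_add]⟩
          | smul c y _ h =>
            obtain ⟨q, hq, h⟩ := h
            refine ⟨c • q, Submodule.smul_of_tower_mem _ c hq, by rw [map_smul, h, TensorProduct.tmul_smul]⟩
        | zero => exact ⟨0, zero_mem _, by simp⟩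
        | add x x' _ _ h h' =>
          obtain ⟨q, hq, h⟩ := h
          obtain ⟨q', hq', h'⟩ := h'
          exact ⟨q + q', add_mem hq hq', by rw [map_add, h, h', TensorProduct.add_tmul]⟩
        | smul c x _ h =>
          obtain ⟨q, hq, h⟩ := h
          refine ⟨c • q, Submodule.smul_of_tower_mem _ c hq, by rw [map_smul, h, TensorProduct.smul_tmul']⟩
      | zero => exact ⟨0, zero_mem _, by simp⟩
      | add x y _ _ h h' =>
        obtain ⟨q, hq, h⟩ := h
        obtain ⟨q', hq', h'⟩ := h'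
        exact ⟨q + q', add_mem hq hq', by rw [map_add, h, h']⟩
      | smul c x _ h =>
        obtain ⟨q, hq, h⟩ := h
        exact ⟨c • q, Submodule.smul_of_tower_mem _ c hq, by rw [map_smul, h]⟩
    obtain ⟨q, hq, he⟩ := key _ (phi_mem hP hp)
    rwa [← hP.injective he]
  have hlow : ∀ n : ℤ, n < -b → ∀ p ∈ 𝒬 n, p = 0 := by
    intro n hn p hp
    have h := phi_mem hP hp
    have : GrSeg.segrePiece k (sh 𝒜 a) (sh ℬ b) n = ⊥ := by
      rw [segrePiece_eq_bot_iff]; right; exact hposS _ (by omega)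
    rw [this, Submodule.mem_bot] at h
    exact hP.injective (by rw [h, map_zero])
  let θ : P →ₗ[k] R ⊗[k] S := bpr (sh 𝒜 a) (sh ℬ b) (-b) (-b) ∘ₗ φ
  have hker : LinearMap.ker θ = (mT • (⊤ : Submodule T P)).restrictScalars k := by
    apply le_antisymm
    · intro p hp
      rw [Submodule.restrictScalars_mem]
      have hp' : θ p = 0 := hp
      rw [← DirectSum.sum_support_decompose 𝒬 p]
      refine Submodule.sum_mem _ fun n _ => ?_
      rcases lt_trichotomy n (-b) with h | h | h
      · rw [hlow n h _ (DirectSum.decompose 𝒬 p n).2]; exact zero_mem _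
      · have hz : φ (DirectSum.decompose 𝒬 p n : P) = 0 := by
          have h1 : ∀ q : P, φ (DirectSum.decompose 𝒬 q (-b) : P) = θ q := by
            intro q
            induction q using DirectSum.Decomposition.inductionOn 𝒬 with
            | zero => simp
            | homogeneous m =>
              rename_i j
              by_cases hj : j = -b
              · subst hj
                rw [DirectSum.decompose_of_mem_same 𝒬 m.2]
                exact (bpr_of_mem _ _ (phi_mem hP m.2)).symm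
              · rw [DirectSum.decompose_of_mem_ne 𝒬 m.2 hj, map_zero]
                exact (bpr_of_mem_ne _ _ (phi_mem hP m.2) (Or.inl hj)).symm
            | add q q' h h' =>
              rw [DirectSum.decompose_add, DirectSum.add_apply, map_add, ← h, ← h', ← map_add]; rfl
          rw [h, h1, hp']
        have : (DirectSum.decompose 𝒬 p n : P) = 0 := hP.injective (by rw [hz, map_zero])
        rw [this]; exact zero_mem _
      · exact hup n h _ (DirectSum.decompose 𝒬 p n).2
    · intro p hp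
      rw [Submodule.restrictScalars_mem] at hp
      rw [LinearMap.mem_ker]
      have h2 : ∀ n : ℤ, 0 < n → ∀ t ∈ 𝒯 n, ∀ q : P, θ (t • q) = 0 := by
        intro n hn t ht q
        induction q using DirectSum.Decomposition.inductionOn 𝒬 with
        | zero => simp
        | add q q' h h' => rw [smul_add, map_add, h, h', add_zero]
        | homogeneous m =>
          rename_i j
          by_cases hj : n + j = -b
          · rw [hlow j (by omega) m m.2, smul_zero, map_zero]
          · exact bpr_of_mem_ne _ _ (phi_mem hP (smul_mem_piece hT hP ht m.2)) (Or.inl hj)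
      have h3 : ∀ t ∈ mT, ∀ q : P, θ (t • q) = 0 := by
        intro t ht
        rw [hmT] at ht
        induction ht using Submodule.span_induction with
        | mem t ht =>
          obtain ⟨n, hn, htn⟩ := Set.mem_iUnion₂.1 ht
          exact h2 n hn t htn
        | zero => intro q; simp
        | add t t' _ _ h h' => intro q; rw [add_smul, map_add, h, h', add_zero]
        | smul c t _ h => intro q; rw [smul_eq_mul, mul_comm, mul_smul]; exact h _
      refine Submodule.smul_induction_on hp (fun t ht q _ => h3 t ht q) (fun p q h h' => ?_)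
      rw [map_add, h, h', add_zero]
  have hrange : LinearMap.range θ = GrSeg.segrePiece k (sh 𝒜 a) (sh ℬ b) (-b) := by
    apply le_antisymm
    · rintro _ ⟨p, rfl⟩; exact bpr_mem _ _ _ _
    · intro w hw
      obtain ⟨p, -, rfl⟩ := exists_phi_eq hP hw
      exact ⟨p, bpr_of_mem _ _ hw⟩
  have e1 := (Submodule.Quotient.restrictScalarsEquiv k (mT • (⊤ : Submodule T P)))
  have e2 := (Submodule.quotEquivOfEq _ _ hker)
  have e3 := LinearMap.quotKerEquivRange θ
  rw [← (e2.trans e1).finrank_eq, e3.finrank_eq, hrange, finrank_segrePiece]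
  have ha : sh 𝒜 a (-b) = 𝒜 (a - b) := by show 𝒜 (-b + a) = _; congr 1; ring
  have hb : sh ℬ b (-b) = ℬ 0 := by show ℬ (-b + b) = _; congr 1; ring
  rw [ha, hb]

end Gens

end K962.Dims
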