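import Groth.Agent.GrSegre.K962.Mat
import Groth.Agent.GrLC.K963.Iface
import Groth.Agent.GrLC.K761.GrSub
import Mathlib.LinearAlgebra.FreeModule.Finite.Matrix

/-!
# Dimensions of the pieces of a *canonical module
-/

set_option autoImplicit false
set_option linter.unusedSectionVars false
set_option linter.unusedVariables false
set_option linter.style.haveILetI false
universe u

open DirectSum GrLC K761.Gr

namespace K962.CanDim

variable {R : Type u} [CommRing R] {σ : Type u} [SetLike σ R] [AddSubgroupClass σ R] {𝒜 : ℤ → σ} [GradedRing 𝒜]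
variable (hpos : ∀ n : ℤ, n < 0 → ∀ x ∈ 𝒜 n, x = 0) (h0 : IsField (deg0 𝒜))
variable {m : HomogeneousIdeal 𝒜} (hm : m.toIdeal = Ideal.span (⋃ n ∈ Set.Ioi (0 : ℤ), (𝒜 n : Set R)))
variable {E' : Type u} [AddCommGroup E'] [Module R E'] {𝓔 : ℤ → AddSubgroup E'}
  [Decomposition 𝓔] [SetLike.GradedSMul 𝒜 𝓔] {e : (R ⧸ m.toIdeal) →ₗ[R] E'}
variable {C : Type u} [AddCommGroup C] [Module R C] {𝒞 : ℤ → AddSubgroup C}
  [Decomposition 𝒞] [SetLike.GradedSMul 𝒜 𝒞]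

/-- A homogeneous isomorphism from `Hom_R(C, E')` onto a graded module is onto in each degree. -/
theorem exists_of_mem [Module.Finite R C] {H : Type u} [AddCommGroup H] [Module R H] {ℋ : ℤ → AddSubgroup H}
    [Decomposition ℋ] (φ : (C →ₗ[R] E') ≃ₗ[R] H)
    (hφ : IsGrHom (fun d => (homDeg 𝒜 𝒞 𝓔 d).toAddSubgroup) ℋ φ.toLinearMap) {d : ℤ} {y : H} (hy : y ∈ ℋ d) :
    φ.symm y ∈ homDeg 𝒜 𝒞 𝓔 d := by
  classical
  obtain ⟨f, rfl⟩ := φ.surjective y
  rw [LinearEquiv.symm_apply_apply]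
  obtain ⟨D, -, hD⟩ := K761.Gr.exists_finset_homPr 𝒜 𝒞 𝓔 f
  have h1 := hD (insert d D) (Finset.subset_insert d D)
  have hmem : ∀ i, φ (homPr 𝒜 𝒞 𝓔 f i) ∈ ℋ i := fun i => hφ i _ (homPr_isGrHomDeg 𝒜 𝒞 𝓔 f i)
  have h2 : pr ℋ d (φ f) = φ (homPr 𝒜 𝒞 𝓔 f d) := by
    conv_lhs => rw [← h1]
    rw [map_sum, map_sum, Finset.sum_eq_single d]
    · exact pr_of_mem (hmem d)
    · intro i _ hi; exact pr_of_mem_ne (hmem i) hi
    · intro h; exact absurd (Finset.mem_insert_self d D) h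
  rw [pr_of_mem hy] at h2
  rw [φ.injective h2]
  exact homPr_isGrHomDeg 𝒜 𝒞 𝓔 f d

include hpos h0 hm in
/-- Dimensions: `dim H^n_m(R)_{-j} = dim C_j`. -/
theorem finrank_Hcomp_eq [Module.Finite R C] {H : Type u} [AddCommGroup H] [Module R H] {ℋ : ℤ → AddSubgroup H}
    [Decomposition ℋ] [SetLike.GradedSMul 𝒜 ℋ] (he : IsStarInjHull 𝒜 (quotGr 𝒜 m) 𝓔 e)
    (φ : (C →ₗ[R] E') ≃ₗ[R] H)
    (hφ : IsGrHom (fun d => (homDeg 𝒜 𝒞 𝓔 d).toAddSubgroup) ℋ φ.toLinearMap) (j : ℤ)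
    [Module.Finite (deg0 𝒜) (comp 𝒜 𝒞 j)] :
    Module.finrank (deg0 𝒜) (comp 𝒜 ℋ (-j)) = Module.finrank (deg0 𝒜) (comp 𝒜 𝒞 j) ∧
      Module.Finite (deg0 𝒜) (comp 𝒜 ℋ (-j)) := by
  have hess := he.toIsStarEss
  -- first identification
  let α : homDeg 𝒜 𝒞 𝓔 (-j) →ₗ[deg0 𝒜] comp 𝒜 ℋ (-j) :=
    { toFun := fun f => ⟨φ f.1, hφ (-j) f.1 f.2⟩
      map_add' := fun f g => Subtype.ext (map_add φ f.1 g.1)
      map_smul' := fun r f => Subtype.ext (map_smul φ (r : R) f.1) }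
  have hα : Function.Bijective α := by
    constructor
    · intro f g h
      exact Subtype.ext (φ.injective (congrArg Subtype.val h))
    · rintro ⟨y, hy⟩
      exact ⟨⟨φ.symm y, exists_of_mem φ hφ hy⟩, Subtype.ext (φ.apply_symm_apply y)⟩
  -- second identification
  let β : homDeg 𝒜 𝒞 𝓔 (-j) →ₗ[deg0 𝒜] (comp 𝒜 𝒞 j →ₗ[deg0 𝒜] comp 𝒜 𝓔 0) :=
    { toFun := fun f =>
        { toFun := fun x => ⟨f.1 x.1, by
            have := f.2 j x.1 x.2
            rwa [add_neg_cancel] at this⟩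
          map_add' := fun x y => Subtype.ext (map_add f.1 x.1 y.1)
          map_smul' := fun r x => Subtype.ext (map_smul f.1 (r : R) x.1) }
      map_add' := fun f g => rfl
      map_smul' := fun r f => rfl }
  have hβ : Function.Bijective β := by
    constructor
    · rw [injective_iff_map_eq_zero]
      intro f hf
      apply Subtype.ext
      exact K962.Mat.eq_zero_of_comp hpos h0 hm hess (add_neg_cancel j) f.2 (fun x hx =>
        congrArg Subtype.val (LinearMap.congr_fun hf ⟨x, hx⟩))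
    · intro l
      obtain ⟨f, hf, hfl⟩ := K962.Mat.exists_extend hpos h0 hm he (add_neg_cancel j) l
      exact ⟨⟨f, hf⟩, LinearMap.ext fun x => Subtype.ext (hfl x)⟩
  have hE := K962.Mat.zeroEquiv hpos h0 hm hess
  have hnt : Nontrivial (deg0 𝒜) := h0.nontrivial
  have e1 : comp 𝒜 ℋ (-j) ≃ₗ[deg0 𝒜] (comp 𝒜 𝒞 j →ₗ[deg0 𝒜] deg0 𝒜) :=
    (LinearEquiv.ofBijective α hα).symm.trans ((LinearEquiv.ofBijective β hβ).trans
      (LinearEquiv.congrRight hE.symm))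
  have hfree : Module.Free (deg0 𝒜) (comp 𝒜 𝒞 j) := by
    letI : Field (deg0 𝒜) := h0.toField
    exact Module.Free.of_divisionRing (deg0 𝒜) (comp 𝒜 𝒞 j)
  constructor
  · rw [e1.finrank_eq]
    exact Module.finrank_linearMap_self _ _ _
  · have : Module.Finite (deg0 𝒜) (comp 𝒜 𝒞 j →ₗ[deg0 𝒜] deg0 𝒜) := Module.Finite.linearMap _ _ _ _
    exact Module.Finite.equiv e1.symm

end K962.CanDim
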