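import Groth.Agent.GrSegre.K962.Pieces
import Groth.Prelude.Def_GrLC
import Mathlib.LinearAlgebra.Dimension.Finrank
import Mathlib.LinearAlgebra.Dimension.Basic
import Mathlib.Algebra.Field.Equiv

/-!
# The degree-zero field
-/

set_option autoImplicit false
set_option linter.unusedSectionVars false
set_option linter.style.haveILetI false
universe u
open scoped TensorProduct DirectSum
open K962.Basic K962.Pieces

namespace K962.Fld

variable {k : Type u} [Field k] {R : Type u} [CommRing R] [Algebra k R]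
  {𝒜 : ℤ → Submodule k R} [GradedAlgebra 𝒜] (h0 : 𝒜 0 = Submodule.span k {(1 : R)})

variable (𝒜) in
/-- `k → R_0` -/
def toDeg0 : k →+* GrLC.deg0 𝒜 where
  toFun c := ⟨algebraMap k R c, SetLike.algebraMap_mem_graded 𝒜 c⟩
  map_one' := Subtype.ext (map_one _)
  map_mul' a b := Subtype.ext (map_mul _ a b)
  map_zero' := Subtype.ext (map_zero _)
  map_add' a b := Subtype.ext (map_add _ a b)

include h0 in
theorem toDeg0_bijective [Nontrivial R] : Function.Bijective (toDeg0 𝒜) := by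
  constructor
  · intro a b h
    exact (algebraMap k R).injective (congrArg Subtype.val h)
  · rintro ⟨x, hx⟩
    have hx' : x ∈ Submodule.span k {(1 : R)} := h0 ▸ hx
    obtain ⟨c, rfl⟩ := Submodule.mem_span_singleton.1 hx'
    exact ⟨c, Subtype.ext (Algebra.algebraMap_eq_smul_one c)⟩

include h0 in
theorem isField_deg0 [Nontrivial R] : IsField (GrLC.deg0 𝒜) :=
  MulEquiv.isField (Field.toIsField k)
    (RingEquiv.ofBijective (toDeg0 𝒜) (toDeg0_bijective h0)).symm.toMulEquiv

variable {M : Type u} [AddCommGroup M] [Module R M] [Module k M] [IsScalarTower k R M]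
  {τ : Type u} [SetLike τ M] [AddSubgroupClass τ M]
  {ℳ : ℤ → τ} [SetLike.GradedSMul 𝒜 ℳ]

theorem toDeg0_smul (c : k) (x : M) : toDeg0 𝒜 c • x = c • x := algebraMap_smul R c x

include h0 in
/-- compatible additive bijection of pieces -/
theorem finrank_comp_eq [Nontrivial R] (n : ℤ) {V : Type u} [AddCommGroup V] [Module k V]
    (j : V ≃+ GrLC.comp 𝒜 ℳ n) (hj : ∀ (c : k) (v : V), (j (c • v) : M) = c • (j v : M)) :
    Module.finrank (GrLC.deg0 𝒜) (GrLC.comp 𝒜 ℳ n) = Module.finrank k V := by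
  have h1 := rank_eq_of_equiv_equiv (toDeg0 𝒜) j (toDeg0_bijective h0) (fun c v => Subtype.ext
    ((hj c v).trans (toDeg0_smul c (j v : M)).symm))
  rw [Module.finrank, Module.finrank, h1]

include h0 in
theorem finrank_comp_kp [Nontrivial R] (n : ℤ) :
    Module.finrank (GrLC.deg0 𝒜) (GrLC.comp 𝒜 ℳ n) = Module.finrank k (kp (k := k) 𝒜 ℳ n) := by
  refine finrank_comp_eq h0 n
    { toFun := fun x => ⟨x.1, x.2⟩
      invFun := fun x => ⟨x.1, x.2⟩
      left_inv := fun _ => rfl
      right_inv := fun _ => rfl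
      map_add' := fun _ _ => rfl } (fun _ _ => rfl)

theorem finite_comp (n : ℤ) [Module.Finite k (kp (k := k) 𝒜 ℳ n)] :
    Module.Finite (GrLC.deg0 𝒜) (GrLC.comp 𝒜 ℳ n) := by
  classical
  obtain ⟨s, hs⟩ := Module.Finite.fg_top (R := k) (M := kp (k := k) 𝒜 ℳ n)
  refine ⟨⟨s.image (fun x => (⟨x.1, x.2⟩ : GrLC.comp 𝒜 ℳ n)), ?_⟩⟩
  rw [eq_top_iff]
  rintro ⟨x, hx⟩ -
  have hx' : (⟨x, hx⟩ : kp (k := k) 𝒜 ℳ n) ∈ Submodule.span k (s : Set (kp (k := k) 𝒜 ℳ n)) := by
    rw [hs]; trivial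
  have key : ∀ y : kp (k := k) 𝒜 ℳ n, y ∈ Submodule.span k (s : Set (kp (k := k) 𝒜 ℳ n)) →
      (⟨y.1, y.2⟩ : GrLC.comp 𝒜 ℳ n) ∈ Submodule.span (GrLC.deg0 𝒜)
        ((s.image (fun x => (⟨x.1, x.2⟩ : GrLC.comp 𝒜 ℳ n)) : Finset _) : Set (GrLC.comp 𝒜 ℳ n)) := by
    intro y hy
    induction hy using Submodule.span_induction with
    | mem y hy => exact Submodule.subset_span (Finset.mem_coe.2 (Finset.mem_image_of_mem _ hy))
    | zero => exact zero_mem _
    | add y z _ _ hy hz => exact add_mem hy hz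
    | smul c y _ hy =>
      have := Submodule.smul_mem _ (toDeg0 𝒜 c) hy
      convert this using 1
      exact Subtype.ext (toDeg0_smul c (y : M)).symm
  exact key _ hx'

end K962.Fld
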