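import Groth.Agent.GrSegre.K962.Top
import Groth.Agent.GrSegre.K962.CanDim
import Groth.Agent.GrSegre.K962.Fld
import Groth.Agent.GrSegre.K962.Dims
import Groth.Agent.GrDual.K993.Fin
import Groth.Agent.GrLC.K993.TopGen

/-!
# Dimensions of the pieces of the canonical module of a Segre product
-/

set_option autoImplicit false
set_option linter.unusedSectionVars false
set_option linter.style.haveILetI false
set_option warn.classDefReducibility false
universe u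
open scoped TensorProduct DirectSum
open K962.Basic K962.Pieces K962.Fld GrLC

namespace K962.CanSeg

section One

variable {k : Type u} [Field k] {R : Type u} [CommRing R] [Algebra k R] [IsNoetherianRing R]
  {𝒜 : ℤ → Submodule k R} [GradedAlgebra 𝒜] 

theorem nontrivial_of_dim {R : Type u} [CommRing R] {r : ℕ} (hr : ringKrullDim R = r) : Nontrivial R := by
  by_contra h
  rw [not_nontrivial_iff_subsingleton] at h
  rw [ringKrullDim_eq_bot_of_subsingleton] at hr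
  exact absurd hr (by simp)

theorem subsingleton_H_of_lt {mR : HomogeneousIdeal 𝒜}
    (I : StarInjRes 𝒜 𝒜) {r : ℕ} (hr : ringKrullDim R = r) (q : ℕ) (hq : r < q) : Subsingleton (I.H mR q) := by
  obtain ⟨q, rfl⟩ : ∃ q', q = q' + 1 := ⟨q - 1, by omega⟩
  exact K993.TopGen.subsingleton_H I mR (by rw [hr]; exact_mod_cast (show r ≤ q by omega))

variable (hpos : ∀ n : ℤ, n < 0 → 𝒜 n = ⊥) (h0 : 𝒜 0 = Submodule.span k {(1 : R)})
  {mR : HomogeneousIdeal 𝒜} (hmR : mR.toIdeal = Ideal.span (⋃ n ∈ Set.Ioi (0 : ℤ), (𝒜 n : Set R)))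
  {E : Type u} [AddCommGroup E] [Module R E] {𝓔 : ℤ → AddSubgroup E} [DirectSum.Decomposition 𝓔]
  [SetLike.GradedSMul 𝒜 𝓔] {e : (R ⧸ mR.toIdeal) →ₗ[R] E}
  {C : Type u} [AddCommGroup C] [Module R C] {𝒞 : ℤ → AddSubgroup C} [DirectSum.Decomposition 𝒞]
  [SetLike.GradedSMul 𝒜 𝒞]

include hpos h0 hmR in
/-- `dim (K_R)_n = dim H^r_m(R)_{-n}` -/
theorem finrank_canonical [Nontrivial R] (he : IsStarInjHull 𝒜 (quotGr 𝒜 mR) 𝓔 e) {I : StarInjRes 𝒜 𝒜} {r : ℕ}
    (hC : IsStarCanonical 𝒜 𝒞 𝓔 mR r I) [Module k (I.H mR r)] [IsScalarTower k R (I.H mR r)]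
    [SetLike.GradedSMul 𝒜 (I.Hgr mR r)] (n : ℤ) :
    Module.finrank (deg0 𝒜) (comp 𝒜 𝒞 n) = Module.finrank k (kp (k := k) 𝒜 (I.Hgr mR r) (-n)) := by
  obtain ⟨hfin, φ, hφ⟩ := hC
  letI : Module k C := Module.compHom C (algebraMap k R)
  haveI : IsScalarTower k R C := ⟨fun c r x => by
    show (c • r) • x = algebraMap k R c • (r • x)
    rw [Algebra.smul_def, mul_smul]⟩
  have hNC : IsNoetherian R C := inferInstance
  have h1 : Module.Finite k (K993.Basic.kp (k := k) 𝒜 𝒞 n) :=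
    K993.Fin.finite_piece_of_isNoetherian 𝒜 hpos h0 𝒞 n
  have h2 : Module.Finite k (kp (k := k) 𝒜 𝒞 n) := h1
  have h3 : Module.Finite (deg0 𝒜) (comp 𝒜 𝒞 n) := finite_comp n
  letI := K963.Iface.Hdec I mR r
  have h4 := (K962.CanDim.finrank_Hcomp_eq (fun n hn x hx => by
    rw [hpos n hn] at hx; exact (Submodule.mem_bot k).1 hx) (isField_deg0 h0) hmR he φ hφ n).1
  rw [← h4]
  exact finrank_comp_kp h0 (-n)

end One

section Two

variable {k : Type u} [Field k] {R S T : Type u} [CommRing R] [Algebra k R] [CommRing S] [Algebra k S]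
  [CommRing T] [Algebra k T]
  {𝒜 : ℤ → Submodule k R} [GradedAlgebra 𝒜] {ℬ : ℤ → Submodule k S} [GradedAlgebra ℬ]
  {𝒯 : ℤ → Submodule k T} [GradedAlgebra 𝒯] {ψ : T →ₐ[k] R ⊗[k] S}

theorem hposT (hT : GrSeg.IsSegreRing 𝒜 ℬ 𝒯 ψ) (hposR : ∀ n : ℤ, n < 0 → 𝒜 n = ⊥) :
    ∀ n : ℤ, n < 0 → 𝒯 n = ⊥ := by
  intro n hn
  rw [eq_bot_iff]
  intro t ht
  have h1 := psi_mem hT ht
  have h2 : ψ t = 0 := by
    have key : ∀ w ∈ GrSeg.segrePiece k 𝒜 ℬ n, w = 0 := by
      intro w hw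
      induction hw using Submodule.span_induction with
      | mem w hw =>
        obtain ⟨a, ha, b, hb, rfl⟩ := hw
        rw [hposR n hn] at ha
        rw [(Submodule.mem_bot k).1 ha, TensorProduct.zero_tmul]
      | zero => rfl
      | add x y _ _ hx hy => rw [hx, hy, add_zero]
      | smul c x _ hx => rw [hx, smul_zero]
    exact key _ h1
  exact (Submodule.mem_bot k).2 (hT.1 (h2.trans (map_zero ψ).symm))

theorem h0T (hT : GrSeg.IsSegreRing 𝒜 ℬ 𝒯 ψ) (h0R : 𝒜 0 = Submodule.span k {(1 : R)})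
    (h0S : ℬ 0 = Submodule.span k {(1 : S)}) : 𝒯 0 = Submodule.span k {(1 : T)} := by
  apply le_antisymm
  · intro t ht
    have h1 := psi_mem hT ht
    have key : ∀ w ∈ GrSeg.segrePiece k 𝒜 ℬ 0, ∃ c : k, w = c • (1 : R ⊗[k] S) := by
      intro w hw
      induction hw using Submodule.span_induction with
      | mem w hw =>
        obtain ⟨a, ha, b, hb, rfl⟩ := hw
        rw [h0R] at ha
        rw [h0S] at hb
        obtain ⟨c, rfl⟩ := Submodule.mem_span_singleton.1 ha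
        obtain ⟨d, rfl⟩ := Submodule.mem_span_singleton.1 hb
        refine ⟨c * d, ?_⟩
        rw [TensorProduct.smul_tmul_smul, Algebra.TensorProduct.one_def]
      | zero => exact ⟨0, (zero_smul _ _).symm⟩
      | add x y _ _ hx hy =>
        obtain ⟨c, hc⟩ := hx
        obtain ⟨d, hd⟩ := hy
        exact ⟨c + d, by rw [hc, hd, add_smul]⟩
      | smul c x _ hx =>
        obtain ⟨d, hd⟩ := hx
        exact ⟨c * d, by rw [hd, mul_smul]⟩
    obtain ⟨c, hc⟩ := key _ h1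
    refine Submodule.mem_span_singleton.2 ⟨c, hT.1 ?_⟩
    rw [map_smul, map_one, hc]
  · rw [Submodule.span_le, Set.singleton_subset_iff]
    exact SetLike.GradedOne.one_mem

theorem nontrivialT [Nontrivial R] [Nontrivial S] (ψ : T →ₐ[k] R ⊗[k] S) : Nontrivial T := by
  by_contra h
  rw [not_nontrivial_iff_subsingleton] at h
  have h1 : (1 : R ⊗[k] S) = 0 := by rw [← map_one ψ, Subsingleton.elim (1 : T) 0, map_zero]
  rw [Algebra.TensorProduct.one_def] at h1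
  exact K962.Dims.tmul_ne_zero (one_ne_zero (α := R)) (one_ne_zero (α := S)) h1

/-- dimensions of the pieces of a Segre presentation -/
theorem finrank_segreMod {M N P : Type u} [AddCommGroup M] [Module R M] [Module k M] [IsScalarTower k R M]
    [AddCommGroup N] [Module S N] [Module k N] [IsScalarTower k S N]
    [AddCommGroup P] [Module T P] [Module k P] [IsScalarTower k T P]
    {τM τN τQ : Type u} [SetLike τM M] [AddSubgroupClass τM M] [SetLike τN N] [AddSubgroupClass τN N]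
    [SetLike τQ P] [AddSubgroupClass τQ P]
    {ℳ : ℤ → τM} [SetLike.GradedSMul 𝒜 ℳ] {𝒩 : ℤ → τN} [SetLike.GradedSMul ℬ 𝒩]
    {𝒬 : ℤ → τQ} [DirectSum.Decomposition 𝒬] [SetLike.GradedSMul 𝒯 𝒬]
    {φ : P →ₗ[k] M ⊗[k] N} (hP : GrSeg.IsSegreMod ψ ℳ 𝒩 𝒬 φ) (n : ℤ) :
    Module.finrank k (kp (k := k) 𝒯 𝒬 n) =
      Module.finrank k (kp (k := k) 𝒜 ℳ n) * Module.finrank k (kp (k := k) ℬ 𝒩 n) := by
  rw [← K962.Dims.finrank_segrePiece]
  have h : ∀ w, w ∈ GrSeg.segrePiece k (kp (k := k) 𝒜 ℳ) (kp (k := k) ℬ 𝒩) n ↔ ∃ p ∈ 𝒬 n, φ p = w := by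
    intro w
    have := Set.ext_iff.1 (hP.image_piece n) w
    exact this.symm
  let f : kp (k := k) 𝒯 𝒬 n →ₗ[k] GrSeg.segrePiece k (kp (k := k) 𝒜 ℳ) (kp (k := k) ℬ 𝒩) n :=
    (φ ∘ₗ (kp (k := k) 𝒯 𝒬 n).subtype).codRestrict _ (fun p => (h _).2 ⟨p.1, p.2, rfl⟩)
  refine LinearEquiv.finrank_eq (LinearEquiv.ofBijective f ⟨?_, ?_⟩)
  · intro p q hpq
    exact Subtype.ext (hP.injective (congrArg Subtype.val hpq))
  · rintro ⟨w, hw⟩
    obtain ⟨p, hp, rfl⟩ := (h w).1 hw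
    exact ⟨⟨p, hp⟩, rfl⟩

end Two

end K962.CanSeg
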