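import Groth.Agent.GrSegre.K962.Basic
import Mathlib.RingTheory.GradedAlgebra.Basic
import Mathlib.Algebra.Module.GradedModule
import Mathlib.RingTheory.FiniteStability

/-!
# Segre products: pieces as `k`-subspaces, the retraction, Noetherianity
-/

set_option autoImplicit false
set_option linter.unusedSectionVars false
set_option linter.style.haveILetI false
universe u
open scoped TensorProduct DirectSum

namespace K962.Pieces

open K962.Basic

section Kp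

variable {k : Type u} [CommRing k] {R : Type u} [CommRing R] [Algebra k R]
  {ι : Type} [AddCommGroup ι] [DecidableEq ι] (𝒜 : ι → Submodule k R) [GradedAlgebra 𝒜]
  {M : Type u} [AddCommGroup M] [Module R M] [Module k M] [IsScalarTower k R M]
  {τ : Type u} [SetLike τ M] [AddSubgroupClass τ M] (ℳ : ι → τ) [SetLike.GradedSMul 𝒜 ℳ]

/-- The pieces of a graded module over a graded `k`-algebra, as `k`-subspaces. -/
def kp (n : ι) : Submodule k M where
  carrier := (ℳ n : Set M)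
  add_mem' ha hb := add_mem ha hb
  zero_mem' := zero_mem _
  smul_mem' c x hx := by
    have h := SetLike.GradedSMul.smul_mem (A := 𝒜) (B := ℳ) (SetLike.algebraMap_mem_graded 𝒜 c) hx
    rw [vadd_eq_add, zero_add, algebraMap_smul] at h
    exact h

theorem mem_kp {n : ι} {x : M} : x ∈ kp 𝒜 ℳ n ↔ x ∈ ℳ n := Iff.rfl

instance kp_gradedSMul : SetLike.GradedSMul 𝒜 (kp 𝒜 ℳ) where
  smul_mem _ _ _ _ ha hb := SetLike.GradedSMul.smul_mem (A := 𝒜) (B := ℳ) ha hb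

/-- The tautological isomorphism `ℳ n ≃+ kp 𝒜 ℳ n`. -/
def kpEquiv (n : ι) : ℳ n ≃+ kp 𝒜 ℳ n where
  toFun x := ⟨x.1, x.2⟩
  invFun x := ⟨x.1, x.2⟩
  left_inv _ := rfl
  right_inv _ := rfl
  map_add' _ _ := rfl

noncomputable instance kp_decomposition [DirectSum.Decomposition ℳ] : DirectSum.Decomposition (kp 𝒜 ℳ) :=
  DirectSum.Decomposition.ofAddHom (kp 𝒜 ℳ)
    ((DirectSum.map (fun i => (kpEquiv 𝒜 ℳ i).toAddMonoidHom)).comp
      (DirectSum.decomposeAddEquiv ℳ).toAddMonoidHom)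
    (by
      refine AddMonoidHom.ext fun x => ?_
      have h : (DirectSum.coeAddMonoidHom (kp 𝒜 ℳ)).comp
          (DirectSum.map (fun i => (kpEquiv 𝒜 ℳ i).toAddMonoidHom)) = DirectSum.coeAddMonoidHom ℳ := by
        refine DirectSum.addHom_ext fun i y => ?_
        simp [kpEquiv]
      have h2 := DFunLike.congr_fun h (DirectSum.decompose ℳ x)
      rw [AddMonoidHom.comp_apply] at h2
      rw [AddMonoidHom.comp_apply, AddMonoidHom.comp_apply]
      refine h2.trans ?_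
      exact DirectSum.Decomposition.left_inv x)
    (by
      refine DirectSum.addHom_ext fun i y => ?_
      simp only [AddMonoidHom.comp_apply, DirectSum.coeAddMonoidHom_of, AddMonoidHom.id_apply]
      have : (DirectSum.decomposeAddEquiv ℳ).toAddMonoidHom (y : M) =
          DirectSum.of (fun i => ℳ i) i ⟨y.1, y.2⟩ :=
        DirectSum.decompose_of_mem ℳ y.2
      rw [this, DirectSum.map_of]
      rfl)

theorem pr_kp [DirectSum.Decomposition ℳ] (i : ι) (x : M) :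
    pr (kp 𝒜 ℳ) i x = (DirectSum.decompose ℳ x i : M) := by
  classical
  induction x using DirectSum.Decomposition.inductionOn ℳ with
  | zero => simp
  | homogeneous m =>
    rename_i j
    by_cases h : j = i
    · subst h
      rw [pr_of_mem (kp 𝒜 ℳ) (show (m : M) ∈ kp 𝒜 ℳ j from m.2), DirectSum.decompose_of_mem_same ℳ m.2]
    · rw [pr_of_mem_ne (kp 𝒜 ℳ) (show (m : M) ∈ kp 𝒜 ℳ j from m.2) h, DirectSum.decompose_of_mem_ne ℳ m.2 h]
  | add m m' h h' => rw [map_add, h, h', DirectSum.decompose_add, DirectSum.add_apply]; rfl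

end Kp

section GrMod

variable {k : Type u} [CommRing k] {R : Type u} [CommRing R] [Algebra k R]
  {ι : Type} [AddCommGroup ι] [DecidableEq ι] (𝒜 : ι → Submodule k R) [GradedAlgebra 𝒜]
  {M : Type u} [AddCommGroup M] [Module R M] [Module k M] [IsScalarTower k R M]
  (ℳ : ι → Submodule k M) [DirectSum.Decomposition ℳ] [SetLike.GradedSMul 𝒜 ℳ]

theorem pr_smul {i : ι} {r : R} (hr : r ∈ 𝒜 i) (j : ι) (x : M) :
    pr ℳ (i + j) (r • x) = r • pr ℳ j x := by
  obtain ⟨s, hs, hs'⟩ := exists_finset_sum_pr ℳ x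
  have h1 : r • x = ∑ l ∈ s, r • pr ℳ l x := by
    conv_lhs => rw [hs]
    rw [Finset.smul_sum]
  have hmem : ∀ l, r • pr ℳ l x ∈ ℳ (i + l) := fun l =>
    SetLike.GradedSMul.smul_mem (A := 𝒜) (B := ℳ) hr (pr_mem ℳ l x)
  rw [h1, map_sum]
  by_cases hj : j ∈ s
  · rw [Finset.sum_eq_single j]
    · rw [pr_of_mem ℳ (hmem j)]
    · intro l _ hl
      exact pr_of_mem_ne ℳ (hmem l) (fun h => hl (add_left_cancel h))
    · intro h; exact absurd hj h
  · rw [hs' j hj, smul_zero]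
    refine Finset.sum_eq_zero fun l hl => ?_
    refine pr_of_mem_ne ℳ (hmem l) (fun h => ?_)
    rw [add_left_cancel h] at hl; exact hj hl

end GrMod

section Segre

variable {k : Type u} [CommRing k] {R S T : Type u} [CommRing R] [Algebra k R] [CommRing S] [Algebra k S]
  [CommRing T] [Algebra k T]
  {ι : Type} [AddCommGroup ι] [DecidableEq ι]
  {𝒜 : ι → Submodule k R} [GradedAlgebra 𝒜] {ℬ : ι → Submodule k S} [GradedAlgebra ℬ]
  {𝒯 : ι → Submodule k T} [GradedAlgebra 𝒯] {ψ : T →ₐ[k] R ⊗[k] S}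

theorem psi_mem (hT : GrSeg.IsSegreRing 𝒜 ℬ 𝒯 ψ) {n : ι} {t : T} (ht : t ∈ 𝒯 n) :
    ψ t ∈ GrSeg.segrePiece k 𝒜 ℬ n := by
  rw [← hT.2 n]; exact ⟨t, ht, rfl⟩

theorem exists_psi_eq (hT : GrSeg.IsSegreRing 𝒜 ℬ 𝒯 ψ) {n : ι} {w : R ⊗[k] S}
    (hw : w ∈ GrSeg.segrePiece k 𝒜 ℬ n) : ∃ t ∈ 𝒯 n, ψ t = w := by
  rw [← hT.2 n] at hw
  exact hw

theorem mem_iff_psi_mem (hT : GrSeg.IsSegreRing 𝒜 ℬ 𝒯 ψ) {n : ι} {t : T} :
    t ∈ 𝒯 n ↔ ψ t ∈ GrSeg.segrePiece k 𝒜 ℬ n := by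
  refine ⟨psi_mem hT, fun h => ?_⟩
  obtain ⟨t', ht', he⟩ := exists_psi_eq hT h
  rwa [← hT.1 he]

variable {M N P : Type u} [AddCommGroup M] [Module R M] [Module k M] [IsScalarTower k R M]
  [AddCommGroup N] [Module S N] [Module k N] [IsScalarTower k S N]
  [AddCommGroup P] [Module T P] [Module k P] [IsScalarTower k T P]
  {ℳ : ι → Submodule k M} [DirectSum.Decomposition ℳ] [SetLike.GradedSMul 𝒜 ℳ]
  {𝒩 : ι → Submodule k N} [DirectSum.Decomposition 𝒩] [SetLike.GradedSMul ℬ 𝒩]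
  {τQ : Type u} [SetLike τQ P] [AddSubgroupClass τQ P] {𝒬 : ι → τQ} [DirectSum.Decomposition 𝒬]
  {φ : P →ₗ[k] M ⊗[k] N}

theorem act_mem {i j : ι} {c : R ⊗[k] S} (hc : c ∈ GrSeg.segrePiece k 𝒜 ℬ i) {w : M ⊗[k] N}
    (hw : w ∈ GrSeg.segrePiece k ℳ 𝒩 j) : GrSeg.act k R S M N c w ∈ GrSeg.segrePiece k ℳ 𝒩 (i + j) := by
  induction hc using Submodule.span_induction with
  | mem c hc =>
    obtain ⟨a, ha, b, hb, rfl⟩ := hc
    induction hw using Submodule.span_induction with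
    | mem x hx =>
      obtain ⟨x, hx, y, hy, rfl⟩ := hx
      rw [GrSeg.act_tmul]
      exact mem_segrePiece_tmul ℳ 𝒩 (SetLike.GradedSMul.smul_mem (A := 𝒜) (B := ℳ) ha hx)
        (SetLike.GradedSMul.smul_mem (A := ℬ) (B := 𝒩) hb hy)
    | zero => rw [map_zero]; exact zero_mem _
    | add x y _ _ hx hy => rw [map_add]; exact add_mem hx hy
    | smul c x _ hx => rw [map_smul]; exact Submodule.smul_mem _ _ hx
  | zero => rw [map_zero]; exact zero_mem _
  | add x y _ _ hx hy => rw [map_add]; exact add_mem hx hy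
  | smul c x _ hx => rw [map_smul]; exact Submodule.smul_mem _ _ hx

/-- Diagonal projection and the action. -/
theorem dg_act (c : R ⊗[k] S) {w : M ⊗[k] N} (hw : dg ℳ 𝒩 w = w) :
    dg ℳ 𝒩 (GrSeg.act k R S M N c w) = GrSeg.act k R S M N (dg 𝒜 ℬ c) w := by
  have hw' : w ∈ ⨆ n, GrSeg.segrePiece k ℳ 𝒩 n := hw ▸ dg_mem ℳ 𝒩 w
  clear hw
  induction hw' using Submodule.iSup_induction' with
  | mem n w hw =>
    induction hw using Submodule.span_induction with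
    | mem w hw =>
      obtain ⟨x, hx, y, hy, rfl⟩ := hw
      induction c using tensor_induction 𝒜 ℬ with
      | h0 => simp
      | hadd c c' h h' =>
        rw [map_add, LinearMap.add_apply, map_add, h, h', map_add, map_add, LinearMap.add_apply]
      | hpure i j a b ha hb =>
        rw [GrSeg.act_tmul]
        have hax := SetLike.GradedSMul.smul_mem (A := 𝒜) (B := ℳ) ha hx
        have hby := SetLike.GradedSMul.smul_mem (A := ℬ) (B := 𝒩) hb hy
        rw [vadd_eq_add] at hax hby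
        by_cases h : j = i
        · subst h
          rw [dg_tmul_same 𝒜 ℬ ha hb, GrSeg.act_tmul, dg_tmul_same ℳ 𝒩 hax hby]
        · rw [dg_tmul_ne 𝒜 ℬ ha hb h, map_zero, LinearMap.zero_apply,
            dg_tmul_ne ℳ 𝒩 hax hby (fun h' => h (add_right_cancel h'))]
    | zero => simp
    | add x y _ _ hx hy => rw [map_add, map_add, hx, hy, map_add]
    | smul c x _ hx => rw [map_smul, map_smul, hx, map_smul]
  | zero => simp
  | add x y _ _ hx hy => rw [map_add, map_add, hx, hy, map_add]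

theorem phi_mem (hP : GrSeg.IsSegreMod ψ ℳ 𝒩 𝒬 φ) {n : ι} {p : P} (hp : p ∈ 𝒬 n) :
    φ p ∈ GrSeg.segrePiece k ℳ 𝒩 n := by
  have : φ p ∈ φ '' (𝒬 n : Set P) := ⟨p, hp, rfl⟩
  rw [hP.image_piece n] at this
  exact this

theorem exists_phi_eq (hP : GrSeg.IsSegreMod ψ ℳ 𝒩 𝒬 φ) {n : ι} {w : M ⊗[k] N}
    (hw : w ∈ GrSeg.segrePiece k ℳ 𝒩 n) : ∃ p ∈ 𝒬 n, φ p = w := by
  have : w ∈ φ '' (𝒬 n : Set P) := by rw [hP.image_piece n]; exact hw
  exact this

theorem mem_iff_phi_mem (hP : GrSeg.IsSegreMod ψ ℳ 𝒩 𝒬 φ) {n : ι} {p : P} :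
    p ∈ 𝒬 n ↔ φ p ∈ GrSeg.segrePiece k ℳ 𝒩 n := by
  refine ⟨phi_mem hP, fun h => ?_⟩
  obtain ⟨p', hp', he⟩ := exists_phi_eq hP h
  rwa [← hP.injective he]

theorem smul_mem_piece (hT : GrSeg.IsSegreRing 𝒜 ℬ 𝒯 ψ) (hP : GrSeg.IsSegreMod ψ ℳ 𝒩 𝒬 φ) {i j : ι}
    {t : T} (ht : t ∈ 𝒯 i) {p : P} (hp : p ∈ 𝒬 j) : t • p ∈ 𝒬 (i + j) := by
  rw [mem_iff_phi_mem hP, hP.map_smul]
  exact act_mem (psi_mem hT ht) (phi_mem hP hp)

theorem gradedSMul (hT : GrSeg.IsSegreRing 𝒜 ℬ 𝒯 ψ) (hP : GrSeg.IsSegreMod ψ ℳ 𝒩 𝒬 φ) :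
    SetLike.GradedSMul 𝒯 𝒬 :=
  ⟨fun _ _ _ _ ha hb => smul_mem_piece hT hP ha hb⟩

theorem dg_phi (hP : GrSeg.IsSegreMod ψ ℳ 𝒩 𝒬 φ) (p : P) : dg ℳ 𝒩 (φ p) = φ p := by
  classical
  induction p using DirectSum.Decomposition.inductionOn 𝒬 with
  | zero => simp
  | homogeneous m => exact dg_of_mem ℳ 𝒩 (phi_mem hP m.2)
  | add m m' h h' => rw [map_add, map_add, h, h']

theorem mem_range_phi_iff (hP : GrSeg.IsSegreMod ψ ℳ 𝒩 𝒬 φ) {w : M ⊗[k] N} :
    w ∈ LinearMap.range φ ↔ dg ℳ 𝒩 w = w := by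
  constructor
  · rintro ⟨p, rfl⟩; exact dg_phi hP p
  · intro h
    have hw' : w ∈ ⨆ n, GrSeg.segrePiece k ℳ 𝒩 n := h ▸ dg_mem ℳ 𝒩 w
    refine (iSup_le fun n => ?_ : (⨆ n, GrSeg.segrePiece k ℳ 𝒩 n) ≤ LinearMap.range φ) hw'
    intro w hw
    obtain ⟨p, -, rfl⟩ := exists_phi_eq hP hw
    exact ⟨p, rfl⟩

theorem dg_mem_range (hP : GrSeg.IsSegreMod ψ ℳ 𝒩 𝒬 φ) (w : M ⊗[k] N) :
    dg ℳ 𝒩 w ∈ LinearMap.range φ := by
  rw [mem_range_phi_iff hP]
  exact dg_of_mem_iSup ℳ 𝒩 (dg_mem ℳ 𝒩 w)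

/-- The retraction `M ⊗ N → M # N`. -/
noncomputable def rho (hP : GrSeg.IsSegreMod ψ ℳ 𝒩 𝒬 φ) : M ⊗[k] N →ₗ[k] P :=
  (LinearEquiv.ofInjective φ hP.injective).symm.toLinearMap ∘ₗ
    (dg ℳ 𝒩).codRestrict (LinearMap.range φ) (dg_mem_range hP)

theorem phi_rho (hP : GrSeg.IsSegreMod ψ ℳ 𝒩 𝒬 φ) (w : M ⊗[k] N) : φ (rho hP w) = dg ℳ 𝒩 w := by
  have : ∀ z : LinearMap.range φ, φ ((LinearEquiv.ofInjective φ hP.injective).symm z) = z := by
    intro z
    have h := (LinearEquiv.ofInjective φ hP.injective).apply_symm_apply z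
    have h2 := congrArg Subtype.val h
    rwa [LinearEquiv.ofInjective_apply] at h2
  exact this _

theorem rho_phi (hP : GrSeg.IsSegreMod ψ ℳ 𝒩 𝒬 φ) (p : P) : rho hP (φ p) = p :=
  hP.injective (by rw [phi_rho, dg_phi hP])

theorem isSegreMod_ring (hT : GrSeg.IsSegreRing 𝒜 ℬ 𝒯 ψ) :
    GrSeg.IsSegreMod ψ 𝒜 ℬ 𝒯 ψ.toLinearMap where
  injective := hT.1
  image_piece n := by
    rw [← hT.2 n]; rfl
  map_smul t p := by
    rw [act_self, smul_eq_mul]
    exact map_mul ψ t p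

theorem rho_act (hT : GrSeg.IsSegreRing 𝒜 ℬ 𝒯 ψ) (hP : GrSeg.IsSegreMod ψ ℳ 𝒩 𝒬 φ) (c : R ⊗[k] S) (p : P) :
    rho hP (GrSeg.act k R S M N c (φ p)) = rho (isSegreMod_ring hT) c • p := by
  apply hP.injective
  rw [phi_rho, dg_act (𝒜 := 𝒜) (ℬ := ℬ) c (dg_phi hP p), hP.map_smul]
  congr 2
  exact (phi_rho (isSegreMod_ring hT) c).symm

/-- `M # N` is a Noetherian `T`-module if `M ⊗ N` is a Noetherian `R ⊗ S`-module. -/
theorem isNoetherian_of_tensor (hT : GrSeg.IsSegreRing 𝒜 ℬ 𝒯 ψ) (hP : GrSeg.IsSegreMod ψ ℳ 𝒩 𝒬 φ)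
    (hN : letI := actModule k R S M N; IsNoetherian (R ⊗[k] S) (M ⊗[k] N)) : IsNoetherian T P := by
  letI := actModule k R S M N
  have hsm : ∀ (c : R ⊗[k] S) (w : M ⊗[k] N), c • w = GrSeg.act k R S M N c w := fun c w => actHom_eq_act c w
  rw [isNoetherian_iff'] at hN ⊢
  have key : ∀ (L : Submodule T P) (w : M ⊗[k] N), w ∈ Submodule.span (R ⊗[k] S) (φ '' (L : Set P)) →
      rho hP w ∈ L := by
    intro L w hw
    induction hw using Submodule.closure_induction with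
    | zero => rw [map_zero]; exact zero_mem _
    | add x y _ _ hx hy => rw [map_add]; exact add_mem hx hy
    | smul_mem c x hx =>
      obtain ⟨p, hp, rfl⟩ := hx
      rw [hsm, rho_act hT hP]
      exact L.smul_mem _ hp
  let F : Submodule T P → Submodule (R ⊗[k] S) (M ⊗[k] N) := fun L => Submodule.span (R ⊗[k] S) (φ '' (L : Set P))
  have hmono : Monotone F := fun L L' h => Submodule.span_mono (Set.image_mono h)
  have hinj : Function.Injective F := by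
    intro L L' h
    refine le_antisymm (fun p hp => ?_) (fun p hp => ?_)
    · have : φ p ∈ F L' := h ▸ Submodule.subset_span ⟨p, hp, rfl⟩
      have := key L' _ this
      rwa [rho_phi] at this
    · have : φ p ∈ F L := h.symm ▸ Submodule.subset_span ⟨p, hp, rfl⟩
      have := key L _ this
      rwa [rho_phi] at this
  exact StrictMono.wellFoundedGT (hmono.strictMono_of_injective hinj)

end Segre

section Noeth

variable {k : Type u} [Field k] {R S T : Type u} [CommRing R] [Algebra k R] [CommRing S] [Algebra k S]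
  [CommRing T] [Algebra k T]
  {ι : Type} [AddCommGroup ι] [DecidableEq ι]
  {𝒜 : ι → Submodule k R} [GradedAlgebra 𝒜] {ℬ : ι → Submodule k S} [GradedAlgebra ℬ]
  {𝒯 : ι → Submodule k T} [GradedAlgebra 𝒯] {ψ : T →ₐ[k] R ⊗[k] S}
  {M N P : Type u} [AddCommGroup M] [Module R M] [Module k M] [IsScalarTower k R M]
  [AddCommGroup N] [Module S N] [Module k N] [IsScalarTower k S N]
  [AddCommGroup P] [Module T P] [Module k P] [IsScalarTower k T P]
  {ℳ : ι → Submodule k M} [DirectSum.Decomposition ℳ] [SetLike.GradedSMul 𝒜 ℳ]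
  {𝒩 : ι → Submodule k N} [DirectSum.Decomposition 𝒩] [SetLike.GradedSMul ℬ 𝒩]
  {τQ : Type u} [SetLike τQ P] [AddSubgroupClass τQ P] {𝒬 : ι → τQ} [DirectSum.Decomposition 𝒬]
  {φ : P →ₗ[k] M ⊗[k] N}

theorem isNoetherian_segreMod [Algebra.FiniteType k R] [Algebra.FiniteType k S]
    [Module.Finite R M] [Module.Finite S N]
    (hT : GrSeg.IsSegreRing 𝒜 ℬ 𝒯 ψ) (hP : GrSeg.IsSegreMod ψ ℳ 𝒩 𝒬 φ) : IsNoetherian T P := by
  refine isNoetherian_of_tensor hT hP ?_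
  letI := actModule k R S M N
  haveI : Module.Finite (R ⊗[k] S) (M ⊗[k] N) := actModule_finite
  haveI : IsNoetherianRing R := Algebra.FiniteType.isNoetherianRing k R
  haveI : IsNoetherianRing (R ⊗[k] S) := Algebra.FiniteType.isNoetherianRing R _
  exact isNoetherian_of_isNoetherianRing_of_finite _ _

theorem isNoetherianRing_segreRing [Algebra.FiniteType k R] [Algebra.FiniteType k S]
    (hT : GrSeg.IsSegreRing 𝒜 ℬ 𝒯 ψ) : IsNoetherianRing T :=
  isNoetherian_segreMod (𝒬 := 𝒯) (φ := ψ.toLinearMap) hT (isSegreMod_ring hT)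

end Noeth

section Conv

variable {k : Type u} [CommRing k] {R S T : Type u} [CommRing R] [Algebra k R] [CommRing S] [Algebra k S]
  [CommRing T] [Algebra k T]
  {ι : Type} [AddCommGroup ι] [DecidableEq ι]
  {𝒜 : ι → Submodule k R} [GradedAlgebra 𝒜] {ℬ : ι → Submodule k S} [GradedAlgebra ℬ]
  {ψ : T →ₐ[k] R ⊗[k] S}
  {M N P : Type u} [AddCommGroup M] [Module R M] [Module k M] [IsScalarTower k R M]
  [AddCommGroup N] [Module S N] [Module k N] [IsScalarTower k S N]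
  [AddCommGroup P] [Module T P] [Module k P] [IsScalarTower k T P]
  {τM τN τQ : Type u} [SetLike τM M] [AddSubgroupClass τM M] [SetLike τN N] [AddSubgroupClass τN N]
  {ℳ : ι → τM} [SetLike.GradedSMul 𝒜 ℳ] {𝒩 : ι → τN} [SetLike.GradedSMul ℬ 𝒩]
  [SetLike τQ P] [AddSubgroupClass τQ P] {𝒬 : ι → τQ} [DirectSum.Decomposition 𝒬]
  {φ : P →ₗ[k] M ⊗[k] N}

/-- Segre presentations with arbitrary pieces give Segre presentations with `k`-subspaces as pieces. -/
theorem isSegreMod_kp (hP : GrSeg.IsSegreMod ψ ℳ 𝒩 𝒬 φ) : GrSeg.IsSegreMod ψ (kp 𝒜 ℳ) (kp ℬ 𝒩) 𝒬 φ :=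
  ⟨hP.injective, hP.image_piece, hP.map_smul⟩

end Conv

end K962.Pieces
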