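import Groth.Agent.GrSegre.K962.KData

/-!
# The top local cohomology of a Segre product
-/

set_option autoImplicit false
set_option linter.unusedSectionVars false
set_option linter.style.haveILetI false
set_option warn.classDefReducibility false
universe u
open scoped TensorProduct DirectSum
open K759.Gr K759.GrObj K962.Basic K962.Pieces K962.KM K962.Seg K962.KData

namespace K962.Top

section Lin

variable {k : Type u} [CommRing k] {V W : Type u} [AddCommGroup V] [Module k V] [AddCommGroup W] [Module k W]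
  {ι : Type} {τ τ' : Type u} [SetLike τ V] [SetLike τ' W] (𝒱 : ι → τ) (𝒲 : ι → τ')
  {V' W' : Type u} [AddCommGroup V'] [Module k V'] [AddCommGroup W'] [Module k W']
  {σ σ' : Type u} [SetLike σ V'] [SetLike σ' W'] (𝒱' : ι → σ) (𝒲' : ι → σ')

theorem map_mem {f : V →ₗ[k] V'} {g : W →ₗ[k] W'} {n : ι} (hf : ∀ x ∈ 𝒱 n, f x ∈ 𝒱' n)
    (hg : ∀ x ∈ 𝒲 n, g x ∈ 𝒲' n) {w : V ⊗[k] W} (hw : w ∈ GrSeg.segrePiece k 𝒱 𝒲 n) :
    TensorProduct.map f g w ∈ GrSeg.segrePiece k 𝒱' 𝒲' n := by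
  induction hw using Submodule.span_induction with
  | mem w hw =>
    obtain ⟨x, hx, y, hy, rfl⟩ := hw
    exact Submodule.subset_span ⟨f x, hf x hx, g y, hg y hy, rfl⟩
  | zero => rw [map_zero]; exact zero_mem _
  | add x y _ _ hx hy => rw [map_add]; exact add_mem hx hy
  | smul c x _ hx => rw [map_smul]; exact Submodule.smul_mem _ _ hx

end Lin

variable {k : Type u} [Field k] {R S T : Type u} [CommRing R] [Algebra k R] [CommRing S] [Algebra k S]
  [CommRing T] [Algebra k T]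
  {𝒜 : ℤ → Submodule k R} [GradedAlgebra 𝒜] {ℬ : ℤ → Submodule k S} [GradedAlgebra ℬ]
  {𝒯 : ℤ → Submodule k T} [GradedAlgebra 𝒯] {ψ : T →ₐ[k] R ⊗[k] S}
  {mR : HomogeneousIdeal 𝒜} {mS : HomogeneousIdeal ℬ} {mT : HomogeneousIdeal 𝒯}
  {M N P : Type u} [AddCommGroup M] [Module R M] [Module k M] [IsScalarTower k R M]
  [AddCommGroup N] [Module S N] [Module k N] [IsScalarTower k S N]
  [AddCommGroup P] [Module T P] [Module k P] [IsScalarTower k T P]
  {τM τN τQ : Type u} [SetLike τM M] [AddSubgroupClass τM M] [SetLike τN N] [AddSubgroupClass τN N]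
  [SetLike τQ P] [AddSubgroupClass τQ P]
  {ℳ : ℤ → τM} [DirectSum.Decomposition ℳ] [SetLike.GradedSMul 𝒜 ℳ]
  {𝒩 : ℤ → τN} [DirectSum.Decomposition 𝒩] [SetLike.GradedSMul ℬ 𝒩]
  {𝒬 : ℤ → τQ} [DirectSum.Decomposition 𝒬] [SetLike.GradedSMul 𝒯 𝒬]

theorem Side.subsingleton_succ {EM : GrLC.StarInjRes 𝒜 ℳ} {A : ℕ → KMod.{u} 𝒜} (h : Side EM mR A) {p : ℕ}
    (hp : Subsingleton (EM.H mR (p + 2))) : Subsingleton (A (p + 1)).carrier := by
  obtain ⟨θ, -⟩ := h.succ p
  exact θ.injective.subsingleton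

variable [Algebra.FiniteType k R] [Algebra.FiniteType k S]

/-- **Top local cohomology of a Segre product**: if `H^q(M) = 0` for `q > r` and `H^q(N) = 0` for `q > s`,
`r, s ≥ 2`, then `H^{r+s-1}(M # N) ≅ H^r(M) # H^s(N)`. -/
theorem top (hT : GrSeg.IsSegreRing 𝒜 ℬ 𝒯 ψ)
    (hmR : mR.toIdeal = Ideal.span (⋃ n ∈ Set.Ioi (0 : ℤ), (𝒜 n : Set R)))
    (hmS : mS.toIdeal = Ideal.span (⋃ n ∈ Set.Ioi (0 : ℤ), (ℬ n : Set S)))
    (hmT : mT.toIdeal = Ideal.span (⋃ n ∈ Set.Ioi (0 : ℤ), (𝒯 n : Set T)))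
    {φ : P →ₗ[k] M ⊗[k] N} (hP : GrSeg.IsSegreMod ψ ℳ 𝒩 𝒬 φ)
    (EM : GrLC.StarInjRes 𝒜 ℳ) (EN : GrLC.StarInjRes ℬ 𝒩) (EP : GrLC.StarInjRes 𝒯 𝒬)
    {r s m : ℕ} (h2r : 2 ≤ r) (h2s : 2 ≤ s) (hm : m + 1 = r + s)
    (hR : ∀ q, r < q → Subsingleton (EM.H mR q)) (hS : ∀ q, s < q → Subsingleton (EN.H mS q))
    [Module k (EM.H mR r)] [IsScalarTower k R (EM.H mR r)] [Module k (EN.H mS s)] [IsScalarTower k S (EN.H mS s)]
    [Module k (EP.H mT m)] [IsScalarTower k T (EP.H mT m)] [DirectSum.Decomposition (EP.Hgr mT m)] :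
    ∃ Φ : EP.H mT m →ₗ[k] EM.H mR r ⊗[k] EN.H mS s,
      GrSeg.IsSegreMod ψ (EM.Hgr mR r) (EN.Hgr mS s) (EP.Hgr mT m) Φ := by
  obtain ⟨A, B, hA, hB, hκ⟩ := kunneth hT hmR hmS hmT hP EM EN EP
  obtain ⟨r, rfl⟩ : ∃ r', r = r' + 2 := ⟨r - 2, by omega⟩
  obtain ⟨s, rfl⟩ : ∃ s', s = s' + 2 := ⟨s - 2, by omega⟩
  obtain ⟨n, rfl⟩ : ∃ n, m = n + 2 := ⟨m - 2, by omega⟩
  obtain ⟨κ, h1, h2, h3, h4⟩ := hκ n
  obtain ⟨θ, hθ⟩ := hA.succ r
  obtain ⟨η, hη⟩ := hB.succ s
  -- the other components vanish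
  have hzero : ∀ (z : ∀ p q : ℕ, TT ψ (A p).carrier (B q).carrier), (∀ p q, p + q ≠ n + 1 → z p q = 0) →
      ∀ p q, ¬ (p = r + 1 ∧ q = s + 1) → z p q = 0 := by
    intro z hz p q hpq
    by_cases hn : p + q = n + 1
    · rcases Nat.lt_or_ge (r + 1) p with h | h
      · obtain ⟨p', rfl⟩ : ∃ p', p = p' + 1 := ⟨p - 1, by omega⟩
        have := Side.subsingleton_succ hA (hR (p' + 2) (by omega))
        have : Subsingleton ((A (p' + 1)).carrier ⊗[k] (B q).carrier) := ⟨fun x y => by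
          have hz : ∀ x : (A (p' + 1)).carrier ⊗[k] (B q).carrier, x = 0 := by
            intro x
            induction x using TensorProduct.induction_on with
            | zero => rfl
            | add x y hx hy => rw [hx, hy, add_zero]
            | tmul x y => rw [Subsingleton.elim x 0, TensorProduct.zero_tmul]
          rw [hz x, hz y]⟩
        exact this.elim _ _
      · have hq : s + 1 < q := by omega
        obtain ⟨q', rfl⟩ : ∃ q', q = q' + 1 := ⟨q - 1, by omega⟩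
        have := Side.subsingleton_succ hB (hS (q' + 2) (by omega))
        have : Subsingleton ((A p).carrier ⊗[k] (B (q' + 1)).carrier) := ⟨fun x y => by
          have hz : ∀ x : (A p).carrier ⊗[k] (B (q' + 1)).carrier, x = 0 := by
            intro x
            induction x using TensorProduct.induction_on with
            | zero => rfl
            | add x y hx hy => rw [hx, hy, add_zero]
            | tmul x y => rw [Subsingleton.elim y 0, TensorProduct.tmul_zero]
          rw [hz x, hz y]⟩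
        exact this.elim _ _
    · exact hz p q hn
  let e : (A (r + 1)).carrier ⊗[k] (B (s + 1)).carrier ≃ₗ[k] EM.H mR (r + 2) ⊗[k] EN.H mS (s + 2) :=
    TensorProduct.congr (θ.restrictScalars k) (η.restrictScalars k)
  let Φ : EP.H mT (n + 2) →ₗ[k] EM.H mR (r + 2) ⊗[k] EN.H mS (s + 2) :=
    e.toLinearMap ∘ₗ (toTT.symm : TT ψ (A (r + 1)).carrier (B (s + 1)).carrier ≃ₗ[k] _).toLinearMap ∘ₗ
      (((LinearMap.proj (R := T) (φ := fun q => TT ψ (A (r + 1)).carrier (B q).carrier) (s + 1)) ∘ₗ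
        (LinearMap.proj (R := T) (φ := fun p => ∀ q, TT ψ (A p).carrier (B q).carrier) (r + 1)) ∘ₗ κ).restrictScalars k)
  have hΦ : ∀ z, Φ z = TensorProduct.map (θ.toLinearMap.restrictScalars k) (η.toLinearMap.restrictScalars k)
      (toTT.symm (κ z (r + 1) (s + 1))) := fun z => rfl
  refine ⟨Φ, ?_, ?_, ?_⟩
  · rw [injective_iff_map_eq_zero]
    intro z hz
    have hz' : κ z (r + 1) (s + 1) = 0 := toTT.symm.injective ((e.injective (hz.trans (map_zero e).symm)).trans
      (map_zero toTT.symm).symm)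
    apply h1
    rw [map_zero]
    funext p q
    by_cases hpq : p = r + 1 ∧ q = s + 1
    · obtain ⟨rfl, rfl⟩ := hpq
      exact hz'
    · exact hzero (κ z) (h2 z) p q hpq
  · intro i
    ext w
    constructor
    · rintro ⟨z, hz, rfl⟩
      rw [hΦ]
      exact map_mem (k := k) (kg (A (r + 1))) (kg (B (s + 1))) (EM.Hgr mR (r + 2)) (EN.Hgr mS (s + 2))
        (f := θ.toLinearMap.restrictScalars k) (g := η.toLinearMap.restrictScalars k)
        (fun x hx => (hθ x i).1 hx) (fun x hx => (hη x i).1 hx) (h3 z i hz (r + 1) (s + 1))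
    · intro hw
      have hw' : e.symm w ∈ GrSeg.segrePiece k (kg (A (r + 1))) (kg (B (s + 1))) i :=
        map_mem (EM.Hgr mR (r + 2)) (EN.Hgr mS (s + 2)) (kg (A (r + 1))) (kg (B (s + 1)))
          (f := (θ.symm.restrictScalars k).toLinearMap) (g := (η.symm.restrictScalars k).toLinearMap)
          (fun x hx => (hθ _ i).2 (by
            show θ (θ.symm x) ∈ _
            rw [LinearEquiv.apply_symm_apply]; exact hx))
          (fun x hx => (hη _ i).2 (by
            show η (η.symm x) ∈ _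
            rw [LinearEquiv.apply_symm_apply]; exact hx)) hw
      let ω : ∀ p q : ℕ, TT ψ (A p).carrier (B q).carrier :=
        Pi.single (M := fun p => ∀ q : ℕ, TT ψ (A p).carrier (B q).carrier) (r + 1)
          (Pi.single (M := fun q => TT ψ (A (r + 1)).carrier (B q).carrier) (s + 1) (toTT (e.symm w)))
      have hω : ω (r + 1) (s + 1) = toTT (e.symm w) := by
        show Pi.single (M := fun p => ∀ q : ℕ, TT ψ (A p).carrier (B q).carrier) (r + 1) _ (r + 1) (s + 1) = _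
        rw [Pi.single_eq_same, Pi.single_eq_same]
      have hω0 : ∀ p q, ¬ (p = r + 1 ∧ q = s + 1) → ω p q = 0 := by
        intro p q hpq
        show Pi.single (M := fun p => ∀ q : ℕ, TT ψ (A p).carrier (B q).carrier) (r + 1) _ p q = _
        by_cases hp : p = r + 1
        · subst hp
          rw [Pi.single_eq_same, Pi.single_eq_of_ne (fun h => hpq ⟨rfl, h⟩)]
        · rw [Pi.single_eq_of_ne hp]; rfl
      obtain ⟨z, hz, hze⟩ := h4 i ω (fun p q hpq => hω0 p q (fun h => hpq (by omega))) (fun p q => by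
        by_cases hpq : p = r + 1 ∧ q = s + 1
        · obtain ⟨rfl, rfl⟩ := hpq
          rw [hω, LinearEquiv.symm_apply_apply]; exact hw'
        · rw [hω0 p q hpq, map_zero]; exact zero_mem _)
      refine ⟨z, hz, ?_⟩
      show e (toTT.symm (κ z (r + 1) (s + 1))) = w
      rw [hze, hω, LinearEquiv.symm_apply_apply, LinearEquiv.apply_symm_apply]
  · intro t z
    rw [hΦ, hΦ, map_smul]
    show TensorProduct.map _ _ (toTT.symm (t • κ z (r + 1) (s + 1))) = _
    rw [smul_def, LinearEquiv.symm_apply_apply, map_act]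

end K962.Top
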