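import Groth.Prelude.Def_GrSeg
import Mathlib.RingTheory.FiniteType
import Mathlib.RingTheory.Noetherian.Basic
import Mathlib.RingTheory.TensorProduct.Maps
import Mathlib.Algebra.DirectSum.Decomposition
import Mathlib.LinearAlgebra.Basis.VectorSpace
import Mathlib.LinearAlgebra.Dimension.Constructions
import Mathlib.RingTheory.Flat.Basic

/-!
# Segre products: basic algebra

Linear algebra of graded `k`-modules `V`, `W` and the diagonal part of `V ⊗ W`; pieces as `k`-subspaces.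
-/

set_option autoImplicit false
set_option linter.unusedSectionVars false
set_option linter.style.haveILetI false
universe u
open scoped TensorProduct DirectSum

namespace K962.Basic

section Lin

variable {k : Type u} [CommRing k] {V W : Type u} [AddCommGroup V] [Module k V] [AddCommGroup W] [Module k W]
  {ι : Type} [DecidableEq ι]
  (𝒱 : ι → Submodule k V) [DirectSum.Decomposition 𝒱] (𝒲 : ι → Submodule k W) [DirectSum.Decomposition 𝒲]

/-- Projection onto the degree-`i` piece, as a `k`-linear endomorphism. -/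
noncomputable def pr (i : ι) : V →ₗ[k] V :=
  (𝒱 i).subtype ∘ₗ DirectSum.component k ι (fun i => 𝒱 i) i ∘ₗ
    (DirectSum.decomposeLinearEquiv 𝒱).toLinearMap

theorem pr_apply (i : ι) (x : V) : pr 𝒱 i x = (DirectSum.decompose 𝒱 x i : V) := rfl

theorem pr_mem (i : ι) (x : V) : pr 𝒱 i x ∈ 𝒱 i := by
  rw [pr_apply]; exact (DirectSum.decompose 𝒱 x i).2

theorem pr_of_mem {i : ι} {x : V} (hx : x ∈ 𝒱 i) : pr 𝒱 i x = x := by
  rw [pr_apply, DirectSum.decompose_of_mem_same 𝒱 hx]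

theorem pr_of_mem_ne {i j : ι} {x : V} (hx : x ∈ 𝒱 i) (h : i ≠ j) : pr 𝒱 j x = 0 := by
  rw [pr_apply, DirectSum.decompose_of_mem_ne 𝒱 hx h]

theorem pr_pr (i : ι) (x : V) : pr 𝒱 i (pr 𝒱 i x) = pr 𝒱 i x := pr_of_mem 𝒱 (pr_mem 𝒱 i x)

theorem exists_finset_sum_pr (x : V) : ∃ s : Finset ι, x = ∑ i ∈ s, pr 𝒱 i x ∧ ∀ i ∉ s, pr 𝒱 i x = 0 := by
  classical
  refine ⟨(DirectSum.decompose 𝒱 x).support, ?_, ?_⟩
  · conv_lhs => rw [← DirectSum.sum_support_decompose 𝒱 x]
    rfl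
  · intro i hi
    rw [pr_apply]
    simpa using hi

theorem eq_zero_of_pr {x : V} (h : ∀ i, pr 𝒱 i x = 0) : x = 0 := by
  obtain ⟨s, hs, -⟩ := exists_finset_sum_pr 𝒱 x
  rw [hs]
  exact Finset.sum_eq_zero fun i _ => h i

theorem ext_pr {x y : V} (h : ∀ i, pr 𝒱 i x = pr 𝒱 i y) : x = y := by
  rw [← sub_eq_zero]
  exact eq_zero_of_pr 𝒱 fun i => by rw [map_sub, h i, sub_self]

theorem mem_of_pr {i : ι} {x : V} (h : ∀ j, j ≠ i → pr 𝒱 j x = 0) : x ∈ 𝒱 i := by
  have : x = pr 𝒱 i x := by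
    refine ext_pr 𝒱 fun j => ?_
    by_cases hj : j = i
    · subst hj; rw [pr_pr]
    · rw [h j hj, pr_of_mem_ne 𝒱 (pr_mem 𝒱 i x) (Ne.symm hj)]
  rw [this]; exact pr_mem 𝒱 i x

/-- Induction for `V ⊗ W` on homogeneous pure tensors. -/
theorem tensor_induction {p : V ⊗[k] W → Prop} (h0 : p 0) (hadd : ∀ x y, p x → p y → p (x + y))
    (hpure : ∀ (i j : ι) (x : V) (y : W), x ∈ 𝒱 i → y ∈ 𝒲 j → p (x ⊗ₜ y)) (w : V ⊗[k] W) : p w := by
  classical
  have hsum : ∀ (s : Finset (ι × ι)) (f : ι × ι → V ⊗[k] W), (∀ a ∈ s, p (f a)) → p (∑ a ∈ s, f a) := by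
    intro s f
    induction s using Finset.induction_on with
    | empty => intro _; simpa using h0
    | insert a s ha ih =>
      intro h
      rw [Finset.sum_insert ha]
      exact hadd _ _ (h a (Finset.mem_insert_self _ _)) (ih fun b hb => h b (Finset.mem_insert_of_mem hb))
  induction w using TensorProduct.induction_on with
  | zero => exact h0
  | add x y hx hy => exact hadd x y hx hy
  | tmul x y =>
    obtain ⟨s, hs, -⟩ := exists_finset_sum_pr 𝒱 x
    obtain ⟨t, ht, -⟩ := exists_finset_sum_pr 𝒲 y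
    rw [hs, ht, TensorProduct.sum_tmul]
    simp_rw [TensorProduct.tmul_sum]
    rw [← Finset.sum_product' s t (fun i j => pr 𝒱 i x ⊗ₜ[k] pr 𝒲 j y)]
    exact hsum _ _ fun a _ => hpure a.1 a.2 _ _ (pr_mem 𝒱 _ _) (pr_mem 𝒲 _ _)

theorem tensor_hom_ext {P : Type*} [AddCommGroup P] [Module k P] {f g : V ⊗[k] W →ₗ[k] P}
    (h : ∀ (i j : ι) (x : V) (y : W), x ∈ 𝒱 i → y ∈ 𝒲 j → f (x ⊗ₜ y) = g (x ⊗ₜ y)) : f = g := by
  refine LinearMap.ext fun w => ?_
  induction w using tensor_induction 𝒱 𝒲 with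
  | h0 => simp
  | hadd x y hx hy => rw [map_add, map_add, hx, hy]
  | hpure i j x y hx hy => exact h i j x y hx hy

theorem mem_segrePiece_tmul {n : ι} {x : V} {y : W} (hx : x ∈ 𝒱 n) (hy : y ∈ 𝒲 n) :
    x ⊗ₜ[k] y ∈ GrSeg.segrePiece k 𝒱 𝒲 n := Submodule.subset_span ⟨x, hx, y, hy, rfl⟩

/-- bidegree projection. -/
noncomputable def bpr (i j : ι) : V ⊗[k] W →ₗ[k] V ⊗[k] W := TensorProduct.map (pr 𝒱 i) (pr 𝒲 j)

theorem bpr_tmul (i j : ι) (x : V) (y : W) : bpr 𝒱 𝒲 i j (x ⊗ₜ y) = pr 𝒱 i x ⊗ₜ pr 𝒲 j y := rfl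

theorem bpr_mem (n : ι) (w : V ⊗[k] W) : bpr 𝒱 𝒲 n n w ∈ GrSeg.segrePiece k 𝒱 𝒲 n := by
  induction w using TensorProduct.induction_on with
  | zero => simp
  | add x y hx hy => rw [map_add]; exact add_mem hx hy
  | tmul x y => exact mem_segrePiece_tmul 𝒱 𝒲 (pr_mem 𝒱 n x) (pr_mem 𝒲 n y)

theorem bpr_of_mem {n : ι} {w : V ⊗[k] W} (hw : w ∈ GrSeg.segrePiece k 𝒱 𝒲 n) : bpr 𝒱 𝒲 n n w = w := by
  induction hw using Submodule.span_induction with
  | mem x hx => obtain ⟨a, ha, b, hb, rfl⟩ := hx; rw [bpr_tmul, pr_of_mem 𝒱 ha, pr_of_mem 𝒲 hb]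
  | zero => simp
  | add x y _ _ hx hy => rw [map_add, hx, hy]
  | smul c x _ hx => rw [map_smul, hx]

theorem bpr_of_mem_ne {n i j : ι} {w : V ⊗[k] W} (hw : w ∈ GrSeg.segrePiece k 𝒱 𝒲 n) (h : n ≠ i ∨ n ≠ j) :
    bpr 𝒱 𝒲 i j w = 0 := by
  induction hw using Submodule.span_induction with
  | mem x hx =>
    obtain ⟨a, ha, b, hb, rfl⟩ := hx
    rw [bpr_tmul]
    rcases h with h | h
    · rw [pr_of_mem_ne 𝒱 ha h, TensorProduct.zero_tmul]
    · rw [pr_of_mem_ne 𝒲 hb h, TensorProduct.tmul_zero]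
  | zero => simp
  | add x y _ _ hx hy => rw [map_add, hx, hy, add_zero]
  | smul c x _ hx => rw [map_smul, hx, smul_zero]

theorem mem_segrePiece_iff {n : ι} {w : V ⊗[k] W} :
    w ∈ GrSeg.segrePiece k 𝒱 𝒲 n ↔ bpr 𝒱 𝒲 n n w = w :=
  ⟨bpr_of_mem 𝒱 𝒲, fun h => h ▸ bpr_mem 𝒱 𝒲 n w⟩

/-- The projection of `V ⊗ W` onto its diagonal part `⊕ V_n ⊗ W_n`. -/
noncomputable def dg : V ⊗[k] W →ₗ[k] V ⊗[k] W :=
  TensorProduct.lift ((DirectSum.toModule k ι (W →ₗ[k] V ⊗[k] W)
    (fun n => (TensorProduct.mk k V W).compl₂ (pr 𝒲 n) ∘ₗ (𝒱 n).subtype)) ∘ₗ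
      (DirectSum.decomposeLinearEquiv 𝒱).toLinearMap)

theorem dg_tmul_left {n : ι} {x : V} (hx : x ∈ 𝒱 n) (y : W) :
    dg 𝒱 𝒲 (x ⊗ₜ y) = x ⊗ₜ pr 𝒲 n y := by
  have h : DirectSum.decomposeLinearEquiv 𝒱 x = DirectSum.lof k ι (fun i => 𝒱 i) n ⟨x, hx⟩ :=
    DirectSum.decompose_of_mem 𝒱 hx
  rw [dg, TensorProduct.lift.tmul, LinearMap.comp_apply, LinearEquiv.coe_coe, h, DirectSum.toModule_lof]
  rfl

theorem dg_tmul_same {n : ι} {x : V} (hx : x ∈ 𝒱 n) {y : W} (hy : y ∈ 𝒲 n) :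
    dg 𝒱 𝒲 (x ⊗ₜ y) = x ⊗ₜ y := by rw [dg_tmul_left 𝒱 𝒲 hx, pr_of_mem 𝒲 hy]

theorem dg_tmul_ne {i j : ι} {x : V} (hx : x ∈ 𝒱 i) {y : W} (hy : y ∈ 𝒲 j) (h : j ≠ i) :
    dg 𝒱 𝒲 (x ⊗ₜ y) = 0 := by rw [dg_tmul_left 𝒱 𝒲 hx, pr_of_mem_ne 𝒲 hy h, TensorProduct.tmul_zero]

theorem dg_of_mem {n : ι} {w : V ⊗[k] W} (hw : w ∈ GrSeg.segrePiece k 𝒱 𝒲 n) : dg 𝒱 𝒲 w = w := by
  induction hw using Submodule.span_induction with
  | mem x hx => obtain ⟨a, ha, b, hb, rfl⟩ := hx; rw [dg_tmul_same 𝒱 𝒲 ha hb]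
  | zero => simp
  | add x y _ _ hx hy => rw [map_add, hx, hy]
  | smul c x _ hx => rw [map_smul, hx]

theorem dg_mem (w : V ⊗[k] W) : dg 𝒱 𝒲 w ∈ ⨆ n, GrSeg.segrePiece k 𝒱 𝒲 n := by
  induction w using tensor_induction 𝒱 𝒲 with
  | h0 => simp
  | hadd x y hx hy => rw [map_add]; exact add_mem hx hy
  | hpure i j x y hx hy =>
    by_cases h : j = i
    · subst h
      rw [dg_tmul_same 𝒱 𝒲 hx hy]
      exact Submodule.mem_iSup_of_mem j (mem_segrePiece_tmul 𝒱 𝒲 hx hy)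
    · rw [dg_tmul_ne 𝒱 𝒲 hx hy h]; exact zero_mem _

theorem dg_of_mem_iSup {w : V ⊗[k] W} (hw : w ∈ ⨆ n, GrSeg.segrePiece k 𝒱 𝒲 n) : dg 𝒱 𝒲 w = w := by
  induction hw using Submodule.iSup_induction' with
  | mem n x hx => exact dg_of_mem 𝒱 𝒲 hx
  | zero => simp
  | add x y _ _ hx hy => rw [map_add, hx, hy]

end Lin

section Act

variable {k : Type u} [CommRing k] {R S : Type u} [CommRing R] [CommRing S] [Algebra k R] [Algebra k S]
  {M N : Type u} [AddCommGroup M] [Module R M] [Module k M] [IsScalarTower k R M]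
  [AddCommGroup N] [Module S N] [Module k N] [IsScalarTower k S N]

variable (k R S M N) in
/-- The action of `R ⊗ S` on `M ⊗ N` as a ring homomorphism to the endomorphism ring. -/
noncomputable def actHom : R ⊗[k] S →ₐ[k] Module.End k (M ⊗[k] N) :=
  (Module.endTensorEndAlgHom (R := k) (S := k) (A := k) (M := M) (N := N)).comp
    (Algebra.TensorProduct.map (Algebra.lsmul k k M) (Algebra.lsmul k k N))

theorem actHom_eq_act (c : R ⊗[k] S) (w : M ⊗[k] N) :
    actHom k R S M N c w = GrSeg.act k R S M N c w := by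
  induction c using TensorProduct.induction_on with
  | zero => simp
  | add x y hx hy => rw [map_add, LinearMap.add_apply, hx, hy, map_add, LinearMap.add_apply]
  | tmul r s =>
    induction w using TensorProduct.induction_on with
    | zero => simp
    | add x y hx hy => rw [map_add, hx, hy, map_add]
    | tmul x y =>
      rw [GrSeg.act_tmul]
      rfl

theorem act_one (w : M ⊗[k] N) : GrSeg.act k R S M N 1 w = w := by
  rw [← actHom_eq_act, map_one, Module.End.one_apply]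

theorem act_mul (c c' : R ⊗[k] S) (w : M ⊗[k] N) :
    GrSeg.act k R S M N (c * c') w = GrSeg.act k R S M N c (GrSeg.act k R S M N c' w) := by
  rw [← actHom_eq_act, ← actHom_eq_act, ← actHom_eq_act, map_mul, Module.End.mul_apply]

theorem act_self (c w : R ⊗[k] S) : GrSeg.act k R S R S c w = c * w := by
  induction c using TensorProduct.induction_on with
  | zero => simp
  | add x y hx hy => rw [map_add, LinearMap.add_apply, hx, hy, add_mul]
  | tmul r s =>
    induction w using TensorProduct.induction_on with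
    | zero => simp
    | add x y hx hy => rw [map_add, hx, hy, mul_add]
    | tmul x y => rw [GrSeg.act_tmul, Algebra.TensorProduct.tmul_mul_tmul]; rfl

variable (k R S M N) in
/-- The `R ⊗ S`-module structure on `M ⊗ N` given by `GrSeg.act`. -/
@[reducible] noncomputable def actModule : Module (R ⊗[k] S) (M ⊗[k] N) :=
  Module.compHom (M ⊗[k] N) (actHom k R S M N).toRingHom

theorem actModule_smul (c : R ⊗[k] S) (w : M ⊗[k] N) :
    (letI := actModule k R S M N; c • w) = GrSeg.act k R S M N c w := actHom_eq_act c w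

theorem actModule_finite [Module.Finite R M] [Module.Finite S N] :
    letI := actModule k R S M N
    Module.Finite (R ⊗[k] S) (M ⊗[k] N) := by
  letI := actModule k R S M N
  have hsm : ∀ (c : R ⊗[k] S) (w : M ⊗[k] N), c • w = GrSeg.act k R S M N c w := fun c w => actHom_eq_act c w
  obtain ⟨s, hs⟩ := (Module.Finite.fg_top : (⊤ : Submodule R M).FG)
  obtain ⟨t, ht⟩ := (Module.Finite.fg_top : (⊤ : Submodule S N).FG)
  classical
  refine ⟨⟨Finset.image₂ (fun x y => x ⊗ₜ[k] y) s t, ?_⟩⟩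
  rw [eq_top_iff]
  rintro w -
  induction w using TensorProduct.induction_on with
  | zero => exact zero_mem _
  | add x y hx hy => exact add_mem hx hy
  | tmul x y =>
    have hx : x ∈ Submodule.span R (s : Set M) := by rw [hs]; trivial
    have hy : y ∈ Submodule.span S (t : Set N) := by rw [ht]; trivial
    induction hx using Submodule.span_induction with
    | mem x hx =>
      induction hy using Submodule.span_induction with
      | mem y hy => exact Submodule.subset_span (by simpa using ⟨x, hx, y, hy, rfl⟩)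
      | zero => rw [TensorProduct.tmul_zero]; exact zero_mem _
      | add y y' _ _ h h' => rw [TensorProduct.tmul_add]; exact add_mem h h'
      | smul c y _ h =>
        have : x ⊗ₜ[k] (c • y) = ((1 : R) ⊗ₜ[k] c) • (x ⊗ₜ[k] y) := by
          rw [hsm, GrSeg.act_tmul, one_smul]
        rw [this]; exact Submodule.smul_mem _ _ h
    | zero => rw [TensorProduct.zero_tmul]; exact zero_mem _
    | add x x' _ _ h h' => rw [TensorProduct.add_tmul]; exact add_mem h h'
    | smul c x _ h =>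
      have : (c • x) ⊗ₜ[k] y = (c ⊗ₜ[k] (1 : S)) • (x ⊗ₜ[k] y) := by
        rw [hsm, GrSeg.act_tmul, one_smul]
      rw [this]; exact Submodule.smul_mem _ _ h

end Act

end K962.Basic
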