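import Groth.Agent.GrSegre.K962.TotAug

/-!
# The Künneth isomorphism for the diagonal part of the total complex
-/

set_option autoImplicit false
set_option linter.unusedSectionVars false
set_option linter.style.haveILetI false
set_option warn.classDefReducibility false
universe u
open scoped TensorProduct DirectSum
open K759.Gr K759.GrObj K962.Basic K962.Pieces K962.KM K962.Seg K962.Tot K962.TotK K962.TotTors
open Groth.Agent.Ega3B.KunnethAlg

namespace K962.Coh

section Ho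

variable {k : Type u} [CommRing k] {R : Type u} [CommRing R] [Algebra k R]
  {ι : Type} [AddCommGroup ι] [DecidableEq ι] {𝒜 : ι → Submodule k R} [GradedAlgebra 𝒜]
  {C : ℕ → KMod.{u} 𝒜} {d : ∀ p, (C p).carrier →ₗ[R] (C (p + 1)).carrier}
  (hd : ∀ p, GrLC.IsGrHom (C p).gr (C (p + 1)).gr (d p))

/-- cocycles -/
noncomputable def Zo (p : ℕ) : KMod.{u} 𝒜 :=
  letI := subDec (C p).gr (LinearMap.ker (d p)) (isHomogeneous_ker (hd p))
  { carrier := LinearMap.ker (d p)
    gr := subGr (C p).gr (LinearMap.ker (d p)) }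

/-- the inclusion of cocycles -/
noncomputable def zsub (p : ℕ) : (Zo hd p).carrier →ₗ[R] (C p).carrier := (LinearMap.ker (d p)).subtype

theorem zsub_injective (p : ℕ) : Function.Injective (zsub hd p) := Subtype.val_injective

theorem zsub_grHom (p : ℕ) : GrLC.IsGrHom (Zo hd p).gr (C p).gr (zsub hd p) := fun _ _ h => h

theorem mem_Zo {p : ℕ} {i : ι} {z : (Zo hd p).carrier} : z ∈ (Zo hd p).gr i ↔ zsub hd p z ∈ (C p).gr i := Iff.rfl

/-- coboundaries -/
noncomputable def bd : ∀ p, Submodule R (Zo hd p).carrier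
  | 0 => ⊥
  | p + 1 => (LinearMap.range (d p)).comap (zsub hd (p + 1))

theorem bd_homogeneous (p : ℕ) : (bd hd p).IsHomogeneous (Zo hd p).gr := by
  cases p with
  | zero => exact isHomogeneous_bot (Zo hd 0).gr
  | succ p => exact isHomogeneous_comap (zsub_grHom hd (p + 1)) (isHomogeneous_range (hd p))

/-- cohomology -/
noncomputable def Ho (p : ℕ) : KMod.{u} 𝒜 := quot (Zo hd p) (bd hd p) (bd_homogeneous hd p)

/-- the class map -/
noncomputable def hpi (p : ℕ) : (Zo hd p).carrier →ₗ[R] (Ho hd p).carrier :=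
  quotπ (Zo hd p) (bd hd p) (bd_homogeneous hd p)

theorem hpi_grHom (p : ℕ) : GrLC.IsGrHom (Zo hd p).gr (Ho hd p).gr (hpi hd p) := quotπ_grHom _ _ _

theorem hpi_surjective (p : ℕ) : Function.Surjective (hpi hd p) := quotπ_surjective _ _ _

theorem hpi_eq_zero_iff {p : ℕ} {z : (Zo hd p).carrier} : hpi hd p z = 0 ↔ z ∈ bd hd p := quotπ_eq_zero_iff _ _ _

theorem hpi_zero_eq_zero_iff {z : (Zo hd 0).carrier} : hpi hd 0 z = 0 ↔ z = 0 := hpi_eq_zero_iff hd

theorem hpi_succ_eq_zero_iff {p : ℕ} {z : (Zo hd (p + 1)).carrier} :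
    hpi hd (p + 1) z = 0 ↔ ∃ y, d p y = zsub hd (p + 1) z := hpi_eq_zero_iff hd

theorem exists_hpi_eq {p : ℕ} {i : ι} {h : (Ho hd p).carrier} (hh : h ∈ (Ho hd p).gr i) :
    ∃ z ∈ (Zo hd p).gr i, hpi hd p z = h := by
  obtain ⟨z, hz, rfl⟩ := hh
  exact ⟨z, hz, rfl⟩

end Ho

section Kun

variable {k : Type u} [Field k] {R S T : Type u} [CommRing R] [Algebra k R] [CommRing S] [Algebra k S]
  [CommRing T] [Algebra k T]
  {ι : Type} [AddCommGroup ι] [DecidableEq ι]
  {𝒜 : ι → Submodule k R} [GradedAlgebra 𝒜] {ℬ : ι → Submodule k S} [GradedAlgebra ℬ]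
  {𝒯 : ι → Submodule k T} [GradedAlgebra 𝒯] {ψ : T →ₐ[k] R ⊗[k] S}
  {C : ℕ → KMod.{u} 𝒜} {d : ∀ p, (C p).carrier →ₗ[R] (C (p + 1)).carrier}
  {D : ℕ → KMod.{u} ℬ} {e : ∀ p, (D p).carrier →ₗ[S] (D (p + 1)).carrier}
  (hd : ∀ p, GrLC.IsGrHom (C p).gr (C (p + 1)).gr (d p))
  (he : ∀ p, GrLC.IsGrHom (D p).gr (D (p + 1)).gr (e p))

variable (ψ) in
/-- families of elements of `Z ⊗ Z'` -/
abbrev ZZ : Type u := ∀ p q : ℕ, TT ψ (Zo hd p).carrier (Zo he q).carrier

variable (ψ) in
/-- families of elements of `H ⊗ H'` -/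
abbrev HH : Type u := ∀ p q : ℕ, TT ψ (Ho hd p).carrier (Ho he q).carrier

variable (ψ) in
/-- `Z ⊗ Z' → C ⊗ D` -/
noncomputable def zι : ZZ ψ hd he →ₗ[T] Full ψ C D where
  toFun ζ := fun p q => mapTT (zsub hd p) (zsub he q) (ζ p q)
  map_add' _ _ := by funext p q; exact map_add _ _ _
  map_smul' t _ := by funext p q; exact (mapTT (zsub hd p) (zsub he q)).map_smul t _

variable (ψ) in
/-- `Z ⊗ Z' → H ⊗ H'` -/
noncomputable def zπ : ZZ ψ hd he →ₗ[T] HH ψ hd he where
  toFun ζ := fun p q => mapTT (hpi hd p) (hpi he q) (ζ p q)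
  map_add' _ _ := by funext p q; exact map_add _ _ _
  map_smul' t _ := by funext p q; exact (mapTT (hpi hd p) (hpi he q)).map_smul t _

theorem zπ_surjective : Function.Surjective (zπ ψ hd he) := by
  intro h
  have : ∀ p q, ∃ z, mapTT (ψ := ψ) (hpi hd p) (hpi he q) z = h p q := fun p q =>
    TensorProduct.map_surjective (g := (hpi hd p).restrictScalars k) (g' := (hpi he q).restrictScalars k)
      (hpi_surjective hd p) (hpi_surjective he q) (h p q)
  choose z hz using this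
  exact ⟨z, funext fun p => funext fun q => hz p q⟩

/-- comparison of the two versions of the cocycles -/
noncomputable def idZ (p : ℕ) : LinearMap.ker (dk d p) →ₗ[k] (Zo hd p).carrier where
  toFun z := ⟨z.1, z.2⟩
  map_add' _ _ := rfl
  map_smul' _ _ := rfl

noncomputable def idZ' (p : ℕ) : (Zo hd p).carrier →ₗ[k] LinearMap.ker (dk d p) where
  toFun z := ⟨z.1, z.2⟩
  map_add' _ _ := rfl
  map_smul' _ _ := rfl

theorem exists_rep (hdd : ∀ p x, d (p + 1) (d p x) = 0) (hee : ∀ p x, e (p + 1) (e p x) = 0)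
    {w : Full ψ C D} (hw : DT d e w = 0) :
    ∃ (ζ : ZZ ψ hd he) (w' : Full ψ C D), w = zι ψ hd he ζ + DT d e w' := by
  obtain ⟨w', ζ, h⟩ := exists_kun hdd hee hw
  refine ⟨fun p q => toTT (TensorProduct.map (idZ hd p) (idZ he q) (ζ p q)), w', ?_⟩
  funext p q
  rw [h p q]
  show _ = (mapTT (zsub hd p) (zsub he q) (toTT (TensorProduct.map (idZ hd p) (idZ he q) (ζ p q)))) + _
  rw [mapTT_toTT, ← LinearMap.comp_apply (f := TensorProduct.map _ _), ← TensorProduct.map_comp]
  rfl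

theorem zπ_eq_zero (hdd : ∀ p x, d (p + 1) (d p x) = 0) (hee : ∀ p x, e (p + 1) (e p x) = 0)
    {ζ : ZZ ψ hd he} {w : Full ψ C D} (h : zι ψ hd he ζ = DT d e w) : zπ ψ hd he ζ = 0 := by
  have key := K962.Kun.inj (d := dk d) (e := dk e) (fun p => LinearMap.ext fun x => hdd p x)
    (fun p => LinearMap.ext fun x => hee p x)
    (fun p q => TensorProduct.map (idZ' hd p) (idZ' he q) (toTT.symm (ζ p q))) (fun p q => toTT.symm (w p q))
    (fun p q => by
      rw [← DT_apply, ← h, ← LinearMap.comp_apply (f := TensorProduct.map _ _), ← TensorProduct.map_comp]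
      rfl)
  have hl : ∀ p, ∃ l : (LinearMap.ker (dk d p) ⧸ bz (dk d) p) →ₗ[k] (Ho hd p).carrier,
      l ∘ₗ (bz (dk d) p).mkQ ∘ₗ idZ' hd p = (hpi hd p).restrictScalars k := by
    intro p
    refine ⟨(bz (dk d) p).liftQ ((hpi hd p).restrictScalars k ∘ₗ idZ hd p) ?_, ?_⟩
    · intro z hz
      rw [LinearMap.mem_ker, LinearMap.comp_apply]
      refine (hpi_eq_zero_iff hd).2 ?_
      cases p with
      | zero => exact (Submodule.mem_bot R).2 (zsub_injective hd 0 hz)
      | succ p => exact hz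
    · ext z; rfl
  have hl' : ∀ p, ∃ l : (LinearMap.ker (dk e p) ⧸ bz (dk e) p) →ₗ[k] (Ho he p).carrier,
      l ∘ₗ (bz (dk e) p).mkQ ∘ₗ idZ' he p = (hpi he p).restrictScalars k := by
    intro p
    refine ⟨(bz (dk e) p).liftQ ((hpi he p).restrictScalars k ∘ₗ idZ he p) ?_, ?_⟩
    · intro z hz
      rw [LinearMap.mem_ker, LinearMap.comp_apply]
      refine (hpi_eq_zero_iff he).2 ?_
      cases p with
      | zero => exact (Submodule.mem_bot S).2 (zsub_injective he 0 hz)
      | succ p => exact hz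
    · ext z; rfl
  funext p q
  obtain ⟨l, hl⟩ := hl p
  obtain ⟨l', hl'⟩ := hl' q
  apply toTT.symm.injective
  rw [show ((0 : HH ψ hd he) p q) = 0 from rfl, map_zero]
  show TensorProduct.map ((hpi hd p).restrictScalars k) ((hpi he q).restrictScalars k) (toTT.symm (ζ p q)) = 0
  rw [← hl, ← hl', TensorProduct.map_comp, TensorProduct.map_comp, LinearMap.comp_apply, LinearMap.comp_apply,
    key, map_zero]

end Kun

end K962.Coh
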