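import Groth.Agent.GrSegre.K962.CanSeg
import Groth.Agent.GrDual.K993.Fin

/-!
# *Canonical modules and graded duals

For a graded ring `R` over a field `k`, a homogeneous isomorphism `Hom_R(C, *E(k)) ≅ H` is the same thing as
a perfect pairing presenting `H` as the graded dual of `C`; and the Segre product of graded duals is the graded
dual of the Segre product.
-/

set_option autoImplicit false
set_option linter.unusedSectionVars false
set_option linter.unusedVariables false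
set_option linter.style.haveILetI false
set_option warn.classDefReducibility false
universe u
open scoped TensorProduct DirectSum
open GrLC

namespace K962.Dual

section One

variable {k : Type u} [Field k] {R : Type u} [CommRing R] [Algebra k R] [Nontrivial R]
  {𝒜 : ℤ → Submodule k R} [GradedAlgebra 𝒜]
variable (hpos : ∀ n : ℤ, n < 0 → 𝒜 n = ⊥) (h0 : 𝒜 0 = Submodule.span k {(1 : R)})
  {mR : HomogeneousIdeal 𝒜} (hmR : mR.toIdeal = Ideal.span (⋃ n ∈ Set.Ioi (0 : ℤ), (𝒜 n : Set R)))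
  {E : Type u} [AddCommGroup E] [Module R E] [Module k E] [IsScalarTower k R E]
  {𝓔 : ℤ → AddSubgroup E} [DirectSum.Decomposition 𝓔]
  [SetLike.GradedSMul 𝒜 𝓔] {e : (R ⧸ mR.toIdeal) →ₗ[R] E}

include hpos in
theorem hpos' : ∀ n : ℤ, n < 0 → ∀ x ∈ 𝒜 n, x = 0 := fun n hn x hx => by
  rw [hpos n hn] at hx; exact (Submodule.mem_bot k).1 hx

/-- A functional on `*E(k)` with the properties of the projection onto the socle. -/
structure IsLam (𝓔 : ℤ → AddSubgroup E) (R : Type u) [CommRing R] [Module R E] (e1 : E) (lam : E →ₗ[k] k) : Prop where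
  vanish : ∀ n : ℤ, n ≠ 0 → ∀ x ∈ 𝓔 n, lam x = 0
  e1_mem : e1 ∈ 𝓔 0
  lam_e1 : lam e1 = 1
  eq_smul : ∀ x ∈ 𝓔 0, x = lam x • e1
  exists_ne : ∀ x : E, x ≠ 0 → ∃ r : R, lam (r • x) ≠ 0

include hpos h0 hmR in
theorem exists_lam (he : IsStarEss (quotGr 𝒜 mR) 𝓔 e) : ∃ (e1 : E) (lam : E →ₗ[k] k), IsLam 𝓔 R e1 lam := by
  have hp := hpos' hpos
  have hf := K962.Fld.isField_deg0 h0
  obtain ⟨e1, he1⟩ : ∃ e1, e1 = e (Ideal.Quotient.mk mR.toIdeal 1) := ⟨_, rfl⟩
  have he1m : e1 ∈ 𝓔 0 := by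
    rw [he1]; exact K962.Mat.e_mk_mem he.grHom SetLike.GradedOne.one_mem
  have he10 : e1 ≠ 0 := by
    intro h
    rw [he1, map_one] at h
    have h2 : (1 : R ⧸ mR.toIdeal) = 0 := he.injective (by rw [h, map_zero])
    have h3 : (1 : R) ∈ mR.toIdeal := by
      rw [← Ideal.Quotient.eq_zero_iff_mem, map_one]; exact h2
    exact K962.Mat.ne_top hp hf hmR ((Ideal.eq_top_iff_one _).2 h3)
  obtain ⟨g, hg⟩ := K993.Basic.exists_functional_ne (k := k) he10
  let lam : E →ₗ[k] k := ((g e1)⁻¹ • g) ∘ₗ K993.Basic.cpk 𝒜 𝓔 0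
  have hlam : ∀ x, lam x = (g e1)⁻¹ * g (K993.Basic.cp 𝓔 0 x) := fun x => rfl
  have hlam1 : lam e1 = 1 := by
    rw [hlam, K993.Basic.cp_same 𝓔 he1m]; exact inv_mul_cancel₀ hg
  refine ⟨e1, lam, ?_, he1m, hlam1, ?_, ?_⟩
  · intro n hn x hx
    rw [hlam, K993.Basic.cp_ne 𝓔 hx hn, map_zero, mul_zero]
  · intro x hx
    obtain ⟨a, ha, rfl⟩ := K962.Mat.mem_range_of_zero hp hf hmR he hx
    obtain ⟨c, rfl⟩ := K993.Fin.exists_scalar 𝒜 h0 ha
    have h1 : e (Ideal.Quotient.mk mR.toIdeal (algebraMap k R c)) = c • e1 := by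
      rw [he1, ← algebraMap_smul R c, ← map_smul]
      congr 1
      rw [← Ideal.Quotient.mk_eq_mk, ← Ideal.Quotient.mk_eq_mk, ← Submodule.Quotient.mk_smul, smul_eq_mul,
        mul_one]
    rw [h1, map_smul, hlam1, smul_eq_mul, mul_one]
  · intro x hx
    by_contra hcon
    push Not at hcon
    apply hx
    apply K993.Basic.eq_zero_of_cp 𝓔
    intro j
    by_contra hne
    obtain ⟨-, r, hr, hre⟩ := K962.Mat.exists_smul_eq hp hf hmR he (K993.Basic.cp_mem 𝓔 j x) hne
    have h1 := hcon r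
    rw [hlam, K993.Basic.cp_smul_homog 𝒜 𝓔 hr, sub_neg_eq_add, zero_add, hre, ← he1] at h1
    have h2 := mul_ne_zero (inv_ne_zero hg) hg
    exact h2 h1

variable {C : Type u} [AddCommGroup C] [Module R C] [Module k C] [IsScalarTower k R C]
  {τ : Type u} [SetLike τ C] [AddSubgroupClass τ C]

/-- From a *canonical presentation to a graded dual. -/
theorem isGDual_of_equiv {𝒞 : ℤ → AddSubgroup C} [DirectSum.Decomposition 𝒞] [SetLike.GradedSMul 𝒜 𝒞]
    [Module.Finite R C] (hpos : ∀ n : ℤ, n < 0 → 𝒜 n = ⊥) (h0 : 𝒜 0 = Submodule.span k {(1 : R)})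
    (hmR : mR.toIdeal = Ideal.span (⋃ n ∈ Set.Ioi (0 : ℤ), (𝒜 n : Set R)))
    {H : Type u} [AddCommGroup H] [Module R H] [Module k H] [IsScalarTower k R H]
    {ℋ : ℤ → AddSubgroup H} [DirectSum.Decomposition ℋ]
    (he : IsStarInjHull 𝒜 (quotGr 𝒜 mR) 𝓔 e) (φ : (C →ₗ[R] E) ≃ₗ[R] H)
    (hφ : IsGrHom (fun d => (homDeg 𝒜 𝒞 𝓔 d).toAddSubgroup) ℋ φ.toLinearMap) :
    ∃ β : H →ₗ[k] C →ₗ[k] k, GrSeg.IsGDual R 𝒞 ℋ β := by
  have hp := hpos' hpos
  have hf := K962.Fld.isField_deg0 h0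
  obtain ⟨e1, lam, hl⟩ := exists_lam hpos h0 hmR he.toIsStarEss
  have hk : ∀ (c : k) (y : H) (x : C), (φ.symm (c • y)) x = c • (φ.symm y) x := by
    intro c y x
    rw [← algebraMap_smul R c y, map_smul, LinearMap.smul_apply, algebraMap_smul]
  have hk' : ∀ (c : k) (f : C →ₗ[R] E) (x : C), f (c • x) = c • f x := by
    intro c f x
    rw [← algebraMap_smul R c x, map_smul, algebraMap_smul]
  let β : H →ₗ[k] C →ₗ[k] k := LinearMap.mk₂ k (fun y x => lam ((φ.symm y) x))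
    (fun y y' x => by rw [map_add, LinearMap.add_apply, map_add])
    (fun c y x => by rw [hk, map_smul])
    (fun y x x' => by rw [map_add, map_add])
    (fun c y x => by rw [hk', map_smul])
  have hβ : ∀ y x, β y x = lam ((φ.symm y) x) := fun y x => rfl
  refine ⟨β, ?_, ?_, ?_, ?_⟩
  · intro r y x
    have h1 : (φ.symm y) (r • x) = r • (φ.symm y) x := map_smul _ r x
    have h2 : φ.symm (r • y) = r • φ.symm y := map_smul _ r y
    rw [hβ, hβ, h1, h2, LinearMap.smul_apply]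
  · intro n y hy m hm x hx
    rw [hβ]
    have h1 := K962.CanDim.exists_of_mem φ hφ hy
    exact hl.vanish (m + n) (by omega) _ (h1 m x hx)
  · intro n y hy hx
    have h1 := K962.CanDim.exists_of_mem φ hφ hy
    have h2 : φ.symm y = 0 := K962.Mat.eq_zero_of_comp hp hf hmR he.toIsStarEss (j := -n) (d := n) (by omega) h1
      (fun x hx' => by
        have h3 : (φ.symm y) x ∈ 𝓔 0 := by
          have := h1 (-n) x hx'
          rwa [neg_add_cancel] at this
        rw [hl.eq_smul _ h3, ← hβ, hx x hx', zero_smul])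
    rw [← φ.apply_symm_apply y, h2, map_zero]
  · intro n g
    let l : comp 𝒜 𝒞 (-n) →ₗ[deg0 𝒜] comp 𝒜 𝓔 0 :=
      { toFun := fun x => ⟨g x.1 • e1, K993.Basic.ksmul_mem 𝒜 𝓔 _ hl.e1_mem⟩
        map_add' := fun x y => Subtype.ext (by
          show g (x.1 + y.1) • e1 = g x.1 • e1 + g y.1 • e1
          rw [map_add, add_smul])
        map_smul' := fun a x => Subtype.ext (by
          obtain ⟨c, hc⟩ := K993.Fin.exists_scalar 𝒜 h0 a.2
          show g ((a : R) • x.1) • e1 = (a : R) • (g x.1 • e1)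
          rw [hc, algebraMap_smul, algebraMap_smul, map_smul, smul_assoc]) }
    obtain ⟨f, hf, hfl⟩ := K962.Mat.exists_extend hp hf hmR he (j := -n) (d := n) (by omega) l
    refine ⟨φ f, hφ n f hf, fun x hx => ?_⟩
    rw [hβ, LinearEquiv.symm_apply_apply, hfl ⟨x, hx⟩]
    show lam (g x • e1) = g x
    rw [map_smul, hl.lam_e1, smul_eq_mul, mul_one]

/-- From a graded dual to a *canonical presentation. -/
theorem exists_equiv_of_isGDual {𝒞 : ℤ → AddSubgroup C} [DirectSum.Decomposition 𝒞] [SetLike.GradedSMul 𝒜 𝒞]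
    [Module.Finite R C] (hpos : ∀ n : ℤ, n < 0 → 𝒜 n = ⊥) (h0 : 𝒜 0 = Submodule.span k {(1 : R)})
    (hmR : mR.toIdeal = Ideal.span (⋃ n ∈ Set.Ioi (0 : ℤ), (𝒜 n : Set R)))
    {H : Type u} [AddCommGroup H] [Module R H] [Module k H] [IsScalarTower k R H]
    {ℋ : ℤ → AddSubgroup H} [DirectSum.Decomposition ℋ]
    (he : IsStarInjHull 𝒜 (quotGr 𝒜 mR) 𝓔 e) {β : H →ₗ[k] C →ₗ[k] k} (hβ : GrSeg.IsGDual R 𝒞 ℋ β) :
    ∃ φ : (C →ₗ[R] E) ≃ₗ[R] H,
      IsGrHom (fun d => (homDeg 𝒜 𝒞 𝓔 d).toAddSubgroup) ℋ φ.toLinearMap := by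
  classical
  have hp := hpos' hpos
  have hf := K962.Fld.isField_deg0 h0
  obtain ⟨e1, lam, hl⟩ := exists_lam hpos h0 hmR he.toIsStarEss
  have hk' : ∀ (c : k) (f : C →ₗ[R] E) (x : C), f (c • x) = c • f x := by
    intro c f x
    rw [← algebraMap_smul R c x, map_smul, algebraMap_smul]
  -- the functional attached to `f`
  let F : (C →ₗ[R] E) → (C →ₗ[k] k) := fun f =>
    { toFun := fun x => lam (f x)
      map_add' := fun x y => by rw [map_add, map_add]
      map_smul' := fun c x => by rw [hk', map_smul]; rfl }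
  have hF : ∀ f x, F f x = lam (f x) := fun f x => rfl
  have hex : ∀ f : C →ₗ[R] E, ∃ y : H, ∀ x, β y x = lam (f x) := by
    intro f
    obtain ⟨D, -, hD⟩ := K761.Gr.exists_finset_homPr 𝒜 𝒞 𝓔 f
    obtain ⟨y, hy⟩ := K993.Basic.exists_rep hβ (D.image (fun d => -d)) (F f) (by
      intro m hm x hx
      rw [hF, ← hD D (Finset.Subset.refl D), LinearMap.sum_apply, map_sum]
      refine Finset.sum_eq_zero fun d hd => ?_
      refine hl.vanish (m + d) ?_ _ (K761.Gr.homPr_isGrHomDeg 𝒜 𝒞 𝓔 f d m x hx)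
      intro h
      exact hm (Finset.mem_image.2 ⟨d, hd, by omega⟩))
    exact ⟨y, hy⟩
  choose Ψ hΨ using hex
  have hΨu : ∀ f y, (∀ x, β y x = lam (f x)) → Ψ f = y := fun f y h =>
    K993.Basic.beta_ext hβ (fun x => by rw [hΨ, h])
  let φ₀ : (C →ₗ[R] E) →ₗ[R] H :=
    { toFun := Ψ
      map_add' := fun f g => hΨu _ _ (fun x => by
        rw [map_add, LinearMap.add_apply, hΨ, hΨ, LinearMap.add_apply, map_add])
      map_smul' := fun r f => hΨu _ _ (fun x => by
        rw [RingHom.id_apply, hβ.map_smul, hΨ, map_smul, LinearMap.smul_apply]) }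
  have hgr : IsGrHom (fun d => (homDeg 𝒜 𝒞 𝓔 d).toAddSubgroup) ℋ φ₀ := by
    intro d f hf'
    rw [K993.Basic.mem_piece_iff hβ]
    intro m hm x hx
    show β (Ψ f) x = 0
    rw [hΨ]
    exact hl.vanish (m + d) (by omega) _ (hf' m x hx)
  have hinj : Function.Injective φ₀ := by
    rw [injective_iff_map_eq_zero]
    intro f hf'
    ext x
    rw [LinearMap.zero_apply]
    by_contra hne
    obtain ⟨r, hr⟩ := hl.exists_ne _ hne
    apply hr
    rw [← map_smul, ← hΨ f]
    have : Ψ f = 0 := hf'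
    rw [this, map_zero, LinearMap.zero_apply]
  have hsurj : Function.Surjective φ₀ := by
    rw [← LinearMap.range_eq_top, eq_top_iff]
    intro y _
    induction y using K993.Basic.hom_induction ℋ with
    | h0 => exact zero_mem _
    | hadd x y hx hy => exact add_mem (hx trivial) (hy trivial)
    | hh n y hy =>
      let l : comp 𝒜 𝒞 (-n) →ₗ[deg0 𝒜] comp 𝒜 𝓔 0 :=
        { toFun := fun x => ⟨β y x.1 • e1, K993.Basic.ksmul_mem 𝒜 𝓔 _ hl.e1_mem⟩
          map_add' := fun x z => Subtype.ext (by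
            show β y (x.1 + z.1) • e1 = β y x.1 • e1 + β y z.1 • e1
            rw [map_add, add_smul])
          map_smul' := fun a x => Subtype.ext (by
            obtain ⟨c, hc⟩ := K993.Fin.exists_scalar 𝒜 h0 a.2
            show β y ((a : R) • x.1) • e1 = (a : R) • (β y x.1 • e1)
            rw [hc, algebraMap_smul, algebraMap_smul, map_smul, smul_assoc]) }
      obtain ⟨f, hf, hfl⟩ := K962.Mat.exists_extend hp hf hmR he (j := -n) (d := n) (by omega) l
      refine ⟨f, hΨu f y (fun x => ?_)⟩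
      induction x using K993.Basic.hom_induction 𝒞 with
      | h0 => rw [map_zero, map_zero, map_zero]
      | hadd x z hx hz => rw [map_add, map_add, map_add, hx, hz]
      | hh m x hx =>
        by_cases hm : m = -n
        · subst hm
          rw [hfl ⟨x, hx⟩]
          show β y x = lam (β y x • e1)
          rw [map_smul, hl.lam_e1, smul_eq_mul, mul_one]
        · rw [hβ.vanish n y hy m hm x hx]
          exact (hl.vanish (m + n) (by omega) _ (hf m x hx)).symm
  exact ⟨LinearEquiv.ofBijective φ₀ ⟨hinj, hsurj⟩, hgr⟩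

end One

section Bas

variable {k : Type u} [Field k] {R : Type u} [CommRing R] [Algebra k R]
  {𝒜 : ℤ → Submodule k R} [GradedAlgebra 𝒜]
  {M : Type u} [AddCommGroup M] [Module R M] [Module k M] [IsScalarTower k R M]
  {τ : Type u} [SetLike τ M] [AddSubgroupClass τ M]
  {ℳ : ℤ → τ} [DirectSum.Decomposition ℳ] [SetLike.GradedSMul 𝒜 ℳ]
  {D : Type u} [AddCommGroup D] [Module R D] [Module k D] [IsScalarTower k R D]
  {τ' : Type u} [SetLike τ' D] [AddSubgroupClass τ' D]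
  {𝒟 : ℤ → τ'} [DirectSum.Decomposition 𝒟]

variable (𝒜) in
/-- dual bases of a piece and its dual -/
theorem exists_dualBasis [SetLike.GradedSMul 𝒜 𝒟] {β : D →ₗ[k] M →ₗ[k] k} (h : GrSeg.IsGDual R ℳ 𝒟 β) (n : ℤ)
    [Module.Finite k (K993.Basic.kp (k := k) 𝒜 ℳ (-n))] :
    ∃ (ι : Type) (_ : Fintype ι) (x : ι → M) (d : ι → D),
      (∀ i, x i ∈ ℳ (-n)) ∧ (∀ i, d i ∈ 𝒟 n) ∧ (∀ y ∈ ℳ (-n), y = ∑ i, β (d i) y • x i) ∧
        (∀ z ∈ 𝒟 n, z = ∑ i, β z (x i) • d i) := by
  let b := Module.finBasis k (K993.Basic.kp (k := k) 𝒜 ℳ (-n))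
  have h1 : ∀ i, ∃ g : M →ₗ[k] k, g ∘ₗ (K993.Basic.kp (k := k) 𝒜 ℳ (-n)).subtype = b.coord i := fun i =>
    LinearMap.exists_extend _
  choose g hg using h1
  have h2 : ∀ i, ∃ d : D, d ∈ 𝒟 n ∧ ∀ x ∈ ℳ (-n), β d x = g i x := fun i => h.exists_eq n (g i)
  choose d hd hd' using h2
  have h3 : ∀ y ∈ ℳ (-n), y = ∑ i, β (d i) y • (b i : M) := by
    intro y hy
    have h4 := congrArg Subtype.val (b.sum_repr ⟨y, hy⟩)
    rw [AddSubmonoidClass.coe_finsetSum] at h4
    rw [eq_comm]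
    refine Eq.trans ?_ h4
    refine Finset.sum_congr rfl fun i _ => ?_
    rw [hd' i y hy]
    have h5 := LinearMap.congr_fun (hg i) ⟨y, hy⟩
    rw [LinearMap.comp_apply] at h5
    change g i y = _ at h5
    rw [h5]
    rfl
  refine ⟨Fin _, inferInstance, fun i => (b i : M), d, fun i => (b i).2, hd, h3, fun z hz => ?_⟩
  rw [← sub_eq_zero]
  refine h.eq_zero n _ (sub_mem hz (sum_mem fun i _ => K993.Basic.ksmul_mem 𝒜 𝒟 _ (hd i))) fun y hy => ?_
  rw [map_sub, LinearMap.sub_apply, sub_eq_zero]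
  conv_lhs => rw [h3 y hy]
  rw [map_sum, map_sum, LinearMap.sum_apply]
  refine Finset.sum_congr rfl fun i _ => ?_
  rw [map_smul, map_smul, LinearMap.smul_apply, smul_eq_mul, smul_eq_mul, mul_comm]

end Bas

section Two

variable {k : Type u} [Field k] {R S T : Type u} [CommRing R] [Algebra k R] [CommRing S] [Algebra k S]
  [CommRing T] [Algebra k T]
  {𝒜 : ℤ → Submodule k R} [GradedAlgebra 𝒜] {ℬ : ℤ → Submodule k S} [GradedAlgebra ℬ]
  {𝒯 : ℤ → Submodule k T} [GradedAlgebra 𝒯] {ψ : T →ₐ[k] R ⊗[k] S}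
  {M N P : Type u} [AddCommGroup M] [Module R M] [Module k M] [IsScalarTower k R M]
  [AddCommGroup N] [Module S N] [Module k N] [IsScalarTower k S N]
  [AddCommGroup P] [Module T P] [Module k P] [IsScalarTower k T P]
  {τM τN τQ : Type u} [SetLike τM M] [AddSubgroupClass τM M] [SetLike τN N] [AddSubgroupClass τN N]
  [SetLike τQ P] [AddSubgroupClass τQ P]
  {ℳ : ℤ → τM} [DirectSum.Decomposition ℳ] [SetLike.GradedSMul 𝒜 ℳ]
  {𝒩 : ℤ → τN} [DirectSum.Decomposition 𝒩] [SetLike.GradedSMul ℬ 𝒩]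
  {𝒬 : ℤ → τQ} [DirectSum.Decomposition 𝒬]
  {D F G : Type u} [AddCommGroup D] [Module R D] [Module k D] [IsScalarTower k R D]
  [AddCommGroup F] [Module S F] [Module k F] [IsScalarTower k S F]
  [AddCommGroup G] [Module T G] [Module k G] [IsScalarTower k T G]
  {τD τF τG : Type u} [SetLike τD D] [AddSubgroupClass τD D] [SetLike τF F] [AddSubgroupClass τF F]
  [SetLike τG G] [AddSubgroupClass τG G]
  {𝒟 : ℤ → τD} [DirectSum.Decomposition 𝒟] [SetLike.GradedSMul 𝒜 𝒟]
  {ℱ : ℤ → τF} [DirectSum.Decomposition ℱ] [SetLike.GradedSMul ℬ ℱ]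
  {𝒢 : ℤ → τG} [DirectSum.Decomposition 𝒢]

/-- The pairing of tensor products. -/
noncomputable def dd (βM : D →ₗ[k] M →ₗ[k] k) (βN : F →ₗ[k] N →ₗ[k] k) :
    D ⊗[k] F →ₗ[k] M ⊗[k] N →ₗ[k] k :=
  (TensorProduct.dualDistrib k M N) ∘ₗ (TensorProduct.map βM βN)

theorem dd_tmul (βM : D →ₗ[k] M →ₗ[k] k) (βN : F →ₗ[k] N →ₗ[k] k) (d : D) (f : F) (x : M) (y : N) :
    dd βM βN (d ⊗ₜ f) (x ⊗ₜ y) = βM d x * βN f y := by
  rw [dd, LinearMap.comp_apply, TensorProduct.map_tmul, TensorProduct.dualDistrib_apply]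

variable {βM : D →ₗ[k] M →ₗ[k] k} {βN : F →ₗ[k] N →ₗ[k] k} (hM : GrSeg.IsGDual R ℳ 𝒟 βM)
  (hN : GrSeg.IsGDual S 𝒩 ℱ βN)

include hM hN in
theorem dd_act (c : R ⊗[k] S) (w : D ⊗[k] F) (v : M ⊗[k] N) :
    dd βM βN (GrSeg.act k R S D F c w) v = dd βM βN w (GrSeg.act k R S M N c v) := by
  induction c using TensorProduct.induction_on with
  | zero => simp
  | add c c' h h' =>
    rw [map_add, LinearMap.add_apply, map_add, LinearMap.add_apply, h, h', map_add, LinearMap.add_apply, map_add]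
  | tmul r s =>
    induction w using TensorProduct.induction_on with
    | zero => simp
    | add w w' h h' =>
      rw [map_add, map_add, LinearMap.add_apply, h, h', map_add, LinearMap.add_apply]
    | tmul d f =>
      induction v using TensorProduct.induction_on with
      | zero => simp
      | add v v' h h' => rw [map_add, h, h', map_add, map_add]
      | tmul x y =>
        rw [GrSeg.act_tmul, GrSeg.act_tmul, dd_tmul, dd_tmul, hM.map_smul, hN.map_smul]

include hM hN in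
theorem dd_vanish {n m : ℤ} (hmn : m ≠ -n) {w : D ⊗[k] F} (hw : w ∈ GrSeg.segrePiece k 𝒟 ℱ n) {v : M ⊗[k] N}
    (hv : v ∈ GrSeg.segrePiece k ℳ 𝒩 m) : dd βM βN w v = 0 := by
  induction hw using Submodule.span_induction with
  | mem w hw =>
    obtain ⟨d, hd, f, hf, rfl⟩ := hw
    induction hv using Submodule.span_induction with
    | mem v hv =>
      obtain ⟨x, hx, y, hy, rfl⟩ := hv
      rw [dd_tmul, hM.vanish n d hd m hmn x hx, zero_mul]
    | zero => rw [map_zero]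
    | add v v' _ _ h h' => rw [map_add, h, h', add_zero]
    | smul c v _ h => rw [map_smul, h, smul_zero]
  | zero => rw [map_zero, LinearMap.zero_apply]
  | add w w' _ _ h h' => rw [map_add, LinearMap.add_apply, h, h', add_zero]
  | smul c w _ h => rw [map_smul, LinearMap.smul_apply, h, smul_zero]

/-- **The Segre product of graded duals is the graded dual of the Segre product.** -/
theorem isGDual_segre {φ : P →ₗ[k] M ⊗[k] N} (hP : GrSeg.IsSegreMod ψ ℳ 𝒩 𝒬 φ)
    {Φ : G →ₗ[k] D ⊗[k] F} (hG : GrSeg.IsSegreMod ψ 𝒟 ℱ 𝒢 Φ)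
    {βM : D →ₗ[k] M →ₗ[k] k} {βN : F →ₗ[k] N →ₗ[k] k} (hM : GrSeg.IsGDual R ℳ 𝒟 βM)
    (hN : GrSeg.IsGDual S 𝒩 ℱ βN)
    (hfM : ∀ n, Module.Finite k (K993.Basic.kp (k := k) 𝒜 ℳ n))
    (hfN : ∀ n, Module.Finite k (K993.Basic.kp (k := k) ℬ 𝒩 n)) :
    ∃ β : G →ₗ[k] P →ₗ[k] k, GrSeg.IsGDual T 𝒬 𝒢 β := by
  have himP : ∀ n, ∀ w, w ∈ GrSeg.segrePiece k ℳ 𝒩 n ↔ ∃ p ∈ 𝒬 n, φ p = w := fun n w =>
    (Set.ext_iff.1 (hP.image_piece n) w).symm
  have himG : ∀ n, ∀ w, w ∈ GrSeg.segrePiece k 𝒟 ℱ n ↔ ∃ p ∈ 𝒢 n, Φ p = w := fun n w =>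
    (Set.ext_iff.1 (hG.image_piece n) w).symm
  let β : G →ₗ[k] P →ₗ[k] k := LinearMap.mk₂ k (fun z p => dd βM βN (Φ z) (φ p))
    (fun z z' x => by rw [map_add, map_add, LinearMap.add_apply])
    (fun c z x => by rw [map_smul, map_smul, LinearMap.smul_apply])
    (fun z x x' => by rw [map_add, map_add])
    (fun c z x => by rw [map_smul, map_smul])
  have hβ : ∀ z p, β z p = dd βM βN (Φ z) (φ p) := fun z p => rfl
  refine ⟨β, ?_, ?_, ?_, ?_⟩
  · intro t z p
    rw [hβ, hβ, hG.map_smul, hP.map_smul, dd_act hM hN]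
  · intro n z hz m hm p hp
    rw [hβ]
    exact dd_vanish hM hN hm ((himG n _).2 ⟨z, hz, rfl⟩) ((himP m _).2 ⟨p, hp, rfl⟩)
  · intro n z hz hzp
    haveI := hfM (-n)
    haveI := hfN (-n)
    obtain ⟨ι, _, x, d, hx, hd, hxy, hdz⟩ := exists_dualBasis 𝒜 hM n
    obtain ⟨ι', _, y, f, hy, hf, hyy, hfz⟩ := exists_dualBasis ℬ hN n
    have key : ∀ w ∈ GrSeg.segrePiece k 𝒟 ℱ n,
        w = ∑ i, ∑ j, dd βM βN w (x i ⊗ₜ y j) • (d i ⊗ₜ[k] f j) := by
      intro w hw
      induction hw using Submodule.span_induction with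
      | mem w hw =>
        obtain ⟨a, ha, b, hb, rfl⟩ := hw
        conv_lhs => rw [hdz a ha, hfz b hb, TensorProduct.sum_tmul]
        refine Finset.sum_congr rfl fun i _ => ?_
        rw [TensorProduct.tmul_sum]
        refine Finset.sum_congr rfl fun j _ => ?_
        rw [TensorProduct.smul_tmul_smul, dd_tmul]
      | zero => simp
      | add w w' _ _ h h' =>
        conv_lhs => rw [h, h']
        simp only [map_add, LinearMap.add_apply, add_smul, Finset.sum_add_distrib]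
      | smul c w _ h =>
        conv_lhs => rw [h]
        simp only [map_smul, LinearMap.smul_apply, Finset.smul_sum, smul_assoc]
    have h1 : Φ z = 0 := by
      rw [key (Φ z) ((himG n _).2 ⟨z, hz, rfl⟩)]
      refine Finset.sum_eq_zero fun i _ => Finset.sum_eq_zero fun j _ => ?_
      obtain ⟨p, hp, hpe⟩ := (himP (-n) (x i ⊗ₜ y j)).1 (Submodule.subset_span ⟨x i, hx i, y j, hy j, rfl⟩)
      have := hzp p hp
      rw [hβ, hpe] at this
      rw [this, zero_smul]
    exact hG.injective (by rw [h1, map_zero])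
  · intro n g
    haveI := hfM (-n)
    haveI := hfN (-n)
    obtain ⟨ι, _, x, d, hx, hd, hxy, hdz⟩ := exists_dualBasis 𝒜 hM n
    obtain ⟨ι', _, y, f, hy, hf, hyy, hfz⟩ := exists_dualBasis ℬ hN n
    obtain ⟨r, hr⟩ := LinearMap.exists_leftInverse_of_injective φ (LinearMap.ker_eq_bot.2 hP.injective)
    obtain ⟨z, hz, hze⟩ := (himG n (∑ i, ∑ j, g (r (x i ⊗ₜ y j)) • (d i ⊗ₜ[k] f j))).1
      (sum_mem fun i _ => sum_mem fun j _ => Submodule.smul_mem _ _
        (Submodule.subset_span ⟨d i, hd i, f j, hf j, rfl⟩))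
    refine ⟨z, hz, fun p hp => ?_⟩
    have key : ∀ v ∈ GrSeg.segrePiece k ℳ 𝒩 (-n), dd βM βN (Φ z) v = g (r v) := by
      intro v hv
      induction hv using Submodule.span_induction with
      | mem v hv =>
        obtain ⟨a, ha, b, hb, rfl⟩ := hv
        rw [hze]
        conv_rhs => rw [hxy a ha, hyy b hb, TensorProduct.sum_tmul, map_sum, map_sum]
        rw [map_sum, LinearMap.sum_apply]
        refine Finset.sum_congr rfl fun i _ => ?_
        rw [TensorProduct.tmul_sum, map_sum, map_sum, map_sum, LinearMap.sum_apply]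
        refine Finset.sum_congr rfl fun j _ => ?_
        rw [TensorProduct.smul_tmul_smul, map_smul, map_smul, map_smul, LinearMap.smul_apply, dd_tmul,
          smul_eq_mul, smul_eq_mul, mul_comm]
      | zero => rw [map_zero, map_zero, map_zero]
      | add v v' _ _ h h' => rw [map_add, map_add, map_add, h, h']
      | smul c v _ h => rw [map_smul, map_smul, map_smul, h]
    rw [hβ, key (φ p) ((himP _ _).2 ⟨p, hp, rfl⟩)]
    have := LinearMap.congr_fun hr p
    rw [LinearMap.comp_apply] at this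
    rw [this]; rfl

end Two

end K962.Dual
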