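import Groth.Agent.GrSegre.K962.Pieces
import Mathlib.LinearAlgebra.Dual.Lemmas

/-!
# Segre products: two elementary statements
-/

set_option autoImplicit false
set_option linter.unusedSectionVars false
set_option linter.style.haveILetI false
universe u
open scoped TensorProduct DirectSum

namespace K962.Elem

open K962.Basic K962.Pieces

section A

variable {k : Type u} [CommRing k] {R : Type u} [CommRing R] [Algebra k R]
  {𝒜 : ℤ → Submodule k R} [GradedAlgebra 𝒜]
  {M : Type u} [AddCommGroup M] [Module R M] [Module k M] [IsScalarTower k R M]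
  {ℳ : ℤ → Submodule k M} [DirectSum.Decomposition ℳ] [SetLike.GradedSMul 𝒜 ℳ]

theorem pow_bijective {f : R} (h : Function.Bijective (fun x : M => f • x)) (e : ℕ) :
    Function.Bijective (fun x : M => f ^ e • x) := by
  induction e with
  | zero => simp only [pow_zero, one_smul]; exact Function.bijective_id
  | succ e ih =>
    have : (fun x : M => f ^ (e + 1) • x) = (fun x : M => f ^ e • x) ∘ (fun x : M => f • x) := by
      funext x; simp [pow_succ, mul_smul]
    rw [this]; exact ih.comp h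

/-- If `f` is homogeneous of degree `i` and acts bijectively, every element of `M_{i+j}` is `f x` with `x ∈ M_j`. -/
theorem exists_smul_eq {i : ℤ} {f : R} (hf : f ∈ 𝒜 i) (h : Function.Surjective (fun x : M => f • x)) {j : ℤ}
    {y : M} (hy : y ∈ ℳ (i + j)) : ∃ x ∈ ℳ j, f • x = y := by
  obtain ⟨x, hx⟩ := h y
  refine ⟨pr ℳ j x, pr_mem ℳ j x, ?_⟩
  have hx' : f • x = y := hx
  rw [← pr_smul 𝒜 ℳ hf, hx', pr_of_mem ℳ hy]

/-- scalar multiplication as a `k`-linear equivalence -/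
noncomputable def smulEquiv {f : R} (h : Function.Bijective (fun x : M => f • x)) : M ≃ₗ[k] M :=
  LinearEquiv.ofBijective (Algebra.lsmul k k M f) h

end A

section B

variable {k : Type u} [CommRing k] {R S T : Type u} [CommRing R] [Algebra k R] [CommRing S] [Algebra k S]
  [CommRing T] [Algebra k T]
  {𝒜 : ℤ → Submodule k R} [GradedAlgebra 𝒜] {ℬ : ℤ → Submodule k S} [GradedAlgebra ℬ]
  {𝒯 : ℤ → Submodule k T} [GradedAlgebra 𝒯] {ψ : T →ₐ[k] R ⊗[k] S}
  {M N P : Type u} [AddCommGroup M] [Module R M] [Module k M] [IsScalarTower k R M]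
  [AddCommGroup N] [Module S N] [Module k N] [IsScalarTower k S N]
  [AddCommGroup P] [Module T P] [Module k P] [IsScalarTower k T P]
  {ℳ : ℤ → Submodule k M} [DirectSum.Decomposition ℳ] [SetLike.GradedSMul 𝒜 ℳ]
  {𝒩 : ℤ → Submodule k N} [DirectSum.Decomposition 𝒩] [SetLike.GradedSMul ℬ 𝒩]
  {τQ : Type u} [SetLike τQ P] [AddSubgroupClass τQ P] {𝒬 : ℤ → τQ} [DirectSum.Decomposition 𝒬]
  {φ : P →ₗ[k] M ⊗[k] N}

/-- If `f ∈ R_c` acts bijectively on `M` and `g ∈ S_c` acts bijectively on `N` then the element `f # g` of `T_c` acts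
bijectively on `M # N`. -/
theorem smul_bijective (hP : GrSeg.IsSegreMod ψ ℳ 𝒩 𝒬 φ)
    {c : ℤ} {f : R} (hf : f ∈ 𝒜 c) {g : S} (hg : g ∈ ℬ c)
    (hfM : Function.Bijective (fun x : M => f • x)) (hgN : Function.Bijective (fun y : N => g • y))
    {t : T} (ht : ψ t = f ⊗ₜ g) : Function.Bijective (fun p : P => t • p) := by
  classical
  have hact : ∀ w : M ⊗[k] N, GrSeg.act k R S M N (f ⊗ₜ g) w =
      TensorProduct.congr (smulEquiv (k := k) hfM) (smulEquiv (k := k) hgN) w := by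
    intro w
    induction w using TensorProduct.induction_on with
    | zero => simp
    | add x y hx hy => rw [map_add, hx, hy, map_add]
    | tmul x y => rw [GrSeg.act_tmul]; rfl
  constructor
  · intro p q h
    have h' : φ (t • p) = φ (t • q) := congrArg φ h
    rw [hP.map_smul, hP.map_smul, ht, hact, hact] at h'
    exact hP.injective ((TensorProduct.congr _ _).injective h')
  · intro p
    induction p using DirectSum.Decomposition.inductionOn 𝒬 with
    | zero => exact ⟨0, smul_zero t⟩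
    | add p q hp hq =>
      obtain ⟨a, ha⟩ := hp
      obtain ⟨b, hb⟩ := hq
      exact ⟨a + b, by show t • (a + b) = p + q; rw [smul_add]; exact congrArg₂ _ ha hb⟩
    | homogeneous m =>
      rename_i n
      have hm := phi_mem hP m.2
      have key : ∀ w ∈ GrSeg.segrePiece k ℳ 𝒩 n, ∃ w' ∈ GrSeg.segrePiece k ℳ 𝒩 (-c + n),
          GrSeg.act k R S M N (f ⊗ₜ g) w' = w := by
        intro w hw
        induction hw using Submodule.span_induction with
        | mem w hw =>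
          obtain ⟨x, hx, y, hy, rfl⟩ := hw
          have e : n = c + (-c + n) := by ring
          rw [e] at hx hy
          obtain ⟨x', hx', rfl⟩ := exists_smul_eq (ℳ := ℳ) hf hfM.surjective hx
          obtain ⟨y', hy', rfl⟩ := exists_smul_eq (ℳ := 𝒩) hg hgN.surjective hy
          exact ⟨x' ⊗ₜ y', mem_segrePiece_tmul ℳ 𝒩 hx' hy', GrSeg.act_tmul _ _ _ _⟩
        | zero => exact ⟨0, zero_mem _, map_zero _⟩
        | add x y _ _ hx hy =>
          obtain ⟨a, ha, rfl⟩ := hx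
          obtain ⟨b, hb, rfl⟩ := hy
          exact ⟨a + b, add_mem ha hb, map_add _ _ _⟩
        | smul c x _ hx =>
          obtain ⟨a, ha, rfl⟩ := hx
          exact ⟨c • a, Submodule.smul_mem _ _ ha, map_smul _ _ _⟩
      obtain ⟨w', hw', he⟩ := key _ hm
      obtain ⟨p', -, rfl⟩ := exists_phi_eq hP hw'
      refine ⟨p', hP.injective ?_⟩
      show φ (t • p') = _
      rw [hP.map_smul, ht, he]

end B

section C

variable {k : Type u} [Field k] {R S T : Type u} [CommRing R] [Algebra k R] [CommRing S] [Algebra k S]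
  [CommRing T] [Algebra k T]
  {𝒜 : ℤ → Submodule k R} [GradedAlgebra 𝒜] {ℬ : ℤ → Submodule k S} [GradedAlgebra ℬ]
  {𝒯 : ℤ → Submodule k T} [GradedAlgebra 𝒯] {ψ : T →ₐ[k] R ⊗[k] S}
  {M N P : Type u} [AddCommGroup M] [Module R M] [Module k M] [IsScalarTower k R M]
  [AddCommGroup N] [Module S N] [Module k N] [IsScalarTower k S N]
  [AddCommGroup P] [Module T P] [Module k P] [IsScalarTower k T P]
  {ℳ : ℤ → Submodule k M} [DirectSum.Decomposition ℳ] [SetLike.GradedSMul 𝒜 ℳ]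
  {𝒩 : ℤ → Submodule k N} [DirectSum.Decomposition 𝒩] [SetLike.GradedSMul ℬ 𝒩]
  {τQ : Type u} [SetLike τQ P] [AddSubgroupClass τQ P] {𝒬 : ℤ → τQ} [DirectSum.Decomposition 𝒬]
  {φ : P →ₗ[k] M ⊗[k] N}

theorem pr_smul' (x : M) {n : ℤ} (hx : x ∈ ℳ n) (a : R) (j : ℤ) :
    pr ℳ (j + n) (a • x) = pr 𝒜 j a • x := by
  obtain ⟨s, hs, hs'⟩ := exists_finset_sum_pr 𝒜 a
  have h1 : a • x = ∑ l ∈ s, pr 𝒜 l a • x := by
    conv_lhs => rw [hs]
    rw [Finset.sum_smul]
  have hmem : ∀ l, pr 𝒜 l a • x ∈ ℳ (l + n) := fun l =>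
    SetLike.GradedSMul.smul_mem (A := 𝒜) (B := ℳ) (pr_mem 𝒜 l a) hx
  rw [h1, map_sum]
  by_cases hj : j ∈ s
  · rw [Finset.sum_eq_single j]
    · rw [pr_of_mem ℳ (hmem j)]
    · intro l _ hl
      exact pr_of_mem_ne ℳ (hmem l) (fun h => hl (add_right_cancel h))
    · intro h; exact absurd hj h
  · rw [hs' j hj, zero_smul]
    refine Finset.sum_eq_zero fun l hl => ?_
    refine pr_of_mem_ne ℳ (hmem l) (fun h => ?_)
    rw [add_right_cancel h] at hl; exact hj hl

theorem bpr_act (c : R ⊗[k] S) {n : ℤ} {w : M ⊗[k] N} (hw : w ∈ GrSeg.segrePiece k ℳ 𝒩 n) (d : ℤ) :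
    bpr ℳ 𝒩 (d + n) (d + n) (GrSeg.act k R S M N c w) = GrSeg.act k R S M N (bpr 𝒜 ℬ d d c) w := by
  induction hw using Submodule.span_induction with
  | mem w hw =>
    obtain ⟨x, hx, y, hy, rfl⟩ := hw
    induction c using TensorProduct.induction_on with
    | zero => simp
    | add c c' h h' => rw [map_add, LinearMap.add_apply, map_add, h, h', map_add, map_add, LinearMap.add_apply]
    | tmul a b =>
      rw [GrSeg.act_tmul, bpr_tmul, bpr_tmul, GrSeg.act_tmul, pr_smul' (𝒜 := 𝒜) x hx, pr_smul' (𝒜 := ℬ) y hy]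
  | zero => simp
  | add x y _ _ hx hy => rw [map_add, map_add, hx, hy, map_add]
  | smul c x _ hx => rw [map_smul, map_smul, hx, map_smul]

/-- contraction of the second factor -/
theorem exists_contract {d : ℤ} {c : R ⊗[k] S} (hc : c ∈ GrSeg.segrePiece k 𝒜 ℬ d) (x : M) (y : N)
    (l : N →ₗ[k] k) : ∃ r ∈ 𝒜 d, TensorProduct.rid k M (l.lTensor M (GrSeg.act k R S M N c (x ⊗ₜ y))) = r • x := by
  induction hc using Submodule.span_induction with
  | mem c hc =>
    obtain ⟨a, ha, b, hb, rfl⟩ := hc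
    refine ⟨l (b • y) • a, Submodule.smul_mem _ _ ha, ?_⟩
    rw [GrSeg.act_tmul, LinearMap.lTensor_tmul, TensorProduct.rid_tmul, smul_assoc]
  | zero => exact ⟨0, zero_mem _, by simp⟩
  | add c c' _ _ h h' =>
    obtain ⟨r, hr, h⟩ := h
    obtain ⟨r', hr', h'⟩ := h'
    exact ⟨r + r', add_mem hr hr', by rw [map_add, LinearMap.add_apply, map_add, map_add, h, h', add_smul]⟩
  | smul a c _ h =>
    obtain ⟨r, hr, h⟩ := h
    exact ⟨a • r, Submodule.smul_mem _ _ hr, by rw [map_smul, LinearMap.smul_apply, map_smul, map_smul, h, smul_assoc]⟩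

variable (ℬ) in
include ℬ in
theorem exists_smul_eq_of_generates (hP : GrSeg.IsSegreMod ψ ℳ 𝒩 𝒬 φ)
    {n : ℤ} {x : M} (hx : x ∈ ℳ n) {y : N} (hy : y ∈ 𝒩 n) {p : P} (hp : φ p = x ⊗ₜ[k] y)
    (hgen : Submodule.span T {p} = ⊤) {d : ℤ} {v : N} (hv : v ∈ 𝒩 (n + d)) (hv0 : v ≠ 0) {z : M}
    (hz : z ∈ ℳ (n + d)) : ∃ r ∈ 𝒜 d, r • x = z := by
  obtain ⟨q, hq, hqe⟩ := exists_phi_eq hP (mem_segrePiece_tmul ℳ 𝒩 hz hv)
  have hq' : q ∈ Submodule.span T {p} := by rw [hgen]; trivial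
  obtain ⟨t, rfl⟩ := Submodule.mem_span_singleton.1 hq'
  obtain ⟨l, hl⟩ := Module.Projective.exists_dual_eq_one k hv0
  rw [hP.map_smul, hp] at hqe
  have h1 := congrArg (bpr ℳ 𝒩 (d + n) (d + n)) hqe
  rw [bpr_act (𝒜 := 𝒜) (ℬ := ℬ) (ψ t) (mem_segrePiece_tmul ℳ 𝒩 hx hy) d, add_comm d n,
    bpr_of_mem ℳ 𝒩 (mem_segrePiece_tmul ℳ 𝒩 hz hv)] at h1
  obtain ⟨r, hr, h2⟩ := exists_contract (𝒜 := 𝒜) (ℬ := ℬ) (bpr_mem 𝒜 ℬ d (ψ t)) x y l
  refine ⟨r, hr, ?_⟩
  rw [← h2, h1, LinearMap.lTensor_tmul, TensorProduct.rid_tmul, hl, one_smul]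

end C

end K962.Elem
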