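import Groth.Agent.GrSegre.K962.Wrap

/-!
# The Künneth formula for rings defined over a field: final form
-/

set_option autoImplicit false
set_option linter.unusedSectionVars false
set_option linter.style.haveILetI false
set_option warn.classDefReducibility false
universe u
open scoped TensorProduct DirectSum
open K759.Gr K759.GrObj K962.Basic K962.Pieces K962.KM K962.Seg K962.Tot K962.TotK K962.TotTors K962.TotAug
  K962.Coh K962.Kap K962.Van K962.VanK K962.One K962.Main K962.Wrap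

namespace K962.KData

variable {k : Type u} [Field k] {R S T : Type u} [CommRing R] [Algebra k R] [CommRing S] [Algebra k S]
  [CommRing T] [Algebra k T]
  {𝒜 : ℤ → Submodule k R} [GradedAlgebra 𝒜] {ℬ : ℤ → Submodule k S} [GradedAlgebra ℬ]
  {𝒯 : ℤ → Submodule k T} [GradedAlgebra 𝒯] {ψ : T →ₐ[k] R ⊗[k] S}
  {mR : HomogeneousIdeal 𝒜} {mS : HomogeneousIdeal ℬ} {mT : HomogeneousIdeal 𝒯}
  {M N P : Type u} [AddCommGroup M] [Module R M] [Module k M] [IsScalarTower k R M]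
  [AddCommGroup N] [Module S N] [Module k N] [IsScalarTower k S N]
  [AddCommGroup P] [Module T P] [Module k P] [IsScalarTower k T P]
  {τM τN τQ : Type u} [SetLike τM M] [AddSubgroupClass τM M] [SetLike τN N] [AddSubgroupClass τN N]
  [SetLike τQ P] [AddSubgroupClass τQ P]
  {ℳ : ℤ → τM} [DirectSum.Decomposition ℳ] [SetLike.GradedSMul 𝒜 ℳ]
  {𝒩 : ℤ → τN} [DirectSum.Decomposition 𝒩] [SetLike.GradedSMul ℬ 𝒩]
  {𝒬 : ℤ → τQ} [DirectSum.Decomposition 𝒬] [SetLike.GradedSMul 𝒯 𝒬]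

section Side

variable {D : ℤ} {n : ℕ} {x : Fin n → R} (hx : ∀ i, x i ∈ 𝒜 D) (hxa : ∀ i, x i ∈ mR.toIdeal)
  (hrx : mR.toIdeal ≤ (Ideal.span (Set.range x)).radical) [IsNoetherianRing R]

/-- One side of the Künneth data: the graded modules `A p` (`= H^p` of the punctured spectrum) with
`A (p+1) ≅ H^{p+2}(M)` and `0 → H⁰(M) → M → A 0 → H¹(M) → 0`. -/
structure Side (EM : GrLC.StarInjRes 𝒜 ℳ) (mR : HomogeneousIdeal 𝒜) (A : ℕ → KMod.{u} 𝒜) : Prop where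
  succ : ∀ p, ∃ θ : (A (p + 1)).carrier ≃ₗ[R] EM.H mR (p + 2), ∀ y g, y ∈ (A (p + 1)).gr g ↔
    θ y ∈ EM.Hcomp mR (p + 2) g
  zero : ∃ ε : M →ₗ[R] (A 0).carrier, GrLC.IsGrHom ℳ (A 0).gr ε ∧ (∀ m, ε m = 0 ↔ m ∈ GrLC.gam mR.toIdeal M) ∧
    ∃ δ : (A 0).carrier →ₗ[R] EM.H mR 1, Function.Surjective δ ∧ (∀ z, δ z = 0 ↔ ∃ m, ε m = z) ∧
      (∀ z g, z ∈ (A 0).gr g → δ z ∈ EM.Hcomp mR 1 g) ∧
      (∀ g, ∀ y ∈ EM.Hcomp mR 1 g, ∃ z ∈ (A 0).gr g, δ z = y)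

include hx hxa hrx in
theorem side (EM : GrLC.StarInjRes 𝒜 ℳ) :
    Side EM mR (fun p => Ho (Res.d_grHom hx (kmod 𝒜 ℳ)) p) where
  succ p := by
    obtain ⟨E'⟩ := K963.Iface.nonempty_res 𝒜 (kmod 𝒜 ℳ).gr
    obtain ⟨θ, hθ⟩ := Ho_succ hx (kmod 𝒜 ℳ) hxa hrx E' p
    obtain ⟨θ', hθ'⟩ := transfer EM E' mR (p + 2)
    refine ⟨θ.trans θ'.symm, fun y g => ?_⟩
    rw [hθ, hθ', LinearEquiv.trans_apply, LinearEquiv.apply_symm_apply]
  zero := by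
    obtain ⟨E'⟩ := K963.Iface.nonempty_res 𝒜 (kmod 𝒜 ℳ).gr
    obtain ⟨hz, θ, hs, hk, hg, hl⟩ := Ho_zero hx (kmod 𝒜 ℳ) hxa hrx E'
    obtain ⟨θ', hθ'⟩ := transfer EM E' mR 1
    have hpz : Function.Injective (hpi (Res.d_grHom hx (kmod 𝒜 ℳ)) 0) := by
      rw [injective_iff_map_eq_zero]
      intro z hz
      exact (hpi_zero_eq_zero_iff (Res.d_grHom hx (kmod 𝒜 ℳ))).1 hz
    let e := LinearEquiv.ofBijective (hpi (Res.d_grHom hx (kmod 𝒜 ℳ)) 0) ⟨hpz, hpi_surjective _ 0⟩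
    have heg : ∀ z g, z ∈ (Zo (Res.d_grHom hx (kmod 𝒜 ℳ)) 0).gr g ↔ e z ∈ (Ho (Res.d_grHom hx (kmod 𝒜 ℳ)) 0).gr g :=
      fun z g => ⟨fun h => hpi_grHom _ 0 g z h, fun h => mem_of_map_mem (hpi_grHom _ 0) hpz h⟩
    refine ⟨hpi (Res.d_grHom hx (kmod 𝒜 ℳ)) 0 ∘ₗ εZ hx (kmod 𝒜 ℳ), ?_, ?_,
      θ'.symm.toLinearMap ∘ₗ θ ∘ₗ e.symm.toLinearMap, ?_, ?_, ?_, ?_⟩
    · exact fun g m hm => hpi_grHom _ 0 g _ (εZ_grHom hx (kmod 𝒜 ℳ) hxa hrx g m hm)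
    · intro m
      refine Iff.trans ?_ (hz m)
      rw [LinearMap.comp_apply]
      exact ⟨fun h => hpz (h.trans (map_zero _).symm), fun h => (congrArg _ h).trans (map_zero _)⟩
    · exact θ'.symm.surjective.comp (hs.comp e.symm.surjective)
    · intro z
      obtain ⟨z, rfl⟩ := e.surjective z
      rw [LinearMap.comp_apply, LinearMap.comp_apply, LinearEquiv.coe_coe, LinearEquiv.coe_coe,
        LinearEquiv.symm_apply_apply, LinearEquiv.map_eq_zero_iff, hk]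
      refine exists_congr fun m => ?_
      exact ⟨fun h => congrArg e h, fun h => e.injective h⟩
    · intro z g hz
      obtain ⟨z, rfl⟩ := e.surjective z
      rw [LinearMap.comp_apply, LinearMap.comp_apply, LinearEquiv.coe_coe, LinearEquiv.coe_coe,
        LinearEquiv.symm_apply_apply]
      have := hg z g ((heg z g).2 hz)
      rw [← θ'.apply_symm_apply (θ z), ← hθ'] at this
      exact this
    · intro g y hy
      obtain ⟨z, hz, hze⟩ := hl g (θ' y) ((hθ' y g).1 hy)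
      refine ⟨e z, (heg z g).1 hz, ?_⟩
      rw [LinearMap.comp_apply, LinearMap.comp_apply, LinearEquiv.coe_coe, LinearEquiv.coe_coe,
        LinearEquiv.symm_apply_apply, hze, LinearEquiv.symm_apply_apply]

end Side

variable [Algebra.FiniteType k R] [Algebra.FiniteType k S]

/-- **The Künneth formula.** -/
theorem kunneth (hT : GrSeg.IsSegreRing 𝒜 ℬ 𝒯 ψ)
    (hmR : mR.toIdeal = Ideal.span (⋃ n ∈ Set.Ioi (0 : ℤ), (𝒜 n : Set R)))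
    (hmS : mS.toIdeal = Ideal.span (⋃ n ∈ Set.Ioi (0 : ℤ), (ℬ n : Set S)))
    (hmT : mT.toIdeal = Ideal.span (⋃ n ∈ Set.Ioi (0 : ℤ), (𝒯 n : Set T)))
    {φ : P →ₗ[k] M ⊗[k] N} (hP : GrSeg.IsSegreMod ψ ℳ 𝒩 𝒬 φ)
    (EM : GrLC.StarInjRes 𝒜 ℳ) (EN : GrLC.StarInjRes ℬ 𝒩) (EP : GrLC.StarInjRes 𝒯 𝒬) :
    ∃ (A : ℕ → KMod.{u} 𝒜) (B : ℕ → KMod.{u} ℬ), Side EM mR A ∧ Side EN mS B ∧
      ∀ n, ∃ κ : EP.H mT (n + 2) →ₗ[T] (∀ p q : ℕ, TT ψ (A p).carrier (B q).carrier), Function.Injective κ ∧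
      (∀ z p q, p + q ≠ n + 1 → κ z p q = 0) ∧
      (∀ z i, z ∈ EP.Hcomp mT (n + 2) i → ∀ p q, toTT.symm (κ z p q) ∈
        GrSeg.segrePiece k (kg (A p)) (kg (B q)) i) ∧
      (∀ i (ω : ∀ p q : ℕ, TT ψ (A p).carrier (B q).carrier), (∀ p q, p + q ≠ n + 1 → ω p q = 0) →
        (∀ p q, toTT.symm (ω p q) ∈ GrSeg.segrePiece k (kg (A p)) (kg (B q)) i) →
        ∃ z ∈ EP.Hcomp mT (n + 2) i, κ z = ω) := by
  have hNR : IsNoetherianRing R := Algebra.FiniteType.isNoetherianRing k R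
  have hNS : IsNoetherianRing S := Algebra.FiniteType.isNoetherianRing k S
  have hNT : IsNoetherianRing T := isNoetherianRing_segreRing hT
  obtain ⟨p⟩ := exists_par (ψ := ψ) hT hmR hmS hmT
  refine ⟨_, _, side p.hx p.hxa p.hrx EM, side p.hy p.hya p.hry EN, fun n => ?_⟩
  obtain ⟨E'⟩ := K963.Iface.nonempty_res 𝒯 (kmod 𝒯 𝒬).gr
  have hP' : GrSeg.IsSegreMod ψ (kg (kmod 𝒜 ℳ)) (kg (kmod ℬ 𝒩)) (kmod 𝒯 𝒬).gr
      (show (kmod 𝒯 𝒬).carrier →ₗ[k] (kmod 𝒜 ℳ).carrier ⊗[k] (kmod ℬ 𝒩).carrier from φ) :=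
    ⟨hP.injective, hP.image_piece, hP.map_smul⟩
  obtain ⟨κ, h1, h2, h3, h4⟩ := K962.Main.kunneth hT p.hx p.hy (kmod 𝒜 ℳ) (kmod ℬ 𝒩) (kmod 𝒯 𝒬) hP' p.hrx p.hry
    p.hψ p.haT E' n
  obtain ⟨θ, hθ⟩ := transfer EP E' mT (n + 2)
  refine ⟨κ ∘ₗ θ.toLinearMap, h1.comp θ.injective, fun z p q hpq => h2 _ p q hpq,
    fun z i hz p q => h3 _ i ((hθ z i).1 hz) p q, fun i ω hω hω' => ?_⟩
  obtain ⟨z, hz, rfl⟩ := h4 i ω hω hω'
  refine ⟨θ.symm z, (hθ _ i).2 (by rwa [LinearEquiv.apply_symm_apply]), ?_⟩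
  rw [LinearMap.comp_apply, LinearEquiv.coe_coe, LinearEquiv.apply_symm_apply]

end K962.KData
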