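import Groth.Agent.GrLC.K759.GrObj
import Groth.Agent.GrSegre.K962.Pieces

/-!
# Graded modules with a compatible `k`-structure; graded localisation; finite products; quotients
-/

set_option autoImplicit false
set_option linter.unusedSectionVars false
set_option linter.style.haveILetI false
set_option warn.classDefReducibility false
universe u
open scoped TensorProduct DirectSum
open K759.Gr K759.GrObj

namespace K962.KM

section Defs

variable {k : Type u} [CommRing k] {R : Type u} [CommRing R] [Algebra k R]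
  {ι : Type} [AddCommGroup ι] [DecidableEq ι]

/-- A graded module together with a compatible `k`-module structure. -/
structure KMod (𝒜 : ι → Submodule k R) [GradedAlgebra 𝒜] : Type (u + 1) where
  carrier : Type u
  [acg : AddCommGroup carrier]
  [mod : Module R carrier]
  [modk : Module k carrier]
  [tower : IsScalarTower k R carrier]
  gr : ι → AddSubgroup carrier
  [dec : DirectSum.Decomposition gr]
  [gsmul : SetLike.GradedSMul 𝒜 gr]

variable {𝒜 : ι → Submodule k R} [GradedAlgebra 𝒜]

instance (X : KMod.{u} 𝒜) : AddCommGroup X.carrier := X.acg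
instance (X : KMod.{u} 𝒜) : Module R X.carrier := X.mod
instance (X : KMod.{u} 𝒜) : Module k X.carrier := X.modk
instance (X : KMod.{u} 𝒜) : IsScalarTower k R X.carrier := X.tower
instance (X : KMod.{u} 𝒜) : DirectSum.Decomposition X.gr := X.dec
instance (X : KMod.{u} 𝒜) : SetLike.GradedSMul 𝒜 X.gr := X.gsmul

/-- The underlying graded module. -/
@[reducible] def KMod.toG (X : KMod.{u} 𝒜) : GrLC.GMod.{u} 𝒜 := { carrier := X.carrier, gr := X.gr }

variable (𝒜) in
/-- Bundling. -/
@[reducible] def KMod.of (M : Type u) [AddCommGroup M] [Module R M] [Module k M] [IsScalarTower k R M]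
    (ℳ : ι → AddSubgroup M) [DirectSum.Decomposition ℳ] [SetLike.GradedSMul 𝒜 ℳ] : KMod.{u} 𝒜 :=
  { carrier := M, gr := ℳ }

end Defs

/-! ## Finitely supported sequences -/

section Fs

variable {ι : Type} [AddCommGroup ι] [DecidableEq ι]
variable {M : Type u} [AddCommGroup M] (ℳ : ι → AddSubgroup M) [DirectSum.Decomposition ℳ] (D : ι)

/-- Grading of `M[t]` with `deg t = -D`. -/
def fsGr : ι → AddSubgroup (ℕ →₀ M) := fun i =>
  { carrier := {f | ∀ j : ℕ, f j ∈ ℳ (i + j • D)}
    add_mem' := fun hf hg j => by rw [Finsupp.add_apply]; exact add_mem (hf j) (hg j)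
    zero_mem' := fun j => by rw [Finsupp.zero_apply]; exact zero_mem _
    neg_mem' := fun hf j => by rw [Finsupp.neg_apply]; exact neg_mem (hf j) }

theorem mem_fsGr {i : ι} {f : ℕ →₀ M} : f ∈ fsGr ℳ D i ↔ ∀ j : ℕ, f j ∈ ℳ (i + j • D) := Iff.rfl

/-- components -/
noncomputable def fsCmp (i : ι) : (ℕ →₀ M) →+ (ℕ →₀ M) :=
  Finsupp.liftAddHom (fun j => (Finsupp.singleAddHom j).comp (cmp ℳ (i + j • D)))

theorem fsCmp_apply (i : ι) (f : ℕ →₀ M) (j : ℕ) : fsCmp ℳ D i f j = cmp ℳ (i + j • D) (f j) := by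
  induction f using Finsupp.induction_linear with
  | zero => simp
  | add f g hf hg => rw [map_add, Finsupp.add_apply, hf, hg, Finsupp.add_apply, map_add]
  | single a b =>
    rw [fsCmp, Finsupp.liftAddHom_apply_single, AddMonoidHom.comp_apply, Finsupp.singleAddHom_apply]
    by_cases h : a = j
    · subst h; rw [Finsupp.single_eq_same, Finsupp.single_eq_same]
    · rw [Finsupp.single_eq_of_ne (Ne.symm h), Finsupp.single_eq_of_ne (Ne.symm h), map_zero]

noncomputable def fsDec : DirectSum.Decomposition (fsGr ℳ D) :=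
  mkDecomp (fsGr ℳ D) (fsCmp ℳ D)
    (fun i f j => by rw [fsCmp_apply]; exact cmp_mem ℳ _ _)
    (fun f => by
      classical
      refine ⟨f.support.biUnion (fun j => (supp ℳ (f j)).image (fun i => i - j • D)), ?_, ?_⟩
      · intro i hi
        ext j
        rw [fsCmp_apply, Finsupp.zero_apply]
        by_cases hj : j ∈ f.support
        · apply cmp_eq_zero_of_notMem
          intro h
          exact hi (Finset.mem_biUnion.2 ⟨j, hj, Finset.mem_image.2 ⟨_, h, add_sub_cancel_right _ _⟩⟩)
        · rw [Finsupp.notMem_support_iff.1 hj, map_zero]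
      · ext j
        rw [Finsupp.finsetSum_apply]
        simp only [fsCmp_apply]
        by_cases hj : j ∈ f.support
        · rw [← Finset.sum_image (g := fun i : ι => i + j • D) (f := fun i => cmp ℳ i (f j))
            (fun a _ b _ h => add_right_cancel h)]
          apply sum_cmp_of_subset
          intro i hi
          refine Finset.mem_image.2 ⟨i - j • D, ?_, sub_add_cancel _ _⟩
          exact Finset.mem_biUnion.2 ⟨j, hj, Finset.mem_image.2 ⟨_, hi, rfl⟩⟩
        · rw [Finsupp.notMem_support_iff.1 hj]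
          exact Finset.sum_eq_zero fun i _ => map_zero _)
    (fun i f hf => by
      ext j; rw [fsCmp_apply]; exact cmp_same ℳ (hf j))
    (fun i i' f hii hf => by
      ext j; rw [fsCmp_apply, Finsupp.zero_apply]
      exact cmp_ne ℳ (fun h => hii (add_right_cancel h)) (hf j))

end Fs

section Loc

variable {k : Type u} [CommRing k] {R : Type u} [CommRing R] [Algebra k R]
  {ι : Type} [AddCommGroup ι] [DecidableEq ι] {𝒜 : ι → Submodule k R} [GradedAlgebra 𝒜]

section
variable {M : Type u} [AddCommGroup M] [Module R M] (ℳ : ι → AddSubgroup M) [SetLike.GradedSMul 𝒜 ℳ]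

variable (𝒜) in
theorem fs_gradedSMul (D : ι) : SetLike.GradedSMul 𝒜 (fsGr ℳ D) where
  smul_mem {i j r f} hr hf := by
    intro l
    rw [Finsupp.smul_apply, vadd_eq_add, add_assoc]
    exact smul_mem 𝒜 ℳ hr (hf l)

/-- `f ↦ x t f - f`. -/
noncomputable def psi (M : Type u) [AddCommGroup M] [Module R M] (x : R) : (ℕ →₀ M) →ₗ[R] (ℕ →₀ M) :=
  x • Finsupp.lmapDomain M R Nat.succ - LinearMap.id

theorem psi_apply_zero (x : R) (f : ℕ →₀ M) : psi M x f 0 = - f 0 := by
  have : Finsupp.mapDomain Nat.succ f 0 = 0 := by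
    apply Finsupp.mapDomain_of_notMem_range
    rintro ⟨n, hn⟩; exact Nat.succ_ne_zero n hn
  simp [psi, this]

theorem psi_apply_succ (x : R) (f : ℕ →₀ M) (j : ℕ) : psi M x f (j + 1) = x • f j - f (j + 1) := by
  have : Finsupp.mapDomain Nat.succ f (j + 1) = f j := Finsupp.mapDomain_apply Nat.succ_injective f j
  simp [psi, this]

theorem psi_grHom {D : ι} {x : R} (hx : x ∈ 𝒜 D) : GrLC.IsGrHom (fsGr ℳ D) (fsGr ℳ D) (psi M x) := by
  intro i f hf j
  cases j with
  | zero => rw [psi_apply_zero]; exact neg_mem (hf 0)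
  | succ j =>
    rw [psi_apply_succ]
    refine sub_mem ?_ (hf (j + 1))
    have := smul_mem 𝒜 ℳ hx (hf j)
    convert this using 2
    rw [succ_nsmul]; abel

/-- The localisation `M_x` as the quotient `M[t]/(x t - 1)`. -/
abbrev LocCar (M : Type u) [AddCommGroup M] [Module R M] (x : R) : Type u :=
  (ℕ →₀ M) ⧸ LinearMap.range (psi M x)

/-- `M → M_x`. -/
noncomputable def eta (M : Type u) [AddCommGroup M] [Module R M] (x : R) : M →ₗ[R] LocCar M x :=
  (LinearMap.range (psi M x)).mkQ ∘ₗ Finsupp.lsingle 0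

/-- the inverse of multiplication by `x` on `M_x` -/
noncomputable def tau (M : Type u) [AddCommGroup M] [Module R M] (x : R) : LocCar M x →ₗ[R] LocCar M x :=
  Submodule.mapQ _ _ (Finsupp.lmapDomain M R Nat.succ) (by
    rintro _ ⟨f, rfl⟩
    refine ⟨Finsupp.lmapDomain M R Nat.succ f, ?_⟩
    simp only [psi, LinearMap.sub_apply, LinearMap.smul_apply, map_sub, map_smul, LinearMap.id_apply])

theorem smul_tau (x : R) (q : LocCar M x) : x • tau M x q = q := by
  obtain ⟨f, rfl⟩ := Submodule.mkQ_surjective _ q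
  rw [tau, Submodule.mkQ_apply, Submodule.mapQ_apply, ← Submodule.Quotient.mk_smul, ← sub_eq_zero,
    ← Submodule.Quotient.mk_sub, Submodule.Quotient.mk_eq_zero]
  exact ⟨f, rfl⟩

theorem loc_bijective (x : R) : Function.Bijective (fun q : LocCar M x => x • q) := by
  constructor
  · intro q q' h
    have h' : x • q = x • q' := h
    have h2 := congrArg (tau M x) h'
    rwa [map_smul, map_smul, smul_tau, smul_tau] at h2
  · intro q; exact ⟨tau M x q, smul_tau x q⟩

theorem exists_pow_smul_eq_zero {x : R} {m : M} (h : eta M x m = 0) : ∃ j : ℕ, x ^ j • m = 0 := by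
  rw [eta, LinearMap.comp_apply, Submodule.mkQ_apply, Submodule.Quotient.mk_eq_zero] at h
  obtain ⟨f, hf⟩ := h
  have h0 : f 0 = - m := by
    have := DFunLike.congr_fun hf 0
    rw [psi_apply_zero, Finsupp.lsingle_apply, Finsupp.single_eq_same] at this
    rw [← this, neg_neg]
  have hs : ∀ j, f (j + 1) = x • f j := by
    intro j
    have := DFunLike.congr_fun hf (j + 1)
    rw [psi_apply_succ, Finsupp.lsingle_apply, Finsupp.single_eq_of_ne (Nat.succ_ne_zero j)] at this
    exact (sub_eq_zero.1 this).symm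
  have hj : ∀ j, f j = - (x ^ j • m) := by
    intro j
    induction j with
    | zero => rw [h0, pow_zero, one_smul]
    | succ j ih => rw [hs, ih, smul_neg, pow_succ', mul_smul]
  obtain ⟨j, hj'⟩ := Finset.exists_notMem f.support
  refine ⟨j, ?_⟩
  rw [Finsupp.notMem_support_iff, hj, neg_eq_zero] at hj'
  exact hj'

theorem eta_eq_zero {x : R} {m : M} {j : ℕ} (h : x ^ j • m = 0) : eta M x m = 0 := by
  have hinj : ∀ (j : ℕ) (q : LocCar M x), x ^ j • q = 0 → q = 0 := by
    intro j
    induction j with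
    | zero => intro q hq; simpa using hq
    | succ j ih =>
      intro q hq
      rw [pow_succ, mul_smul] at hq
      have h1 := ih _ hq
      exact (loc_bijective x).injective (by show x • q = x • 0; rw [h1, smul_zero])
  exact hinj j _ (by rw [← map_smul, h, map_zero])

theorem eta_grHom (D : ι) (x : R) : GrLC.IsGrHom ℳ (quoGr (fsGr ℳ D) (LinearMap.range (psi M x))) (eta M x) := by
  intro i m hm
  refine ⟨Finsupp.single 0 m, ?_, rfl⟩
  intro j
  cases j with
  | zero => simpa using hm
  | succ j => rw [Finsupp.single_eq_of_ne (Nat.succ_ne_zero j)]; exact zero_mem _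

end

/-- Graded localisation. -/
noncomputable def loc (X : KMod.{u} 𝒜) {D : ι} {x : R} (hx : x ∈ 𝒜 D) : KMod.{u} 𝒜 :=
  letI := fsDec X.gr D
  letI := fs_gradedSMul 𝒜 X.gr D
  letI : DirectSum.Decomposition (quoGr (fsGr X.gr D) (LinearMap.range (psi X.carrier x))) :=
    quoDec (fsGr X.gr D) _ (isHomogeneous_range (psi_grHom X.gr hx))
  { carrier := LocCar X.carrier x
    gr := quoGr (fsGr X.gr D) (LinearMap.range (psi X.carrier x)) }

/-- `M → M_x`. -/
noncomputable def locη (X : KMod.{u} 𝒜) {D : ι} {x : R} (hx : x ∈ 𝒜 D) : X.carrier →ₗ[R] (loc X hx).carrier :=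
  eta X.carrier x

theorem locη_grHom (X : KMod.{u} 𝒜) {D : ι} {x : R} (hx : x ∈ 𝒜 D) :
    GrLC.IsGrHom X.gr (loc X hx).gr (locη X hx) := eta_grHom X.gr D x

theorem loc_smul_bijective (X : KMod.{u} 𝒜) {D : ι} {x : R} (hx : x ∈ 𝒜 D) :
    Function.Bijective (fun q : (loc X hx).carrier => x • q) := loc_bijective x

theorem locη_eq_zero_iff (X : KMod.{u} 𝒜) {D : ι} {x : R} (hx : x ∈ 𝒜 D) {m : X.carrier} :
    locη X hx m = 0 ↔ ∃ j : ℕ, x ^ j • m = 0 :=
  ⟨exists_pow_smul_eq_zero, fun ⟨_, h⟩ => eta_eq_zero h⟩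

end Loc

/-! ## Finite products and quotients -/

section Pi

variable {k : Type u} [CommRing k] {R : Type u} [CommRing R] [Algebra k R]
  {ι : Type} [AddCommGroup ι] [DecidableEq ι] {𝒜 : ι → Submodule k R} [GradedAlgebra 𝒜]
  {κ : Type} [Fintype κ]

/-- pieces of a product -/
def piGr (X : κ → KMod.{u} 𝒜) : ι → AddSubgroup (∀ i, (X i).carrier) := fun n =>
  { carrier := {f | ∀ i, f i ∈ (X i).gr n}
    add_mem' := fun hf hg i => add_mem (hf i) (hg i)
    zero_mem' := fun i => zero_mem _
    neg_mem' := fun hf i => neg_mem (hf i) }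

noncomputable def piDec (X : κ → KMod.{u} 𝒜) : DirectSum.Decomposition (piGr X) :=
  mkDecomp (piGr X)
    (fun n => { toFun := fun f i => cmp (X i).gr n (f i)
                map_zero' := by funext i; exact map_zero _
                map_add' := fun f g => by funext i; exact map_add _ _ _ })
    (fun n f i => cmp_mem _ _ _)
    (fun f => by
      classical
      refine ⟨Finset.univ.biUnion (fun i => supp (X i).gr (f i)), ?_, ?_⟩
      · intro n hn
        funext i
        apply cmp_eq_zero_of_notMem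
        intro h
        exact hn (Finset.mem_biUnion.2 ⟨i, Finset.mem_univ _, h⟩)
      · funext i
        rw [Finset.sum_apply]
        exact sum_cmp_of_subset _ (Finset.subset_biUnion_of_mem (fun i => supp (X i).gr (f i)) (Finset.mem_univ i)))
    (fun n f hf => by funext i; exact cmp_same _ (hf i))
    (fun n n' f h hf => by funext i; exact cmp_ne _ h (hf i))

/-- Finite products. -/
noncomputable def pi (X : κ → KMod.{u} 𝒜) : KMod.{u} 𝒜 :=
  letI := piDec X
  letI : SetLike.GradedSMul 𝒜 (piGr X) := ⟨fun _ _ _ _ hr hf i => smul_mem 𝒜 _ hr (hf i)⟩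
  { carrier := ∀ i, (X i).carrier
    gr := piGr X }

theorem mem_pi_gr (X : κ → KMod.{u} 𝒜) {n : ι} {f : (pi X).carrier} :
    f ∈ (pi X).gr n ↔ ∀ i, (show ∀ i, (X i).carrier from f) i ∈ (X i).gr n := Iff.rfl

/-- Quotient by a homogeneous submodule. -/
noncomputable def quot (X : KMod.{u} 𝒜) (U : Submodule R X.carrier) (hU : U.IsHomogeneous X.gr) : KMod.{u} 𝒜 :=
  letI := quoDec X.gr U hU
  { carrier := X.carrier ⧸ U
    gr := quoGr X.gr U }

/-- the projection -/
noncomputable def quotπ (X : KMod.{u} 𝒜) (U : Submodule R X.carrier) (hU : U.IsHomogeneous X.gr) :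
    X.carrier →ₗ[R] (quot X U hU).carrier := U.mkQ

theorem quotπ_grHom (X : KMod.{u} 𝒜) (U : Submodule R X.carrier) (hU : U.IsHomogeneous X.gr) :
    GrLC.IsGrHom X.gr (quot X U hU).gr (quotπ X U hU) := isGrHom_mkQ X.gr U

theorem quotπ_surjective (X : KMod.{u} 𝒜) (U : Submodule R X.carrier) (hU : U.IsHomogeneous X.gr) :
    Function.Surjective (quotπ X U hU) := U.mkQ_surjective

theorem quotπ_eq_zero_iff (X : KMod.{u} 𝒜) (U : Submodule R X.carrier) (hU : U.IsHomogeneous X.gr)
    {x : X.carrier} : quotπ X U hU x = 0 ↔ x ∈ U := Submodule.Quotient.mk_eq_zero U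

end Pi

end K962.KM
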