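import Groth.Agent.GrSegre.K962.Coh

/-!
# The Künneth map `κ`
-/

set_option autoImplicit false
set_option linter.unusedSectionVars false
set_option linter.style.haveILetI false
set_option warn.classDefReducibility false
universe u
open scoped TensorProduct DirectSum
open K759.Gr K759.GrObj K962.Basic K962.Pieces K962.KM K962.Seg K962.Tot K962.TotK K962.TotTors K962.Coh
open Groth.Agent.Ega3B.KunnethAlg

namespace K962.Kap

variable {k : Type u} [Field k] {R S T : Type u} [CommRing R] [Algebra k R] [CommRing S] [Algebra k S]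
  [CommRing T] [Algebra k T]
  {ι : Type} [AddCommGroup ι] [DecidableEq ι]
  {𝒜 : ι → Submodule k R} [GradedAlgebra 𝒜] {ℬ : ι → Submodule k S} [GradedAlgebra ℬ]
  {𝒯 : ι → Submodule k T} [GradedAlgebra 𝒯] {ψ : T →ₐ[k] R ⊗[k] S}
  {C : ℕ → KMod.{u} 𝒜} {d : ∀ p, (C p).carrier →ₗ[R] (C (p + 1)).carrier}
  {D : ℕ → KMod.{u} ℬ} {e : ∀ p, (D p).carrier →ₗ[S] (D (p + 1)).carrier}
  (hd : ∀ p, GrLC.IsGrHom (C p).gr (C (p + 1)).gr (d p))
  (he : ∀ p, GrLC.IsGrHom (D p).gr (D (p + 1)).gr (e p))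

/-! ### cocycles of pure type are cocycles -/

theorem DT_zι (ζ : ZZ ψ hd he) : DT d e (zι ψ hd he ζ) = 0 := by
  have h1 : ∀ p q, (dk d p).rTensor (D q).carrier (toTT.symm (zι ψ hd he ζ p q)) = 0 := by
    intro p q
    show (dk d p).rTensor (D q).carrier (TensorProduct.map ((zsub hd p).restrictScalars k)
      ((zsub he q).restrictScalars k) (toTT.symm (ζ p q))) = 0
    induction toTT.symm (ζ p q) using TensorProduct.induction_on with
    | zero => simp
    | add x y hx hy => rw [map_add, map_add, hx, hy, add_zero]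
    | tmul x y =>
      rw [TensorProduct.map_tmul, LinearMap.rTensor_tmul]
      show d p (zsub hd p x) ⊗ₜ[k] _ = 0
      have : d p (zsub hd p x) = 0 := (show LinearMap.ker (d p) from x).2
      rw [this, TensorProduct.zero_tmul]
  have h2 : ∀ p q, (dk e q).lTensor (C p).carrier (toTT.symm (zι ψ hd he ζ p q)) = 0 := by
    intro p q
    show (dk e q).lTensor (C p).carrier (TensorProduct.map ((zsub hd p).restrictScalars k)
      ((zsub he q).restrictScalars k) (toTT.symm (ζ p q))) = 0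
    induction toTT.symm (ζ p q) using TensorProduct.induction_on with
    | zero => simp
    | add x y hx hy => rw [map_add, map_add, hx, hy, add_zero]
    | tmul x y =>
      rw [TensorProduct.map_tmul, LinearMap.lTensor_tmul]
      show _ ⊗ₜ[k] e q (zsub he q y) = 0
      have : e q (zsub he q y) = 0 := (show LinearMap.ker (e q) from y).2
      rw [this, TensorProduct.tmul_zero]
  funext p q
  apply toTT.symm.injective
  rw [DT_apply, show ((0 : Full ψ C D) p q) = 0 from rfl, map_zero]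
  match p, q with
  | 0, 0 => rw [dtot_zero_zero]
  | p + 1, 0 => rw [dtot_succ_zero, h1]
  | 0, q + 1 => rw [dtot_zero_succ, h2, neg_zero]
  | p + 1, q + 1 => rw [dtot_succ_succ, h1, h2, smul_zero, sub_zero]

/-! ### elements dying in `H ⊗ H'` are coboundaries -/

theorem sgl_pure_mem_left (p q : ℕ) (u : (Zo hd p).carrier) (v : (Zo he q).carrier) (hu : hpi hd p u = 0) :
    sgl ψ C D p q (toTT (zsub hd p u ⊗ₜ[k] zsub he q v)) ∈ LinearMap.range (DT (ψ := ψ) d e) := by
  have hv : e q (zsub he q v) = 0 := (show LinearMap.ker (e q) from v).2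
  cases p with
  | zero =>
    rw [hpi_zero_eq_zero_iff] at hu
    rw [hu, map_zero, TensorProduct.zero_tmul, map_zero, map_zero]
    exact zero_mem _
  | succ p =>
    obtain ⟨u', hu'⟩ := (hpi_succ_eq_zero_iff hd).1 hu
    refine ⟨sgl ψ C D p q (toTT (u' ⊗ₜ[k] zsub he q v)), ?_⟩
    rw [DT_sgl, LinearEquiv.symm_apply_apply, LinearMap.rTensor_tmul, LinearMap.lTensor_tmul]
    have h1 : dk e q (zsub he q v) = 0 := hv
    rw [h1, TensorProduct.tmul_zero, map_zero, map_zero, smul_zero, add_zero]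
    show sgl ψ C D (p + 1) q (toTT (d p u' ⊗ₜ[k] zsub he q v)) = _
    rw [hu']

theorem sgl_pure_mem_right (p q : ℕ) (u : (Zo hd p).carrier) (v : (Zo he q).carrier) (hv : hpi he q v = 0) :
    sgl ψ C D p q (toTT (zsub hd p u ⊗ₜ[k] zsub he q v)) ∈ LinearMap.range (DT (ψ := ψ) d e) := by
  have hu : d p (zsub hd p u) = 0 := (show LinearMap.ker (d p) from u).2
  cases q with
  | zero =>
    rw [hpi_zero_eq_zero_iff] at hv
    rw [hv, map_zero, TensorProduct.tmul_zero, map_zero, map_zero]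
    exact zero_mem _
  | succ q =>
    obtain ⟨v', hv'⟩ := (hpi_succ_eq_zero_iff he).1 hv
    refine ⟨(-1 : ℤ) ^ (p + 1) • sgl ψ C D p q (toTT (zsub hd p u ⊗ₜ[k] v')), ?_⟩
    rw [map_zsmul, DT_sgl, LinearEquiv.symm_apply_apply, LinearMap.rTensor_tmul, LinearMap.lTensor_tmul]
    have h1 : dk d p (zsub hd p u) = 0 := hu
    rw [h1, TensorProduct.zero_tmul, map_zero, map_zero, zero_add, smul_smul, ← mul_pow]
    have h2 : ((-1 : ℤ) * -1) ^ (p + 1) = 1 := by norm_num
    rw [h2, one_smul]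
    show sgl ψ C D p (q + 1) (toTT (zsub hd p u ⊗ₜ[k] e q v')) = _
    rw [hv']

theorem sgl_mem_range (p q : ℕ) (z : TT ψ (Zo hd p).carrier (Zo he q).carrier)
    (hz : mapTT (hpi hd p) (hpi he q) z = 0) :
    sgl ψ C D p q (mapTT (zsub hd p) (zsub he q) z) ∈ LinearMap.range (DT (ψ := ψ) d e) := by
  set f := (hpi hd p).restrictScalars k with hf
  set g := (hpi he q).restrictScalars k with hg
  have h2 : toTT.symm z ∈ LinearMap.range (LinearMap.lTensor (Zo hd p).carrier (LinearMap.ker g).subtype) ⊔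
      LinearMap.range (LinearMap.rTensor (Zo he q).carrier (LinearMap.ker f).subtype) := by
    have := TensorProduct.map_ker (f := (LinearMap.ker f).subtype) (g := f)
      (f' := (LinearMap.ker g).subtype) (g' := g)
      (by rw [LinearMap.exact_iff, Submodule.range_subtype])
      (hpi_surjective hd p)
      (by rw [LinearMap.exact_iff, Submodule.range_subtype])
      (hpi_surjective he q)
    rw [← this]; exact hz
  obtain ⟨z1, ⟨y1, rfl⟩, z2, ⟨y2, rfl⟩, hsum⟩ := Submodule.mem_sup.1 h2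
  have e1 : ∀ y : (Zo hd p).carrier ⊗[k] LinearMap.ker g, sgl ψ C D p q (mapTT (zsub hd p) (zsub he q)
      (toTT (LinearMap.lTensor (Zo hd p).carrier (LinearMap.ker g).subtype y))) ∈
      LinearMap.range (DT (ψ := ψ) d e) := by
    intro y
    induction y using TensorProduct.induction_on with
    | zero => rw [map_zero, map_zero, map_zero, map_zero]; exact zero_mem _
    | add y y' h h' => rw [map_add, map_add, map_add, map_add]; exact add_mem h h'
    | tmul u v => exact sgl_pure_mem_right hd he p q u v.1 v.2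
  have e2 : ∀ y : LinearMap.ker f ⊗[k] (Zo he q).carrier, sgl ψ C D p q (mapTT (zsub hd p) (zsub he q)
      (toTT (LinearMap.rTensor (Zo he q).carrier (LinearMap.ker f).subtype y))) ∈
      LinearMap.range (DT (ψ := ψ) d e) := by
    intro y
    induction y using TensorProduct.induction_on with
    | zero => rw [map_zero, map_zero, map_zero, map_zero]; exact zero_mem _
    | add y y' h h' => rw [map_add, map_add, map_add, map_add]; exact add_mem h h'
    | tmul u v => exact sgl_pure_mem_left hd he p q u.1 v u.2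
  have hz' : z = toTT (LinearMap.lTensor (Zo hd p).carrier (LinearMap.ker g).subtype y1) +
      toTT (LinearMap.rTensor (Zo he q).carrier (LinearMap.ker f).subtype y2) := by
    rw [← map_add, hsum, LinearEquiv.apply_symm_apply]
  rw [hz', map_add, map_add]
  exact add_mem (e1 y1) (e2 y2)

/-! ### truncation -/

theorem tr_DT_zero (w : Full ψ C D) : tr 0 (DT d e w) = 0 := by
  funext p q
  by_cases h : p + q = 0
  · obtain ⟨rfl, rfl⟩ : p = 0 ∧ q = 0 := by omega
    rw [tr_apply_eq h]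
    apply toTT.symm.injective
    rw [DT_apply, dtot_zero_zero]; rfl
  · rw [tr_apply_ne h]; rfl

/-- truncated families are coboundaries -/
theorem mem_range_of_zπ {n : ℕ} {ζ : ZZ ψ hd he} (h : zπ ψ hd he ζ = 0) :
    tr n (zι ψ hd he ζ) ∈ LinearMap.range (DT (ψ := ψ) d e) := by
  have h1 : tr n (tr n (zι ψ hd he ζ)) = tr n (zι ψ hd he ζ) := by
    funext p q
    by_cases hpq : p + q = n
    · rw [tr_apply_eq hpq]
    · rw [tr_apply_ne hpq, tr_apply_ne hpq]
  rw [sum_sgl h1]
  refine sum_mem fun p hp => ?_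
  have := Finset.mem_range.1 hp
  rw [tr_apply_eq (by omega)]
  exact sgl_mem_range hd he p (n - p) (ζ p (n - p)) (congrFun (congrFun h p) (n - p))

/-! ### the map `κ` -/

section Kappa

variable (hdd : ∀ p x, d (p + 1) (d p x) = 0) (hee : ∀ p x, e (p + 1) (e p x) = 0)

variable (ψ) in
/-- the Künneth map as a function -/
noncomputable def kapF (w : Full ψ C D) (hw : DT d e w = 0) : HH ψ hd he :=
  zπ ψ hd he (exists_rep hd he hdd hee hw).choose

theorem kapF_eq {w : Full ψ C D} (hw : DT d e w = 0) {ζ : ZZ ψ hd he} {w' : Full ψ C D}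
    (h : w = zι ψ hd he ζ + DT d e w') : kapF ψ hd he hdd hee w hw = zπ ψ hd he ζ := by
  obtain ⟨w₂, h₂⟩ := (exists_rep hd he hdd hee hw).choose_spec
  rw [kapF, ← sub_eq_zero, ← map_sub]
  apply zπ_eq_zero hd he hdd hee (w := w' - w₂)
  rw [map_sub, map_sub, sub_eq_sub_iff_add_eq_add, add_comm (DT d e w'), ← h, ← h₂]

variable (ψ) in
/-- The Künneth map. -/
noncomputable def kap : LinearMap.ker (DT (ψ := ψ) d e) →ₗ[T] HH ψ hd he where
  toFun w := kapF ψ hd he hdd hee w.1 w.2
  map_add' w w' := by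
    obtain ⟨ζ, y, h⟩ := exists_rep hd he hdd hee w.2
    obtain ⟨ζ', y', h'⟩ := exists_rep hd he hdd hee w'.2
    rw [kapF_eq hd he hdd hee w.2 h, kapF_eq hd he hdd hee w'.2 h', ← map_add]
    apply kapF_eq (w' := y + y')
    rw [Submodule.coe_add, h, h', map_add, map_add]
    abel
  map_smul' t w := by
    obtain ⟨ζ, y, h⟩ := exists_rep hd he hdd hee w.2
    rw [kapF_eq hd he hdd hee w.2 h, RingHom.id_apply, ← map_smul]
    apply kapF_eq (w' := t • y)
    rw [Submodule.coe_smul, h, map_smul, map_smul, smul_add]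

theorem kap_eq {w : LinearMap.ker (DT (ψ := ψ) d e)} {ζ : ZZ ψ hd he} {w' : Full ψ C D}
    (h : w.1 = zι ψ hd he ζ + DT d e w') : kap ψ hd he hdd hee w = zπ ψ hd he ζ :=
  kapF_eq hd he hdd hee w.2 h

theorem kap_range {w : LinearMap.ker (DT (ψ := ψ) d e)} (h : w.1 ∈ LinearMap.range (DT (ψ := ψ) d e)) :
    kap ψ hd he hdd hee w = 0 := by
  obtain ⟨y, hy⟩ := h
  rw [kap_eq hd he hdd hee (ζ := 0) (w' := y), map_zero]
  rw [map_zero, zero_add, hy]

theorem kap_ne {n : ℕ} {w : LinearMap.ker (DT (ψ := ψ) d e)} (hw : tr n w.1 = w.1) {p q : ℕ} (hpq : p + q ≠ n) :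
    kap ψ hd he hdd hee w p q = 0 := by
  obtain ⟨ζ, y, h⟩ := exists_rep hd he hdd hee w.2
  have h1 : tr n (zι ψ hd he ζ) = zι ψ hd he (fun p q => if p + q = n then ζ p q else 0) := by
    funext p q
    by_cases hpq : p + q = n
    · rw [tr_apply_eq hpq]
      show _ = mapTT (zsub hd p) (zsub he q) (if p + q = n then ζ p q else 0)
      rw [if_pos hpq]; rfl
    · rw [tr_apply_ne hpq]
      show _ = mapTT (zsub hd p) (zsub he q) (if p + q = n then ζ p q else 0)
      rw [if_neg hpq, map_zero]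
  obtain ⟨y', hy'⟩ : ∃ y', tr n (DT d e y) = DT d e y' := by
    cases n with
    | zero => exact ⟨0, by rw [tr_DT_zero, map_zero]⟩
    | succ n => exact ⟨tr n y, (DT_tr d e n y).symm⟩
  rw [kap_eq hd he hdd hee (w := w) (w' := y') (ζ := fun p q => if p + q = n then ζ p q else 0)]
  · show mapTT (hpi hd p) (hpi he q) (if p + q = n then ζ p q else 0) = 0
    rw [if_neg hpq, map_zero]
  · rw [← h1, ← hy', ← map_add, ← h, hw]

include hd he in
/-- the bihomogeneous projection on families -/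
theorem DT_bpr (i : ι) (w : Full ψ C D) :
    DT d e ((fun p q => toTT (bpr (kg (C p)) (kg (D q)) i i (toTT.symm (w p q))) : Full ψ C D)) =
      fun p q => toTT (bpr (kg (C p)) (kg (D q)) i i (toTT.symm (DT d e w p q))) := by
  funext p q
  apply toTT.symm.injective
  rw [DT_apply, LinearEquiv.symm_apply_apply, DT_apply]
  exact (dtot_comm (dk d) (dk e) (dk d) (dk e)
    (fun p q => (bpr (kg (C p)) (kg (D q)) i i).toAddMonoidHom)
    (fun p q w => bpr_map (kg (C p)) (kg (D q)) (kg (C (p + 1))) (kg (D q)) (f := dk d p) (g := LinearMap.id) (hd p) (fun _ _ h => h) i i w)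
    (fun p q w => bpr_map (kg (C p)) (kg (D q)) (kg (C p)) (kg (D (q + 1))) (f := LinearMap.id) (g := dk e q) (fun _ _ h => h) (he q) i i w)
    (fun p q => toTT.symm (w p q)) p q).symm

theorem zι_bpr (i : ι) (ζ : ZZ ψ hd he) :
    zι ψ hd he (fun p q => toTT (bpr (kg (Zo hd p)) (kg (Zo he q)) i i (toTT.symm (ζ p q)))) =
      fun p q => toTT (bpr (kg (C p)) (kg (D q)) i i (toTT.symm (zι ψ hd he ζ p q))) := by
  funext p q
  apply toTT.symm.injective
  rw [LinearEquiv.symm_apply_apply]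
  exact (bpr_map (kg (Zo hd p)) (kg (Zo he q)) (kg (C p)) (kg (D q)) (f := (zsub hd p).restrictScalars k)
    (g := (zsub he q).restrictScalars k) (zsub_grHom hd p) (zsub_grHom he q) i i (toTT.symm (ζ p q))).symm

theorem zπ_bpr (i : ι) (ζ : ZZ ψ hd he) :
    zπ ψ hd he (fun p q => toTT (bpr (kg (Zo hd p)) (kg (Zo he q)) i i (toTT.symm (ζ p q)))) =
      fun p q => toTT (bpr (kg (Ho hd p)) (kg (Ho he q)) i i (toTT.symm (zπ ψ hd he ζ p q))) := by
  funext p q
  apply toTT.symm.injective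
  rw [LinearEquiv.symm_apply_apply]
  exact (bpr_map (kg (Zo hd p)) (kg (Zo he q)) (kg (Ho hd p)) (kg (Ho he q)) (f := (hpi hd p).restrictScalars k)
    (g := (hpi he q).restrictScalars k) (hpi_grHom hd p) (hpi_grHom he q) i i (toTT.symm (ζ p q))).symm

theorem kap_mem {i : ι} {w : LinearMap.ker (DT (ψ := ψ) d e)}
    (hw : ∀ p q, toTT.symm (w.1 p q) ∈ GrSeg.segrePiece k (kg (C p)) (kg (D q)) i) (p q : ℕ) :
    toTT.symm (kap ψ hd he hdd hee w p q) ∈ GrSeg.segrePiece k (kg (Ho hd p)) (kg (Ho he q)) i := by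
  obtain ⟨ζ, y, h⟩ := exists_rep hd he hdd hee w.2
  rw [kap_eq hd he hdd hee (w := w)
    (w' := fun p q => toTT (bpr (kg (C p)) (kg (D q)) i i (toTT.symm (y p q))))
    (ζ := fun p q => toTT (bpr (kg (Zo hd p)) (kg (Zo he q)) i i (toTT.symm (ζ p q)))), zπ_bpr,
    LinearEquiv.symm_apply_apply]
  · exact bpr_mem _ _ i _
  · rw [zι_bpr, DT_bpr hd he]
    funext p q
    apply toTT.symm.injective
    show _ = toTT.symm (toTT (bpr _ _ i i (toTT.symm (zι ψ hd he ζ p q))) + toTT (bpr _ _ i i (toTT.symm (DT d e y p q))))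
    rw [← map_add, ← map_add, ← map_add, LinearEquiv.symm_apply_apply]
    have : zι ψ hd he ζ p q + DT d e y p q = w.1 p q := by rw [h]; rfl
    rw [this, bpr_of_mem _ _ (hw p q)]

theorem exists_kap_eq {n : ℕ} {i : ι} {ω : HH ψ hd he} (h1 : ∀ p q, p + q ≠ n → ω p q = 0)
    (h2 : ∀ p q, toTT.symm (ω p q) ∈ GrSeg.segrePiece k (kg (Ho hd p)) (kg (Ho he q)) i) :
    ∃ w : LinearMap.ker (DT (ψ := ψ) d e), tr n w.1 = w.1 ∧
      (∀ p q, toTT.symm (w.1 p q) ∈ GrSeg.segrePiece k (kg (C p)) (kg (D q)) i) ∧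
      kap ψ hd he hdd hee w = ω := by
  obtain ⟨ζ, hζ⟩ := zπ_surjective (ψ := ψ) hd he ω
  have key : ∃ ζ : ZZ ψ hd he, zπ ψ hd he ζ = ω ∧
      ∀ p q, toTT.symm (ζ p q) ∈ GrSeg.segrePiece k (kg (Zo hd p)) (kg (Zo he q)) i := by
    refine ⟨fun p q => toTT (bpr (kg (Zo hd p)) (kg (Zo he q)) i i (toTT.symm (ζ p q))), ?_, fun p q => ?_⟩
    · rw [zπ_bpr, hζ]
      funext p q
      rw [bpr_of_mem _ _ (h2 p q), LinearEquiv.apply_symm_apply]
    · rw [LinearEquiv.symm_apply_apply]; exact bpr_mem _ _ i _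
  clear hζ ζ
  obtain ⟨ζ, hζ, hζi⟩ := key
  let ζ' : ZZ ψ hd he := fun p q => if p + q = n then ζ p q else 0
  have e1 : zπ ψ hd he ζ' = ω := by
    funext p q
    show mapTT (hpi hd p) (hpi he q) (if p + q = n then ζ p q else 0) = ω p q
    by_cases hpq : p + q = n
    · rw [if_pos hpq, ← hζ]; rfl
    · rw [if_neg hpq, map_zero, h1 p q hpq]
  refine ⟨⟨zι ψ hd he ζ', DT_zι hd he ζ'⟩, ?_, fun p q => ?_, ?_⟩
  · funext p q
    by_cases hpq : p + q = n
    · rw [tr_apply_eq hpq]
    · rw [tr_apply_ne hpq]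
      show 0 = mapTT (zsub hd p) (zsub he q) (if p + q = n then ζ p q else 0)
      rw [if_neg hpq, map_zero]
  · show TensorProduct.map ((zsub hd p).restrictScalars k) ((zsub he q).restrictScalars k)
      (toTT.symm (if p + q = n then ζ p q else 0)) ∈ _
    refine map_mem_segrePiece (kg (Zo hd p)) (kg (Zo he q)) (kg (C p)) (kg (D q))
      (f := (zsub hd p).restrictScalars k) (g := (zsub he q).restrictScalars k) (zsub_grHom hd p i)
      (zsub_grHom he q i) ?_
    split_ifs
    · exact hζi p q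
    · rw [map_zero]; exact zero_mem _
  · rw [kap_eq hd he hdd hee (ζ := ζ') (w' := 0), e1]
    rw [map_zero, add_zero]

theorem mem_range_of_kap {n : ℕ} {w : LinearMap.ker (DT (ψ := ψ) d e)} (hw : tr n w.1 = w.1)
    (h0 : kap ψ hd he hdd hee w = 0) : w.1 ∈ LinearMap.range (DT (ψ := ψ) d e) := by
  obtain ⟨ζ, y, h⟩ := exists_rep hd he hdd hee w.2
  rw [kap_eq hd he hdd hee h] at h0
  have h1 := mem_range_of_zπ hd he (n := n) h0
  rw [← hw, h, map_add]
  refine add_mem h1 ?_
  cases n with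
  | zero => rw [tr_DT_zero]; exact zero_mem _
  | succ n => exact ⟨tr n y, DT_tr d e n y⟩

end Kappa

end K962.Kap
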