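import Groth.Agent.Ega3B.KunnethAlg
import Mathlib.LinearAlgebra.Basis.VectorSpace
import Mathlib.RingTheory.Flat.Basic

/-!
# Algebraic Künneth formula over a field, without boundedness

(adapted from `Groth.Agent.Ega3B.KunnethAlg`, where boundedness is only used to get flatness)
-/

set_option autoImplicit false
universe u
open TensorProduct Groth.Agent.Ega3B.KunnethAlg

namespace K962.Kun

variable {A : Type u} [Field A]
  {C : ℕ → Type u} [∀ p, AddCommGroup (C p)] [∀ p, Module A (C p)] {d : ∀ p, C p →ₗ[A] C (p + 1)}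
  {D : ℕ → Type u} [∀ p, AddCommGroup (D p)] [∀ p, Module A (D p)] {e : ∀ p, D p →ₗ[A] D (p + 1)}

theorem pure_all {C : Type u} [AddCommGroup C] [Module A C] (B : Submodule A C) : Pure B :=
  pure_of_flat_quotient B

theorem surj (hd : ∀ p, d (p + 1) ∘ₗ d p = 0) (he : ∀ p, e (p + 1) ∘ₗ e p = 0)
    (x : ∀ p q, C p ⊗[A] D q) (hx : ∀ p q, dtot d e x p q = 0) :
    ∃ (w : ∀ p q, C p ⊗[A] D q) (ζ : ∀ p q, LinearMap.ker (d p) ⊗[A] LinearMap.ker (e q)),
      ∀ p q, x p q = TensorProduct.map (LinearMap.ker (d p)).subtype (LinearMap.ker (e q)).subtype (ζ p q) +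
        dtot d e w p q := by
  -- the equations
  have h11 : ∀ p q, (d p).rTensor (D (q + 1)) (x p (q + 1)) =
      (-1 : ℤ) ^ (p + 1) • (e q).lTensor (C (p + 1)) (x (p + 1) q) := by
    intro p q
    have h := hx (p + 1) (q + 1)
    rwa [dtot_succ_succ, sub_eq_zero] at h
  have h0 : ∀ q, (e q).lTensor (C 0) (x 0 q) = 0 := by
    intro q
    have h := hx 0 (q + 1)
    rwa [dtot_zero_succ, neg_eq_zero] at h
  have h1 : ∀ p, (d p).rTensor (D 0) (x p 0) = 0 := by
    intro p
    have h := hx (p + 1) 0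
    rwa [dtot_succ_zero] at h
  have hs : ∀ p : ℕ, (-1 : ℤ) ^ (p + 1) * (-1 : ℤ) ^ (p + 1) = 1 := fun p => by
    rw [← mul_pow]; simp
  have key : ∀ p q, ∃ w : C p ⊗[A] D q, TensorProduct.map (d p) (e q) w =
      (d p).rTensor (D (q + 1)) (x p (q + 1)) := by
    intro p q
    obtain ⟨z, hz⟩ := inter_of_pure (B := LinearMap.range (d p)) (pure_all _)
      (LinearMap.range (e q)) ((d p).rTensor (D (q + 1)) (x p (q + 1)))
      ⟨(d p).rangeRestrict.rTensor _ (x p (q + 1)), by
        rw [← LinearMap.comp_apply, ← LinearMap.rTensor_comp]; rfl⟩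
      ⟨(-1 : ℤ) ^ (p + 1) • (e q).rangeRestrict.lTensor _ (x (p + 1) q), by
        rw [h11, map_zsmul, ← LinearMap.comp_apply, ← LinearMap.lTensor_comp]; rfl⟩
    obtain ⟨w, rfl⟩ := TensorProduct.map_surjective (d p).surjective_rangeRestrict
      (e q).surjective_rangeRestrict z
    refine ⟨w, ?_⟩
    rw [← hz, ← LinearMap.comp_apply, ← TensorProduct.map_comp]
    rfl
  choose w hw using key
  -- corrected elements
  obtain ⟨w', hw'⟩ : ∃ w' : ∀ p q, C p ⊗[A] D q, ∀ p q, w' p q = (-1 : ℤ) ^ (p + 1) • w p q :=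
    ⟨_, fun _ _ => rfl⟩
  have k1 : ∀ p q, (-1 : ℤ) ^ (p + 1) • TensorProduct.map (d p) (e q) (w' p q) =
      (d p).rTensor (D (q + 1)) (x p (q + 1)) := by
    intro p q
    rw [hw', map_zsmul, smul_smul, hs, one_smul, hw]
  have k2 : ∀ p q, TensorProduct.map (d p) (e q) (w' p q) =
      (e q).lTensor (C (p + 1)) (x (p + 1) q) := by
    intro p q
    rw [hw', map_zsmul, hw, h11, smul_smul, hs, one_smul]
  have c1 : ∀ p q, (d p).rTensor (D q) (x p q - dtot d e w' p q) = 0 := by
    intro p q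
    rw [map_sub]
    match p, q with
    | 0, 0 => rw [h1, dtot_zero_zero, map_zero, sub_zero]
    | p + 1, 0 => rw [h1, dtot_succ_zero, rTensor_rTensor hd, sub_zero]
    | 0, q + 1 =>
      have h3 : (-1 : ℤ) ^ (0 + 1) = -1 := by norm_num
      rw [dtot_zero_succ, map_neg, map_eq, ← k1, h3, neg_one_smul, sub_self]
    | p + 1, q + 1 =>
      rw [dtot_succ_succ, map_sub, rTensor_rTensor hd, map_zsmul, map_eq, ← k1,
        pow_succ (-1 : ℤ) (p + 1), mul_neg_one, neg_smul, zero_sub, sub_self]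
  have c2 : ∀ p q, (e q).lTensor (C p) (x p q - dtot d e w' p q) = 0 := by
    intro p q
    rw [map_sub]
    match p, q with
    | 0, 0 => rw [h0, dtot_zero_zero, map_zero, sub_zero]
    | 0, q + 1 => rw [h0, dtot_zero_succ, map_neg, lTensor_lTensor he, neg_zero, sub_zero]
    | p + 1, 0 => rw [dtot_succ_zero, map_eq', k2, sub_self]
    | p + 1, q + 1 =>
      rw [dtot_succ_succ, map_sub, map_zsmul, lTensor_lTensor he, smul_zero, sub_zero, map_eq', k2,
        sub_self]
  have key2 : ∀ p q, ∃ z : LinearMap.ker (d p) ⊗[A] LinearMap.ker (e q),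
      TensorProduct.map (LinearMap.ker (d p)).subtype (LinearMap.ker (e q)).subtype z =
        x p q - dtot d e w' p q := by
    intro p q
    exact ker_of_pure (pure_all _) (e q) _
      (ker_rTensor (d p) (pure_all _) _ (c1 p q)) (c2 p q)
  choose ζ hζ using key2
  exact ⟨w', ζ, fun p q => by rw [hζ, sub_add_cancel]⟩

theorem inj (hd : ∀ p, d (p + 1) ∘ₗ d p = 0) (he : ∀ p, e (p + 1) ∘ₗ e p = 0)
    (ζ : ∀ p q, LinearMap.ker (d p) ⊗[A] LinearMap.ker (e q)) (w : ∀ p q, C p ⊗[A] D q)
    (h : ∀ p q, TensorProduct.map (LinearMap.ker (d p)).subtype (LinearMap.ker (e q)).subtype (ζ p q) =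
        dtot d e w p q) :
    ∀ p q, TensorProduct.map (bz d p).mkQ (bz e q).mkQ (ζ p q) = 0 := by
  -- `(d ⊗ e) w = 0`
  have h2 : ∀ p q, TensorProduct.map (d p) (e q) (w p q) = 0 := by
    intro p q
    have hp : (d p).rTensor (D (q + 1)) (TensorProduct.map (LinearMap.ker (d p)).subtype
        (LinearMap.ker (e (q + 1))).subtype (ζ p (q + 1))) = 0 := by
      rw [← map_eq, ← LinearMap.comp_apply, ← LinearMap.rTensor_comp,
        (LinearMap.exact_subtype_ker_map (d p)).linearMap_comp_eq_zero, LinearMap.rTensor_zero,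
        LinearMap.zero_apply]
    rw [h] at hp
    match p with
    | 0 => rwa [dtot_zero_succ, map_neg, map_eq, neg_eq_zero] at hp
    | p + 1 =>
      rw [dtot_succ_succ, map_sub, rTensor_rTensor hd, map_zsmul, map_eq, zero_sub, neg_eq_zero] at hp
      have : (-1 : ℤ) ^ (p + 1) • (-1 : ℤ) ^ (p + 1) •
          TensorProduct.map (d (p + 1)) (e q) (w (p + 1) q) = 0 := by rw [hp, smul_zero]
      rwa [smul_smul, ← mul_pow, neg_mul_neg, one_mul, one_pow, one_smul] at this
  intro p q
  -- the part in `B_p ⊗ Z'_q`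
  obtain ⟨u, v, huv⟩ : ∃ (u : bdry d p ⊗[A] LinearMap.ker (e q)) (v : C p ⊗[A] bdry e q),
      dtot d e w p q = TensorProduct.map (bdry d p).subtype (LinearMap.ker (e q)).subtype u +
        (bdry e q).subtype.lTensor (C p) v := by
    have hu : ∀ p, ∃ u : bdry d (p + 1) ⊗[A] LinearMap.ker (e q),
        TensorProduct.map (bdry d (p + 1)).subtype (LinearMap.ker (e q)).subtype u =
          (d p).rTensor (D q) (w p q) := by
      intro p
      exact ker_of_pure (pure_all _) (e q) _ (exists_rTensor p (w p q))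
        (by rw [map_eq', h2])
    match p, q with
    | 0, 0 => exact ⟨0, 0, by rw [dtot_zero_zero, map_zero, map_zero, add_zero]⟩
    | p + 1, 0 =>
      obtain ⟨u, hu⟩ := hu p
      exact ⟨u, 0, by rw [dtot_succ_zero, map_zero, add_zero, hu]⟩
    | 0, q + 1 =>
      obtain ⟨v, hv⟩ := exists_lTensor (e := e) q (w 0 q)
      exact ⟨0, -v, by rw [dtot_zero_succ, map_zero, zero_add, map_neg, hv]⟩
    | p + 1, q + 1 =>
      obtain ⟨u, hu⟩ := hu p
      obtain ⟨v, hv⟩ := exists_lTensor (e := e) q (w (p + 1) q)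
      exact ⟨u, -((-1 : ℤ) ^ (p + 1) • v), by
        rw [dtot_succ_succ, hu, map_neg, map_zsmul, hv, sub_eq_add_neg]⟩
  have hip : (LinearMap.ker (d p)).subtype ∘ₗ Submodule.inclusion (bdry_le_ker hd p) =
    (bdry d p).subtype := rfl
  have hiq : (LinearMap.ker (e q)).subtype ∘ₗ Submodule.inclusion (bdry_le_ker he q) =
    (bdry e q).subtype := rfl
  have hzp : (bz d p).mkQ ∘ₗ Submodule.inclusion (bdry_le_ker hd p) = 0 := by
    ext x
    exact (Submodule.Quotient.mk_eq_zero _).2 x.2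
  have hzq : (bz e q).mkQ ∘ₗ Submodule.inclusion (bdry_le_ker he q) = 0 := by
    ext x
    exact (Submodule.Quotient.mk_eq_zero _).2 x.2
  obtain ⟨u', hu'⟩ : ∃ u', (Submodule.inclusion (bdry_le_ker hd p)).rTensor
    (LinearMap.ker (e q)) u = u' := ⟨_, rfl⟩
  have e1 : TensorProduct.map (LinearMap.ker (d p)).subtype (LinearMap.ker (e q)).subtype
      (ζ p q - u') = (bdry e q).subtype.lTensor (C p) v := by
    rw [map_sub, h, huv, ← hu', ← LinearMap.comp_apply, LinearMap.map_comp_rTensor, hip,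
      add_sub_cancel_left]
  have e2 : (LinearMap.ker (d p)).subtype.rTensor (LinearMap.ker (e q)) (ζ p q - u') =
      (Submodule.inclusion (bdry_le_ker he q)).lTensor (C p) v := by
    apply Module.Flat.lTensor_preserves_injective_linearMap (M := C p)
      (LinearMap.ker (e q)).subtype (LinearMap.ker (e q)).injective_subtype
    rw [map_eq', e1, ← LinearMap.comp_apply, ← LinearMap.lTensor_comp, hiq]
  have e3 : (bz e q).mkQ.lTensor (LinearMap.ker (d p)) (ζ p q - u') = 0 := by
    apply pure_all (LinearMap.ker (d p)) (LinearMap.ker (e q) ⧸ bz e q)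
    rw [map_zero, map_eq, ← map_eq', e2, ← LinearMap.comp_apply, ← LinearMap.lTensor_comp, hzq,
      LinearMap.lTensor_zero, LinearMap.zero_apply]
  have e4 : TensorProduct.map (bz d p).mkQ (bz e q).mkQ (ζ p q - u') = 0 := by
    rw [← map_eq, e3, map_zero]
  have e5 : TensorProduct.map (bz d p).mkQ (bz e q).mkQ u' = 0 := by
    rw [← hu', ← LinearMap.comp_apply, LinearMap.map_comp_rTensor, hzp,
      TensorProduct.map_zero_left, LinearMap.zero_apply]
  rw [map_sub, e5, sub_zero] at e4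
  exact e4

end K962.Kun
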