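import Groth.Agent.GrSegre.K962.KM
import Mathlib.RingTheory.Ideal.Operations
import Mathlib.RingTheory.Noetherian.Basic

/-!
# A Cech-like resolution modulo torsion

For homogeneous `x_i ∈ R_D` (`i ∈ κ` finite) and a graded module `X` we construct the complex
`X → C⁰ → C¹ → ⋯`, `C⁰ = ∏ X_{x_i}`, `Cⁿ⁺¹ = ∏ (coker)_{x_i}`, with torsion cohomology.
-/

set_option autoImplicit false
set_option linter.unusedSectionVars false
set_option linter.style.haveILetI false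
set_option warn.classDefReducibility false
universe u
open scoped TensorProduct DirectSum
open K759.Gr K759.GrObj K962.KM

namespace K962.Res

section Power

variable {R : Type u} [CommRing R] {M : Type u} [AddCommGroup M] [Module R M] {κ : Type} 

theorem exists_pow_smul_mem {a : Ideal R} (ha : a.FG) {x : κ → R} (hax : a ≤ (Ideal.span (Set.range x)).radical)
    (U : Submodule R M) {q : M} (h : ∀ i, ∃ j : ℕ, x i ^ j • q ∈ U) :
    ∃ m : ℕ, ∀ r ∈ a ^ m, r • q ∈ U := by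
  let J : Ideal R := U.comap (LinearMap.toSpanSingleton R M q)
  have hJ : ∀ r, r ∈ J ↔ r • q ∈ U := fun r => Iff.rfl
  have h1 : Ideal.span (Set.range x) ≤ J.radical := by
    rw [Ideal.span_le]
    rintro _ ⟨i, rfl⟩
    obtain ⟨j, hj⟩ := h i
    exact ⟨j, (hJ _).2 hj⟩
  have h2 : a ≤ J.radical := hax.trans (by
    have := Ideal.radical_mono h1
    rwa [Ideal.radical_idem] at this)
  obtain ⟨m, hm⟩ := Ideal.exists_pow_le_of_le_radical_of_fg h2 ha
  exact ⟨m, fun r hr => (hJ r).1 (hm hr)⟩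

end Power

variable {k : Type u} [CommRing k] {R : Type u} [CommRing R] [Algebra k R]
  {ι : Type} [AddCommGroup ι] [DecidableEq ι] {𝒜 : ι → Submodule k R} [GradedAlgebra 𝒜]
  {κ : Type} [Fintype κ] {D : ι} {x : κ → R} (hx : ∀ i, x i ∈ 𝒜 D)

/-- `∏ X_{x_i}` -/
noncomputable def L (X : KMod.{u} 𝒜) : KMod.{u} 𝒜 := pi (fun i => loc X (hx i))

/-- `X → ∏ X_{x_i}` -/
noncomputable def Lη (X : KMod.{u} 𝒜) : X.carrier →ₗ[R] (L hx X).carrier :=
  LinearMap.pi (fun i => locη X (hx i))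

theorem Lη_grHom (X : KMod.{u} 𝒜) : GrLC.IsGrHom X.gr (L hx X).gr (Lη hx X) :=
  fun n _ hm i => locη_grHom X (hx i) n _ hm

theorem Lη_eq_zero_iff (X : KMod.{u} 𝒜) {m : X.carrier} :
    Lη hx X m = 0 ↔ ∀ i, ∃ j : ℕ, x i ^ j • m = 0 := by
  constructor
  · intro h i
    exact (locη_eq_zero_iff X (hx i)).1 (congrFun h i)
  · intro h
    funext i
    exact (locη_eq_zero_iff X (hx i)).2 (h i)

/-- The successive cokernels. -/
noncomputable def Q (X : KMod.{u} 𝒜) : ℕ → KMod.{u} 𝒜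
  | 0 => X
  | n + 1 => quot (L hx (Q X n)) (LinearMap.range (Lη hx (Q X n)))
      (isHomogeneous_range (Lη_grHom hx (Q X n)))

/-- The terms of the resolution. -/
noncomputable def C (X : KMod.{u} 𝒜) (n : ℕ) : KMod.{u} 𝒜 := L hx (Q hx X n)

/-- The factors of the terms of the resolution: `Cⁿ = ∏ Yⁿ_i`. -/
noncomputable def Y (X : KMod.{u} 𝒜) (n : ℕ) (i : κ) : KMod.{u} 𝒜 := loc (Q hx X n) (hx i)

/-- projection -/
noncomputable def cproj (X : KMod.{u} 𝒜) (n : ℕ) (i : κ) : (C hx X n).carrier →ₗ[R] (Y hx X n i).carrier :=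
  LinearMap.proj (φ := fun i => (Y hx X n i).carrier) i

/-- inclusion -/
noncomputable def cincl [DecidableEq κ] (X : KMod.{u} 𝒜) (n : ℕ) (i : κ) :
    (Y hx X n i).carrier →ₗ[R] (C hx X n).carrier :=
  LinearMap.single R (fun i => (Y hx X n i).carrier) i

theorem cproj_grHom (X : KMod.{u} 𝒜) (n : ℕ) (i : κ) :
    GrLC.IsGrHom (C hx X n).gr (Y hx X n i).gr (cproj hx X n i) := fun _ _ hf => hf i

theorem cincl_grHom [DecidableEq κ] (X : KMod.{u} 𝒜) (n : ℕ) (i : κ) :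
    GrLC.IsGrHom (Y hx X n i).gr (C hx X n).gr (cincl hx X n i) := by
  intro g m hm j
  show Pi.single (M := fun i => (Y hx X n i).carrier) i m j ∈ (Y hx X n j).gr g
  by_cases h : j = i
  · subst h; rw [Pi.single_eq_same]; exact hm
  · rw [Pi.single_eq_of_ne h]; exact zero_mem _

theorem sum_cincl_cproj [DecidableEq κ] (X : KMod.{u} 𝒜) (n : ℕ) (u : (C hx X n).carrier) :
    ∑ i, cincl hx X n i (cproj hx X n i u) = u :=
  LinearMap.sum_single_apply (fun i => (Y hx X n i).carrier) u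

theorem Y_smul_bijective (X : KMod.{u} 𝒜) (n : ℕ) (i : κ) :
    Function.Bijective (fun q : (Y hx X n i).carrier => x i • q) := loc_smul_bijective _ (hx i)

/-- augmentation -/
noncomputable def ε (X : KMod.{u} 𝒜) : X.carrier →ₗ[R] (C hx X 0).carrier := Lη hx X

/-- projection to the cokernel -/
noncomputable def π (X : KMod.{u} 𝒜) (n : ℕ) : (C hx X n).carrier →ₗ[R] (Q hx X (n + 1)).carrier :=
  quotπ _ _ (isHomogeneous_range (Lη_grHom hx (Q hx X n)))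

/-- differentials -/
noncomputable def d (X : KMod.{u} 𝒜) (n : ℕ) : (C hx X n).carrier →ₗ[R] (C hx X (n + 1)).carrier :=
  Lη hx (Q hx X (n + 1)) ∘ₗ π hx X n

theorem ε_grHom (X : KMod.{u} 𝒜) : GrLC.IsGrHom X.gr (C hx X 0).gr (ε hx X) := Lη_grHom hx X

theorem π_grHom (X : KMod.{u} 𝒜) (n : ℕ) : GrLC.IsGrHom (C hx X n).gr (Q hx X (n + 1)).gr (π hx X n) :=
  quotπ_grHom _ _ _

theorem d_grHom (X : KMod.{u} 𝒜) (n : ℕ) : GrLC.IsGrHom (C hx X n).gr (C hx X (n + 1)).gr (d hx X n) :=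
  fun g m hm => Lη_grHom hx _ g _ (π_grHom hx X n g m hm)

theorem π_Lη (X : KMod.{u} 𝒜) (n : ℕ) (u : (Q hx X n).carrier) : π hx X n (Lη hx (Q hx X n) u) = 0 :=
  (quotπ_eq_zero_iff _ _ _).2 ⟨u, rfl⟩

theorem d_ε (X : KMod.{u} 𝒜) (u : X.carrier) : d hx X 0 (ε hx X u) = 0 := by
  show Lη hx _ (π hx X 0 (Lη hx X u)) = 0
  have : π hx X 0 (Lη hx X u) = 0 := π_Lη hx X 0 u
  rw [this, map_zero]

theorem d_d (X : KMod.{u} 𝒜) (n : ℕ) (u : (C hx X n).carrier) : d hx X (n + 1) (d hx X n u) = 0 := by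
  show Lη hx _ (π hx X (n + 1) (Lη hx (Q hx X (n + 1)) (π hx X n u))) = 0
  rw [π_Lη, map_zero]

theorem ε_eq_zero_iff (X : KMod.{u} 𝒜) {u : X.carrier} :
    ε hx X u = 0 ↔ ∀ i, ∃ j : ℕ, x i ^ j • u = 0 := Lη_eq_zero_iff hx X

theorem d_eq_zero (X : KMod.{u} 𝒜) (n : ℕ) {u : (C hx X n).carrier} (h : d hx X n u = 0) (i : κ) :
    ∃ j : ℕ, x i ^ j • u ∈ LinearMap.range (Lη hx (Q hx X n)) := by
  obtain ⟨j, hj⟩ := (Lη_eq_zero_iff hx (Q hx X (n + 1))).1 h i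
  refine ⟨j, ?_⟩
  rw [← map_smul] at hj
  exact (quotπ_eq_zero_iff _ _ _).1 hj

theorem range_d (X : KMod.{u} 𝒜) (n : ℕ) :
    LinearMap.range (d hx X n) = LinearMap.range (Lη hx (Q hx X (n + 1))) := by
  apply le_antisymm
  · rintro _ ⟨u, rfl⟩; exact ⟨π hx X n u, rfl⟩
  · rintro _ ⟨v, rfl⟩
    obtain ⟨u, rfl⟩ := quotπ_surjective _ _ (isHomogeneous_range (Lη_grHom hx (Q hx X n))) v
    exact ⟨u, rfl⟩

section Torsion

variable {a : Ideal R} (ha : a.FG) (hax : a ≤ (Ideal.span (Set.range x)).radical)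
include ha hax

theorem tors_ε (X : KMod.{u} 𝒜) {u : X.carrier} (h : ε hx X u = 0) :
    ∃ m : ℕ, ∀ r ∈ a ^ m, r • u = 0 :=
  exists_pow_smul_mem ha hax ⊥ ((ε_eq_zero_iff hx X).1 h)

theorem tors_zero (X : KMod.{u} 𝒜) {u : (C hx X 0).carrier} (h : d hx X 0 u = 0) :
    ∃ m : ℕ, ∀ r ∈ a ^ m, r • u ∈ LinearMap.range (ε hx X) :=
  exists_pow_smul_mem ha hax _ (d_eq_zero hx X 0 h)

theorem tors_succ (X : KMod.{u} 𝒜) (n : ℕ) {u : (C hx X (n + 1)).carrier} (h : d hx X (n + 1) u = 0) :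
    ∃ m : ℕ, ∀ r ∈ a ^ m, r • u ∈ LinearMap.range (d hx X n) := by
  rw [range_d]
  exact exists_pow_smul_mem ha hax _ (d_eq_zero hx X (n + 1) h)

end Torsion

end K962.Res
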