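import Groth.Agent.GrLC.K963.Lift

/-!
# Vanishing of graded local cohomology
-/

set_option autoImplicit false
set_option linter.unusedSectionVars false
universe u
open GrLC K963.Iface

namespace K962.Van

variable {ι : Type} [AddCommGroup ι] [DecidableEq ι]
variable {R : Type u} [CommRing R] {σ : Type u} [SetLike σ R] [AddSubgroupClass σ R]
variable {𝒜 : ι → σ} [GradedRing 𝒜]

/-- no local cohomology -/
def Van (a : HomogeneousIdeal 𝒜) (X : GMod.{u} 𝒜) : Prop :=
  ∀ (E : StarInjRes 𝒜 X.gr) (q : ℕ), Subsingleton (E.H a q)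

theorem van_of_bijective (a : HomogeneousIdeal 𝒜) {X : GMod.{u} 𝒜} {r : R} {d : ι} (hr : r ∈ 𝒜 d)
    (hra : r ∈ a.toIdeal) (h : Function.Bijective (fun x : X.carrier => r • x)) : Van a X := by
  intro E q
  let e : X.carrier ≃ₗ[R] X.carrier := LinearEquiv.ofBijective (r • (LinearMap.id : X.carrier →ₗ[R] X.carrier)) h
  have he : IsGrHomDeg X.gr X.gr e.toLinearMap d := isGrHomDeg_smul_id hr
  have hinj : ∀ x : E.H a q, r • x = 0 → x = 0 := by
    intro x hx
    apply (Hequiv E E a q e he).injective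
    rw [Hequiv_apply, map_zero]
    exact (Hmap_smul_id E a q hr he x).trans hx
  have hpow : ∀ (n : ℕ) (x : E.H a q), r ^ n • x = 0 → x = 0 := by
    intro n
    induction n with
    | zero => intro x hx; simpa using hx
    | succ n ih =>
      intro x hx
      rw [pow_succ, mul_smul] at hx
      exact hinj x (ih _ hx)
  refine ⟨fun x y => ?_⟩
  have key : ∀ x : E.H a q, x = 0 := by
    intro x
    obtain ⟨z, rfl⟩ := Submodule.mkQ_surjective _ x
    obtain ⟨n, hn⟩ := z.2.1
    apply hpow n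
    rw [← map_smul]
    have : r ^ n • z = 0 := Subtype.ext (hn _ (Ideal.pow_mem_pow hra n))
    rw [this, map_zero]
  rw [key x, key y]

theorem van_of_sum {κ : Type} [Fintype κ] (a : HomogeneousIdeal 𝒜) (X : GMod.{u} 𝒜) (Y : κ → GMod.{u} 𝒜)
    (inc : ∀ j, (Y j).carrier →ₗ[R] X.carrier) (prj : ∀ j, X.carrier →ₗ[R] (Y j).carrier)
    (hinc : ∀ j, IsGrHom (Y j).gr X.gr (inc j)) (hprj : ∀ j, IsGrHom X.gr (Y j).gr (prj j))
    (hsum : ∀ x, ∑ j, inc j (prj j x) = x) (hY : ∀ j, Van a (Y j)) : Van a X := by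
  classical
  intro E q
  have h0 : ∀ (h : IsGrHomDeg X.gr X.gr (0 : X.carrier →ₗ[R] X.carrier) 0) (x : E.H a q),
      Hmap E E a q 0 h x = 0 := by
    intro h x
    have h' : IsGrHomDeg X.gr X.gr ((0 : X.carrier →ₗ[R] X.carrier) + 0) 0 := by rw [add_zero]; exact h
    have e1 := Hmap_add E E a q h h h' x
    rw [Hmap_congr E E a q h' h (add_zero _) rfl] at e1
    simpa using e1
  have hj : ∀ j, IsGrHomDeg X.gr X.gr (inc j ∘ₗ prj j) 0 := fun j g x hx => by
    rw [add_zero]; exact hinc j g _ (hprj j g x hx)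
  have hone : ∀ j (x : E.H a q), Hmap E E a q (inc j ∘ₗ prj j) (hj j) x = 0 := by
    intro j x
    obtain ⟨F⟩ := nonempty_res 𝒜 (Y j).gr
    have h1 : IsGrHomDeg X.gr (Y j).gr (prj j) 0 := fun g x hx => by rw [add_zero]; exact hprj j g x hx
    have h2 : IsGrHomDeg (Y j).gr X.gr (inc j) 0 := fun g x hx => by rw [add_zero]; exact hinc j g x hx
    have h3 : IsGrHomDeg X.gr X.gr (inc j ∘ₗ prj j) (0 + 0) := by rw [add_zero]; exact hj j
    rw [Hmap_congr E E a q (hj j) h3 rfl (add_zero _).symm, Hmap_comp E F E a q h1 h2 h3]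
    haveI := hY j F q
    rw [Subsingleton.elim (Hmap E F a q (prj j) h1 x) 0, map_zero]
  have hs : ∀ s : Finset κ, ∃ h : IsGrHomDeg X.gr X.gr (∑ j ∈ s, inc j ∘ₗ prj j) 0, ∀ x : E.H a q,
      Hmap E E a q _ h x = 0 := by
    intro s
    induction s using Finset.induction_on with
    | empty =>
      refine ⟨fun g x _ => by rw [Finset.sum_empty]; exact zero_mem _, fun x => ?_⟩
      rw [Hmap_congr E E a q _ (fun g x _ => zero_mem _) Finset.sum_empty rfl]
      exact h0 _ x
    | insert j s hjs ih =>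
      obtain ⟨h, hx⟩ := ih
      have h' : IsGrHomDeg X.gr X.gr (inc j ∘ₗ prj j + ∑ j ∈ s, inc j ∘ₗ prj j) 0 :=
        fun g x hx => add_mem (hj j g x hx) (h g x hx)
      refine ⟨by rw [Finset.sum_insert hjs]; exact h', fun x => ?_⟩
      rw [Hmap_congr E E a q _ h' (Finset.sum_insert hjs) rfl, Hmap_add E E a q (hj j) h h', hone, hx, add_zero]
  obtain ⟨h, hx⟩ := hs Finset.univ
  have hid : (∑ j, inc j ∘ₗ prj j) = (LinearMap.id : X.carrier →ₗ[R] X.carrier) := by
    ext x
    rw [LinearMap.sum_apply]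
    exact hsum x
  refine ⟨fun x y => ?_⟩
  have key : ∀ x : E.H a q, x = 0 := by
    intro x
    have h1 : IsGrHomDeg X.gr X.gr (LinearMap.id : X.carrier →ₗ[R] X.carrier) 0 := by rw [← hid]; exact h
    rw [← Hmap_id E a q h1 x, Hmap_congr E E a q h1 h hid.symm rfl]
    exact hx x
  rw [key x, key y]

end K962.Van
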