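import Groth.Agent.GrLC.K963.Iface
import Groth.Agent.GrSegre.K962.Coh
import Groth.Agent.GrSegre.K962.Res
import Groth.Agent.GrSegre.K962.Van

/-!
# Local cohomology of `M` through the Čech-like resolution
-/

set_option autoImplicit false
set_option linter.unusedSectionVars false
set_option linter.style.haveILetI false
set_option warn.classDefReducibility false
universe u
open scoped TensorProduct DirectSum
open K759.Gr K759.GrObj K962.KM K962.Coh K962.Van GrLC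

namespace K962.One

variable {k : Type u} [CommRing k] {R : Type u} [CommRing R] [Algebra k R] 
  {ι : Type} [AddCommGroup ι] [DecidableEq ι] {𝒜 : ι → Submodule k R} [GradedAlgebra 𝒜]
  (a : HomogeneousIdeal 𝒜) {κ : Type} [Fintype κ] {D : ι} {x : κ → R} (hx : ∀ i, x i ∈ 𝒜 D)
  (X : KMod.{u} 𝒜)

/-- the augmented complex -/
noncomputable def Kr : ℕ → GrLC.GMod.{u} 𝒜
  | 0 => X.toG
  | n + 1 => (Res.C hx X n).toG

/-- its differentials -/
noncomputable def dr : ∀ n, (Kr hx X n).carrier →ₗ[R] (Kr hx X (n + 1)).carrier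
  | 0 => Res.ε hx X
  | n + 1 => Res.d hx X n

theorem dr_grHom : ∀ n, GrLC.IsGrHom (Kr hx X n).gr (Kr hx X (n + 1)).gr (dr hx X n)
  | 0 => Res.ε_grHom hx X
  | n + 1 => Res.d_grHom hx X n

theorem dr_dr : ∀ n y, dr hx X (n + 1) (dr hx X n y) = 0
  | 0, y => Res.d_ε hx X y
  | n + 1, y => Res.d_d hx X n y

variable {a} in
theorem van_C (hxa : ∀ i, x i ∈ a.toIdeal) (n : ℕ) : Van a (Res.C hx X n).toG := by
  classical
  exact van_of_sum a (Res.C hx X n).toG (fun i => (Res.Y hx X n i).toG) (fun i => Res.cincl hx X n i)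
    (fun i => Res.cproj hx X n i) (fun i => Res.cincl_grHom hx X n i) (fun i => Res.cproj_grHom hx X n i)
    (fun u => Res.sum_cincl_cproj hx X n u)
    (fun i => van_of_bijective a (hx i) (hxa i) (Res.Y_smul_bijective hx X n i))

variable [IsNoetherianRing R]

variable {a} in
theorem comp (hxa : ∀ i, x i ∈ a.toIdeal) (hax : a.toIdeal ≤ (Ideal.span (Set.range x)).radical)
    (E : StarInjRes 𝒜 X.gr) :
    (∃ φ : LinearMap.ker (Res.ε hx X) ≃ₗ[R] E.H a 0,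
      ∀ (y : LinearMap.ker (Res.ε hx X)) g, φ y ∈ E.Hcomp a 0 g ↔ (y : X.carrier) ∈ X.gr g) ∧
    (∃ φ : LinearMap.ker (Res.d hx X 0) →ₗ[R] E.H a 1, Function.Surjective φ ∧
      LinearMap.ker φ = (LinearMap.range (Res.ε hx X)).comap (LinearMap.ker (Res.d hx X 0)).subtype ∧
      (∀ (y : LinearMap.ker (Res.d hx X 0)) g, (y : (Res.C hx X 0).carrier) ∈ (Res.C hx X 0).gr g →
        φ y ∈ E.Hcomp a 1 g) ∧
      (∀ g, ∀ z ∈ E.Hcomp a 1 g, ∃ y : LinearMap.ker (Res.d hx X 0),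
        (y : (Res.C hx X 0).carrier) ∈ (Res.C hx X 0).gr g ∧ φ y = z)) ∧
    ∀ q, ∃ φ : LinearMap.ker (Res.d hx X (q + 1)) →ₗ[R] E.H a (q + 2), Function.Surjective φ ∧
      LinearMap.ker φ = (LinearMap.range (Res.d hx X q)).comap (LinearMap.ker (Res.d hx X (q + 1))).subtype ∧
      (∀ (y : LinearMap.ker (Res.d hx X (q + 1))) g,
        (y : (Res.C hx X (q + 1)).carrier) ∈ (Res.C hx X (q + 1)).gr g → φ y ∈ E.Hcomp a (q + 2) g) ∧
      (∀ g, ∀ z ∈ E.Hcomp a (q + 2) g, ∃ y : LinearMap.ker (Res.d hx X (q + 1)),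
        (y : (Res.C hx X (q + 1)).carrier) ∈ (Res.C hx X (q + 1)).gr g ∧ φ y = z) := by
  have hfg : a.toIdeal.FG := IsNoetherian.noetherian _
  have key := K963.Iface.comparison a (Kr hx X) (dr hx X) (dr_grHom hx X) (dr_dr hx X)
    (fun y hy => Res.tors_ε hx hfg hax X hy)
    (fun n => match n with
      | 0 => fun y hy => Res.tors_zero hx hfg hax X hy
      | n + 1 => fun y hy => Res.tors_succ hx hfg hax X n hy)
    (fun n => van_C hx X hxa n) E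
  exact ⟨key.1, key.2 0, fun q => key.2 (q + 1)⟩

/-- `M → H⁰(C)` -/
noncomputable def εZ : X.carrier →ₗ[R] (Zo (Res.d_grHom hx X) 0).carrier :=
  (Res.ε hx X).codRestrict (LinearMap.ker (Res.d hx X 0)) (fun m => Res.d_ε hx X m)

theorem zsub_εZ (m : X.carrier) : zsub (Res.d_grHom hx X) 0 (εZ hx X m) = Res.ε hx X m := rfl

section

variable {a}
variable (hxa : ∀ i, x i ∈ a.toIdeal) (hax : a.toIdeal ≤ (Ideal.span (Set.range x)).radical)
include hxa hax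

/-- `H^{q+1}(C) ≅ H^{q+2}_a(M)` -/
theorem Ho_succ (E : StarInjRes 𝒜 X.gr) (q : ℕ) :
    ∃ θ : (Ho (Res.d_grHom hx X) (q + 1)).carrier ≃ₗ[R] E.H a (q + 2),
      ∀ y g, y ∈ (Ho (Res.d_grHom hx X) (q + 1)).gr g ↔ θ y ∈ E.Hcomp a (q + 2) g := by
  obtain ⟨φ, hs, hk, hg, hl⟩ := (comp hx X hxa hax E).2.2 q
  have hk' : LinearMap.ker φ = bd (Res.d_grHom hx X) (q + 1) := hk
  have hbd : ∀ z : (Zo (Res.d_grHom hx X) (q + 1)).carrier, z ∈ bd (Res.d_grHom hx X) (q + 1) ↔ φ z = 0 := by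
    intro z; rw [← hk']; exact Iff.rfl
  let θ₀ : (Ho (Res.d_grHom hx X) (q + 1)).carrier →ₗ[R] E.H a (q + 2) :=
    (bd (Res.d_grHom hx X) (q + 1)).liftQ (φ : (Zo (Res.d_grHom hx X) (q + 1)).carrier →ₗ[R] E.H a (q + 2))
      (fun z hz => (hbd z).1 hz)
  have hθ : ∀ z, θ₀ (hpi (Res.d_grHom hx X) (q + 1) z) = φ z := fun z => rfl
  have hinj : Function.Injective θ₀ := by
    rw [injective_iff_map_eq_zero]
    intro y hy
    obtain ⟨z, rfl⟩ := hpi_surjective (Res.d_grHom hx X) (q + 1) y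
    rw [hθ] at hy
    exact (hpi_eq_zero_iff (Res.d_grHom hx X)).2 ((hbd z).2 hy)
  have hsurj : Function.Surjective θ₀ := fun y => by
    obtain ⟨z, rfl⟩ := hs y
    exact ⟨hpi (Res.d_grHom hx X) (q + 1) z, hθ z⟩
  refine ⟨LinearEquiv.ofBijective θ₀ ⟨hinj, hsurj⟩, fun y g => ⟨fun hy => ?_, fun hy => ?_⟩⟩
  · obtain ⟨z, hz, rfl⟩ := exists_hpi_eq (Res.d_grHom hx X) hy
    exact hg z g hz
  · obtain ⟨z, hz, hze⟩ := hl g _ hy
    have : hpi (Res.d_grHom hx X) (q + 1) z = y := hinj hze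
    rw [← this]
    exact hpi_grHom (Res.d_grHom hx X) (q + 1) g z hz

/-- `0 → H⁰_a(M) → M → H⁰(C) → H¹_a(M) → 0` -/
theorem Ho_zero (E : StarInjRes 𝒜 X.gr) :
    (∀ m, εZ hx X m = 0 ↔ m ∈ gam a.toIdeal X.carrier) ∧
    ∃ θ : (Zo (Res.d_grHom hx X) 0).carrier →ₗ[R] E.H a 1, Function.Surjective θ ∧
      (∀ z, θ z = 0 ↔ ∃ m, εZ hx X m = z) ∧
      (∀ z g, z ∈ (Zo (Res.d_grHom hx X) 0).gr g → θ z ∈ E.Hcomp a 1 g) ∧
      (∀ g, ∀ y ∈ E.Hcomp a 1 g, ∃ z ∈ (Zo (Res.d_grHom hx X) 0).gr g, θ z = y) := by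
  refine ⟨fun m => ⟨fun h => ?_, fun h => ?_⟩, ?_⟩
  · have : Res.ε hx X m = 0 := congrArg (zsub (Res.d_grHom hx X) 0) h
    exact Res.tors_ε hx (IsNoetherian.noetherian _) hax X this
  · apply zsub_injective (Res.d_grHom hx X) 0
    rw [zsub_εZ, map_zero, Res.ε_eq_zero_iff]
    obtain ⟨n, hn⟩ := h
    exact fun i => ⟨n, hn _ (Ideal.pow_mem_pow (hxa i) n)⟩
  · obtain ⟨φ, hs, hk, hg, hl⟩ := (comp hx X hxa hax E).2.1
    refine ⟨φ, hs, fun z => ?_, fun z g hz => hg z g hz, fun g y hy => hl g y hy⟩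
    have : z ∈ LinearMap.ker φ ↔ z ∈ (LinearMap.range (Res.ε hx X)).comap
      (LinearMap.ker (Res.d hx X 0)).subtype := by rw [hk]
    refine this.trans ⟨?_, ?_⟩
    · rintro ⟨m, hm⟩; exact ⟨m, zsub_injective (Res.d_grHom hx X) 0 hm⟩
    · rintro ⟨m, rfl⟩; exact ⟨m, rfl⟩

theorem εZ_grHom : GrLC.IsGrHom X.gr (Zo (Res.d_grHom hx X) 0).gr (εZ hx X) :=
  fun g m hm => Res.ε_grHom hx X g m hm

/-- If `H⁰ = H¹ = 0` then `M ≅ H⁰(C)`. -/
theorem Ho_zero_equiv (E : StarInjRes 𝒜 X.gr) (h0 : ∀ g, E.Hcomp a 0 g = ⊥) (h1 : ∀ g, E.Hcomp a 1 g = ⊥) :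
    ∃ θ : X.carrier ≃ₗ[R] (Ho (Res.d_grHom hx X) 0).carrier,
      ∀ m g, m ∈ X.gr g ↔ θ m ∈ (Ho (Res.d_grHom hx X) 0).gr g := by
  have s0 := K963.Iface.subsingleton_of_Hcomp_eq_bot E a 0 h0
  have s1 := K963.Iface.subsingleton_of_Hcomp_eq_bot E a 1 h1
  obtain ⟨hz, θ, hs, hk, -, -⟩ := Ho_zero hx X hxa hax E
  have hinj : Function.Injective (εZ hx X) := by
    rw [injective_iff_map_eq_zero]
    intro m hm
    have hm' := (hz m).1 hm
    have : (⟨m, hm'⟩ : gam a.toIdeal X.carrier) = 0 :=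
      (K963.Iface.H0equiv E a).injective (Subsingleton.elim _ _)
    exact congrArg Subtype.val this
  have hsurj : Function.Surjective (εZ hx X) := fun z => (hk z).1 (Subsingleton.elim _ _)
  have hpz : Function.Injective (hpi (Res.d_grHom hx X) 0) := by
    rw [injective_iff_map_eq_zero]
    intro z hz
    exact (hpi_zero_eq_zero_iff (Res.d_grHom hx X)).1 hz
  have hg : GrLC.IsGrHom X.gr (Ho (Res.d_grHom hx X) 0).gr (hpi (Res.d_grHom hx X) 0 ∘ₗ εZ hx X) :=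
    fun g m hm => hpi_grHom _ 0 g _ (εZ_grHom hx X hxa hax g m hm)
  refine ⟨LinearEquiv.ofBijective (hpi (Res.d_grHom hx X) 0 ∘ₗ εZ hx X)
    ⟨hpz.comp hinj, (hpi_surjective _ 0).comp hsurj⟩, fun m g => ⟨fun h => hg g m h, fun h => ?_⟩⟩
  exact mem_of_map_mem hg (hpz.comp hinj) h

end

end K962.One
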