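import Groth.Agent.GrSegre.K962.TotTors
import Mathlib.RingTheory.FiniteType
import Mathlib.RingTheory.GradedAlgebra.Homogeneous.Ideal

/-!
# Homogeneous elements of one degree generating the irrelevant ideal up to radical
-/

set_option autoImplicit false
set_option linter.unusedSectionVars false
universe u
open scoped TensorProduct DirectSum
open K962.TotTors K962.Basic K962.Pieces

namespace K962.Par

section One

variable {k : Type u} [CommRing k] {R : Type u} [CommRing R] [Algebra k R] [IsNoetherianRing R]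
  {𝒜 : ℤ → Submodule k R} [GradedAlgebra 𝒜]

theorem exists_params (a : Ideal R) (ha : a = Ideal.span (⋃ n ∈ Set.Ioi (0 : ℤ), (𝒜 n : Set R))) :
    ∃ D₀ : ℕ, 0 < D₀ ∧ ∀ D : ℕ, 0 < D → D₀ ∣ D → ∃ (n : ℕ) (x : Fin n → R),
      (∀ i, x i ∈ 𝒜 (D : ℤ)) ∧ (∀ i, x i ∈ a) ∧ a ≤ (Ideal.span (Set.range x)).radical := by
  classical
  have hfg : (Submodule.span R (⋃ n ∈ Set.Ioi (0 : ℤ), (𝒜 n : Set R))).FG := IsNoetherian.noetherian _
  obtain ⟨s, hs, hspan⟩ := (Submodule.fg_span_iff_fg_span_finset_subset _).1 hfg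
  have hdeg : ∀ f ∈ s, ∃ n : ℕ, 0 < n ∧ f ∈ 𝒜 (n : ℤ) := by
    intro f hf
    have := hs hf
    simp only [Set.mem_iUnion, Set.mem_Ioi] at this
    obtain ⟨n, hn, hfn⟩ := this
    refine ⟨n.toNat, by omega, ?_⟩
    rwa [Int.toNat_of_nonneg (by omega)]
  choose! deg hdpos hdmem using hdeg
  refine ⟨∏ f ∈ s, deg f, Finset.prod_pos fun f hf => hdpos f hf, fun D hD hdvd => ?_⟩
  have hpow : ∀ f ∈ s, f ^ (D / deg f) ∈ 𝒜 (D : ℤ) := by
    intro f hf
    have h1 := SetLike.pow_mem_graded (A := 𝒜) (D / deg f) (hdmem f hf)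
    have h2 : (D / deg f) • (deg f : ℤ) = (D : ℤ) := by
      have hd : deg f ∣ D := (Finset.dvd_prod_of_mem deg hf).trans hdvd
      rw [nsmul_eq_mul]
      exact_mod_cast Nat.div_mul_cancel hd
    rwa [h2] at h1
  have hDf : ∀ f ∈ s, 0 < D / deg f := fun f hf =>
    Nat.div_pos (Nat.le_of_dvd hD ((Finset.dvd_prod_of_mem deg hf).trans hdvd)) (hdpos f hf)
  refine ⟨s.card, fun i => (s.equivFin.symm i : R) ^ (D / deg (s.equivFin.symm i : R)), fun i =>
    hpow _ (s.equivFin.symm i).2, fun i => ?_, ?_⟩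
  · rw [ha]
    refine Ideal.subset_span ?_
    simp only [Set.mem_iUnion, Set.mem_Ioi]
    exact ⟨D, by exact_mod_cast hD, hpow _ (s.equivFin.symm i).2⟩
  · rw [ha]
    have : Ideal.span (⋃ n ∈ Set.Ioi (0 : ℤ), (𝒜 n : Set R)) = Ideal.span (s : Set R) := hspan
    rw [this, Ideal.span_le]
    intro f hf
    refine ⟨D / deg f, Ideal.subset_span ⟨s.equivFin ⟨f, hf⟩, ?_⟩⟩
    simp

end One

section Two

variable {k : Type u} [Field k] {R S T : Type u} [CommRing R] [Algebra k R] [CommRing S] [Algebra k S]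
  [CommRing T] [Algebra k T]
  {𝒜 : ℤ → Submodule k R} [GradedAlgebra 𝒜] {ℬ : ℤ → Submodule k S} [GradedAlgebra ℬ]
  {𝒯 : ℤ → Submodule k T} [GradedAlgebra 𝒯] {ψ : T →ₐ[k] R ⊗[k] S} (hT : GrSeg.IsSegreRing 𝒜 ℬ 𝒯 ψ)
include hT

theorem psi_mem_ps {t : T} (ht : t ∈ Ideal.span (⋃ n ∈ Set.Ioi (0 : ℤ), (𝒯 n : Set T))) :
    ψ t ∈ (ps (Ideal.span (⋃ n ∈ Set.Ioi (0 : ℤ), (𝒜 n : Set R)))
      (Ideal.span (⋃ n ∈ Set.Ioi (0 : ℤ), (ℬ n : Set S))) : Submodule k (R ⊗[k] S)) := by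
  induction ht using Submodule.span_induction with
  | mem t ht =>
    simp only [Set.mem_iUnion, Set.mem_Ioi] at ht
    obtain ⟨n, hn, ht⟩ := ht
    have h1 := psi_mem hT ht
    refine Submodule.span_mono ?_ h1
    rintro _ ⟨a, ha, b, hb, rfl⟩
    refine ⟨a, Ideal.subset_span ?_, b, Ideal.subset_span ?_, rfl⟩ <;> simp only [Set.mem_iUnion, Set.mem_Ioi]
    · exact ⟨n, hn, ha⟩
    · exact ⟨n, hn, hb⟩
  | zero => rw [map_zero]; exact zero_mem _
  | add x y _ _ hx hy => rw [map_add]; exact add_mem hx hy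
  | smul c x _ hx =>
    rw [smul_eq_mul, map_mul]
    have h1 : ψ c ∈ (ps ⊤ ⊤ : Submodule k (R ⊗[k] S)) := by rw [ps_top]; trivial
    have := mul_mem_ps h1 hx
    rwa [Ideal.top_mul, Ideal.top_mul] at this

end Two

end K962.Par
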