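import Groth.Agent.GrSegre.K962.TotTors

/-!
# The cohomology of `K` is torsion, in low degrees
-/

set_option autoImplicit false
set_option linter.unusedSectionVars false
set_option linter.style.haveILetI false
set_option warn.classDefReducibility false
universe u
open scoped TensorProduct DirectSum
open K759.Gr K759.GrObj K962.Basic K962.Pieces K962.KM K962.Seg K962.Tot K962.TotK K962.TotTors
open Groth.Agent.Ega3B.KunnethAlg

namespace K962.TotAug

section Act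

variable {k : Type u} [Field k] {R S : Type u} [CommRing R] [Algebra k R] [CommRing S] [Algebra k S]
  {M N : Type u} [AddCommGroup M] [Module R M] [Module k M] [IsScalarTower k R M]
  [AddCommGroup N] [Module S N] [Module k N] [IsScalarTower k S N]
  {C D : Type u} [AddCommGroup C] [Module R C] [Module k C] [IsScalarTower k R C]
  [AddCommGroup D] [Module S D] [Module k D] [IsScalarTower k S D]
  {aR : Ideal R} {aS : Ideal S}

/-- reduction to pure elements of `ps` -/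
theorem act_mem_of_pure (U : Submodule k (M ⊗[k] N)) {z : M ⊗[k] N} {I : Ideal R} {J : Ideal S}
    (h : ∀ a ∈ I, ∀ b ∈ J, GrSeg.act k R S M N (a ⊗ₜ[k] b) z ∈ U) :
    ∀ c ∈ (ps I J : Submodule k (R ⊗[k] S)), GrSeg.act k R S M N c z ∈ U := by
  intro c hc
  induction hc using Submodule.span_induction with
  | mem c hc =>
    obtain ⟨a, ha, b, hb, rfl⟩ := hc
    exact h a ha b hb
  | zero => rw [map_zero, LinearMap.zero_apply]; exact zero_mem _
  | add c c' _ _ h h' => rw [map_add, LinearMap.add_apply]; exact add_mem h h'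
  | smul r c _ h => rw [map_smul, LinearMap.smul_apply]; exact Submodule.smul_mem _ _ h

theorem exists_add (U : Submodule k (M ⊗[k] N)) {z z' : M ⊗[k] N}
    (h : ∃ m : ℕ, ∀ c ∈ (ps (aR ^ m) (aS ^ m) : Submodule k (R ⊗[k] S)), GrSeg.act k R S M N c z ∈ U)
    (h' : ∃ m : ℕ, ∀ c ∈ (ps (aR ^ m) (aS ^ m) : Submodule k (R ⊗[k] S)), GrSeg.act k R S M N c z' ∈ U) :
    ∃ m : ℕ, ∀ c ∈ (ps (aR ^ m) (aS ^ m) : Submodule k (R ⊗[k] S)), GrSeg.act k R S M N c (z + z') ∈ U := by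
  obtain ⟨m, hm⟩ := h
  obtain ⟨m', hm'⟩ := h'
  refine ⟨max m m', fun c hc => ?_⟩
  rw [map_add]
  refine add_mem (hm c ?_) (hm' c ?_)
  · exact ps_mono (Ideal.pow_le_pow_right (le_max_left _ _)) (Ideal.pow_le_pow_right (le_max_left _ _)) hc
  · exact ps_mono (Ideal.pow_le_pow_right (le_max_right _ _)) (Ideal.pow_le_pow_right (le_max_right _ _)) hc

theorem tors_left (g : N →ₗ[k] D) (tη : ∀ u, g u = 0 → ∃ m : ℕ, ∀ r ∈ aS ^ m, r • u = 0)
    (y : M ⊗[k] LinearMap.ker g) :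
    ∃ m : ℕ, ∀ c ∈ (ps (aR ^ m) (aS ^ m) : Submodule k (R ⊗[k] S)),
      GrSeg.act k R S M N c (LinearMap.lTensor M (LinearMap.ker g).subtype y) ∈ (⊥ : Submodule k (M ⊗[k] N)) := by
  induction y using TensorProduct.induction_on with
  | zero => exact ⟨0, fun c _ => by rw [map_zero, map_zero]; exact zero_mem _⟩
  | add y y' h h' => rw [map_add]; exact exists_add ⊥ h h'
  | tmul u v =>
    obtain ⟨m, hm⟩ := tη v.1 v.2
    refine ⟨m, act_mem_of_pure ⊥ fun a _ b hb => ?_⟩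
    rw [LinearMap.lTensor_tmul, GrSeg.act_tmul]
    show a • u ⊗ₜ[k] (b • v.1) ∈ _
    rw [hm b hb, TensorProduct.tmul_zero]; exact zero_mem _

theorem tors_right (f : M →ₗ[k] C) (tε : ∀ u, f u = 0 → ∃ m : ℕ, ∀ r ∈ aR ^ m, r • u = 0)
    (y : LinearMap.ker f ⊗[k] N) :
    ∃ m : ℕ, ∀ c ∈ (ps (aR ^ m) (aS ^ m) : Submodule k (R ⊗[k] S)),
      GrSeg.act k R S M N c (LinearMap.rTensor N (LinearMap.ker f).subtype y) ∈ (⊥ : Submodule k (M ⊗[k] N)) := by
  induction y using TensorProduct.induction_on with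
  | zero => exact ⟨0, fun c _ => by rw [map_zero, map_zero]; exact zero_mem _⟩
  | add y y' h h' => rw [map_add]; exact exists_add ⊥ h h'
  | tmul u v =>
    obtain ⟨m, hm⟩ := tε u.1 u.2
    refine ⟨m, act_mem_of_pure ⊥ fun a ha b _ => ?_⟩
    rw [LinearMap.rTensor_tmul, GrSeg.act_tmul]
    show (a • u.1) ⊗ₜ[k] (b • v) ∈ _
    rw [hm a ha, TensorProduct.zero_tmul]; exact zero_mem _

/-- the kernel of `ε ⊗ η` is torsion. -/
theorem tors_ker (ε : M →ₗ[R] C) (η : N →ₗ[S] D)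
    (tε : ∀ u, ε u = 0 → ∃ m : ℕ, ∀ r ∈ aR ^ m, r • u = 0)
    (tη : ∀ u, η u = 0 → ∃ m : ℕ, ∀ r ∈ aS ^ m, r • u = 0) {z : M ⊗[k] N}
    (hz : TensorProduct.map (ε.restrictScalars k) (η.restrictScalars k) z = 0) :
    ∃ m : ℕ, ∀ c ∈ (ps (aR ^ m) (aS ^ m) : Submodule k (R ⊗[k] S)),
      GrSeg.act k R S M N c z ∈ (⊥ : Submodule k (M ⊗[k] N)) := by
  set f := ε.restrictScalars k with hf
  set g := η.restrictScalars k with hg
  -- `z` dies in `range f ⊗ range g`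
  have h1 : TensorProduct.map f.rangeRestrict g.rangeRestrict z = 0 := by
    apply Module.Flat.tensorProduct_mapIncl_injective_of_right (LinearMap.range f) (LinearMap.range g)
    rw [map_zero, ← hz, TensorProduct.mapIncl, ← LinearMap.comp_apply, ← TensorProduct.map_comp]
    rfl
  have h2 : z ∈ LinearMap.range (LinearMap.lTensor M (LinearMap.ker g).subtype) ⊔
      LinearMap.range (LinearMap.rTensor N (LinearMap.ker f).subtype) := by
    have := TensorProduct.map_ker (f := (LinearMap.ker f).subtype) (g := f.rangeRestrict)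
      (f' := (LinearMap.ker g).subtype) (g' := g.rangeRestrict)
      (by rw [LinearMap.exact_iff, LinearMap.ker_rangeRestrict, Submodule.range_subtype])
      (LinearMap.surjective_rangeRestrict f)
      (by rw [LinearMap.exact_iff, LinearMap.ker_rangeRestrict, Submodule.range_subtype])
      (LinearMap.surjective_rangeRestrict g)
    rw [← this]; exact h1
  obtain ⟨z1, ⟨y1, rfl⟩, z2, ⟨y2, rfl⟩, rfl⟩ := Submodule.mem_sup.1 h2
  exact exists_add (⊥ : Submodule k (M ⊗[k] N)) (tors_left g tη y1) (tors_right f tε y2)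

/-- cocycles in bidegree `(0, 0)` come from `M ⊗ N` up to torsion. -/
theorem tors_range (ε : M →ₗ[R] C) (η : N →ₗ[S] D) (U : Submodule k C) (V : Submodule k D)
    (tε : ∀ u ∈ U, ∃ m : ℕ, ∀ r ∈ aR ^ m, r • u ∈ LinearMap.range ε)
    (tη : ∀ u ∈ V, ∃ m : ℕ, ∀ r ∈ aS ^ m, r • u ∈ LinearMap.range η) (ζ : U ⊗[k] V) :
    ∃ m : ℕ, ∀ c ∈ (ps (aR ^ m) (aS ^ m) : Submodule k (R ⊗[k] S)),
      GrSeg.act k R S C D c (TensorProduct.map U.subtype V.subtype ζ) ∈
        LinearMap.range (TensorProduct.map (ε.restrictScalars k) (η.restrictScalars k)) := by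
  induction ζ using TensorProduct.induction_on with
  | zero => exact ⟨0, fun c _ => by rw [map_zero, map_zero]; exact zero_mem _⟩
  | add y y' h h' => rw [map_add]; exact exists_add _ h h'
  | tmul u v =>
    obtain ⟨m, hm⟩ := tε u.1 u.2
    obtain ⟨m', hm'⟩ := tη v.1 v.2
    refine ⟨max m m', act_mem_of_pure _ fun a ha b hb => ?_⟩
    obtain ⟨x, hx⟩ := hm a (Ideal.pow_le_pow_right (le_max_left _ _) ha)
    obtain ⟨y, hy⟩ := hm' b (Ideal.pow_le_pow_right (le_max_right _ _) hb)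
    refine ⟨x ⊗ₜ y, ?_⟩
    rw [TensorProduct.map_tmul, TensorProduct.map_tmul, GrSeg.act_tmul]
    show ε x ⊗ₜ[k] η y = _
    rw [hx, hy]; rfl

end Act

section Aug

variable {k : Type u} [Field k] {R S T : Type u} [CommRing R] [Algebra k R] [CommRing S] [Algebra k S]
  [CommRing T] [Algebra k T]
  {ι : Type} [AddCommGroup ι] [DecidableEq ι]
  {𝒜 : ι → Submodule k R} [GradedAlgebra 𝒜] {ℬ : ι → Submodule k S} [GradedAlgebra ℬ]
  {𝒯 : ι → Submodule k T} [GradedAlgebra 𝒯] {ψ : T →ₐ[k] R ⊗[k] S} (hT : GrSeg.IsSegreRing 𝒜 ℬ 𝒯 ψ)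
  {C : ℕ → KMod.{u} 𝒜} {d : ∀ p, (C p).carrier →ₗ[R] (C (p + 1)).carrier}
  {D : ℕ → KMod.{u} ℬ} {e : ∀ p, (D p).carrier →ₗ[S] (D (p + 1)).carrier}
  {aR : Ideal R} {aS : Ideal S} {aT : Ideal T}
  {M N P : Type u} [AddCommGroup M] [Module R M] [Module k M] [IsScalarTower k R M]
  [AddCommGroup N] [Module S N] [Module k N] [IsScalarTower k S N]
  [AddCommGroup P] [Module T P] [Module k P] [IsScalarTower k T P]
  {ℳ : ι → Submodule k M} [DirectSum.Decomposition ℳ] [SetLike.GradedSMul 𝒜 ℳ]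
  {𝒩 : ι → Submodule k N} [DirectSum.Decomposition 𝒩] [SetLike.GradedSMul ℬ 𝒩]
  {𝒬 : ι → AddSubgroup P} [DirectSum.Decomposition 𝒬]
  {φ : P →ₗ[k] M ⊗[k] N} (hP : GrSeg.IsSegreMod ψ ℳ 𝒩 𝒬 φ)
  (ε : M →ₗ[R] (C 0).carrier) (η : N →ₗ[S] (D 0).carrier)
  (hε : ∀ n, ∀ x ∈ ℳ n, ε x ∈ (C 0).gr n) (hη : ∀ n, ∀ x ∈ 𝒩 n, η x ∈ (D 0).gr n)

theorem tors_aug (hψ : ∀ t ∈ aT, ψ t ∈ (ps aR aS : Submodule k (R ⊗[k] S)))
    (tε : ∀ u, ε u = 0 → ∃ m : ℕ, ∀ r ∈ aR ^ m, r • u = 0)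
    (tη : ∀ u, η u = 0 → ∃ m : ℕ, ∀ r ∈ aS ^ m, r • u = 0) {x : P}
    (hx : aug hT hP ε η hε hη x = 0) : ∃ m : ℕ, ∀ t ∈ aT ^ m, t • x = 0 := by
  have h0 : aug0 (ψ := ψ) φ ε η x = 0 := congrFun (congrFun (congrArg Subtype.val hx) 0) 0
  have h1 : TensorProduct.map (ε.restrictScalars k) (η.restrictScalars k) (φ x) = 0 := h0
  obtain ⟨m, hm⟩ := tors_ker ε η tε tη h1
  refine ⟨m, fun t ht => ?_⟩
  apply hP.injective
  rw [hP.map_smul, map_zero]
  exact hm _ (psi_pow_mem hψ m t ht)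

theorem tors_zero (hd : ∀ p, GrLC.IsGrHom (C p).gr (C (p + 1)).gr (d p))
    (he : ∀ p, GrLC.IsGrHom (D p).gr (D (p + 1)).gr (e p))
    (hdd : ∀ p x, d (p + 1) (d p x) = 0) (hee : ∀ p x, e (p + 1) (e p x) = 0)
    (hψ : ∀ t ∈ aT, ψ t ∈ (ps aR aS : Submodule k (R ⊗[k] S)))
    (tC : ∀ u, d 0 u = 0 → ∃ m : ℕ, ∀ r ∈ aR ^ m, r • u ∈ LinearMap.range ε)
    (tD : ∀ u, e 0 u = 0 → ∃ m : ℕ, ∀ r ∈ aS ^ m, r • u ∈ LinearMap.range η)
    (w : KS hT C D 0) (hw : dK hT d e hd he 0 w = 0) :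
    ∃ m : ℕ, ∀ t ∈ aT ^ m, t • w ∈ LinearMap.range (aug hT hP ε η hε hη) := by
  have hw0 : DT d e w.1 = 0 := congrArg Subtype.val hw
  obtain ⟨w', ζ, h⟩ := exists_kun hdd hee hw0
  have h00 : w.1 0 0 = toTT (TensorProduct.map (LinearMap.ker (dk d 0)).subtype
      (LinearMap.ker (dk e 0)).subtype (ζ 0 0)) := by
    rw [h 0 0]
    have : DT d e w' 0 0 = 0 := by
      apply toTT.symm.injective
      rw [DT_apply, dtot_zero_zero]; rfl
    rw [this, add_zero]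
  obtain ⟨m, hm⟩ := tors_range (aR := aR) (aS := aS) ε η (LinearMap.ker (dk d 0)) (LinearMap.ker (dk e 0))
    (fun u hu => tC u hu) (fun u hu => tD u hu) (ζ 0 0)
  refine ⟨m, fun t ht => ?_⟩
  obtain ⟨y, hy⟩ := hm _ (psi_pow_mem hψ m t ht)
  have hmem := Submodule.smul_mem (KS hT C D 0) t w.2
  have hdg := (mem_segSub _ _ hT).1 ((mem_KS hT C D).1 hmem 0 0).2
  have e1 : toTT.symm ((t • w.1) 0 0) = TensorProduct.map (ε.restrictScalars k) (η.restrictScalars k) y := by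
    show toTT.symm (t • w.1 0 0) = _
    rw [smul_def, LinearEquiv.symm_apply_apply, h00, LinearEquiv.symm_apply_apply, hy]
  have e2 : toTT.symm ((t • w.1) 0 0) =
      TensorProduct.map (ε.restrictScalars k) (η.restrictScalars k) (dg ℳ 𝒩 y) := by
    rw [← hdg, e1]
    exact dg_map ℳ 𝒩 (kg (C 0)) (kg (D 0)) (f := ε.restrictScalars k) (g := η.restrictScalars k) hε hη y
  obtain ⟨x, hx⟩ := dg_mem_range hP y
  refine ⟨x, Subtype.ext ?_⟩
  funext p q
  by_cases hpq : p + q = 0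
  · obtain ⟨rfl, rfl⟩ : p = 0 ∧ q = 0 := by omega
    apply toTT.symm.injective
    refine Eq.trans ?_ e2.symm
    show TensorProduct.map (ε.restrictScalars k) (η.restrictScalars k) (φ x) = _
    rw [hx]
  · rw [((mem_KS hT C D).1 (aug hT hP ε η hε hη x).2 p q).1 hpq]
    exact (((mem_KS hT C D).1 hmem p q).1 hpq).symm

end Aug

end K962.TotAug
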