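import Groth.Agent.GrSegre.K962.Van
import Groth.Agent.GrSegre.K962.TotAug
import Groth.Agent.GrSegre.K962.Elem

/-!
# The terms of `K` have no local cohomology
-/

set_option autoImplicit false
set_option linter.unusedSectionVars false
set_option linter.style.haveILetI false
set_option warn.classDefReducibility false
universe u
open scoped TensorProduct DirectSum
open K759.Gr K759.GrObj K962.Basic K962.Pieces K962.KM K962.Seg K962.Tot K962.TotK K962.TotTors K962.Van
open Groth.Agent.Ega3B.KunnethAlg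

namespace K962.VanK

variable {k : Type u} [Field k] {R S T : Type u} [CommRing R] [Algebra k R] [CommRing S] [Algebra k S]
  [CommRing T] [Algebra k T]
  {𝒜 : ℤ → Submodule k R} [GradedAlgebra 𝒜] {ℬ : ℤ → Submodule k S} [GradedAlgebra ℬ]
  {𝒯 : ℤ → Submodule k T} [GradedAlgebra 𝒯] {ψ : T →ₐ[k] R ⊗[k] S} (hT : GrSeg.IsSegreRing 𝒜 ℬ 𝒯 ψ)

section SegMap

variable {X X' : KMod.{u} 𝒜} {Y Y' : KMod.{u} ℬ} {f : X.carrier →ₗ[R] X'.carrier}
  {g : Y.carrier →ₗ[S] Y'.carrier}
  (hf : GrLC.IsGrHom X.gr X'.gr f) (hg : GrLC.IsGrHom Y.gr Y'.gr g)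

include hf hg in
theorem mapTT_mem {w : TT ψ X.carrier Y.carrier} (hw : w ∈ segSub X Y hT) : mapTT f g w ∈ segSub X' Y' hT := by
  rw [mem_segSub] at hw ⊢
  show dg (kg X') (kg Y') (TensorProduct.map (f.restrictScalars k) (g.restrictScalars k) (toTT.symm w)) = _
  rw [dg_map (kg X) (kg Y) (kg X') (kg Y') (f := f.restrictScalars k) (g := g.restrictScalars k) hf hg, hw]; rfl

/-- functoriality of the Segre product -/
noncomputable def segMap : (seg X Y hT).carrier →ₗ[T] (seg X' Y' hT).carrier :=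
  (mapTT f g).restrict (p := segSub X Y hT) (q := segSub X' Y' hT) (fun _ hw => mapTT_mem hT hf hg hw)

theorem segMap_grHom : GrLC.IsGrHom (seg X Y hT).gr (seg X' Y' hT).gr (segMap hT hf hg) := fun i _ hw =>
  map_mem_segrePiece (kg X) (kg Y) (kg X') (kg Y') (f := f.restrictScalars k) (g := g.restrictScalars k)
    (hf i) (hg i) hw

theorem segMap_val (w : (seg X Y hT).carrier) : toTT.symm (show segSub X' Y' hT from segMap hT hf hg w).1 =
    TensorProduct.map (f.restrictScalars k) (g.restrictScalars k) (toTT.symm (show segSub X Y hT from w).1) := rfl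

end SegMap

theorem van_seg_of_sum (a : HomogeneousIdeal 𝒯) {κ κ' : Type} [Fintype κ] [Fintype κ']
    (X : KMod.{u} 𝒜) (X' : κ → KMod.{u} 𝒜) (Y : KMod.{u} ℬ) (Y' : κ' → KMod.{u} ℬ)
    (inc : ∀ i, (X' i).carrier →ₗ[R] X.carrier) (prj : ∀ i, X.carrier →ₗ[R] (X' i).carrier)
    (hinc : ∀ i, GrLC.IsGrHom (X' i).gr X.gr (inc i)) (hprj : ∀ i, GrLC.IsGrHom X.gr (X' i).gr (prj i))
    (hsum : ∀ x, ∑ i, inc i (prj i x) = x)
    (inc' : ∀ i, (Y' i).carrier →ₗ[S] Y.carrier) (prj' : ∀ i, Y.carrier →ₗ[S] (Y' i).carrier)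
    (hinc' : ∀ i, GrLC.IsGrHom (Y' i).gr Y.gr (inc' i)) (hprj' : ∀ i, GrLC.IsGrHom Y.gr (Y' i).gr (prj' i))
    (hsum' : ∀ x, ∑ i, inc' i (prj' i x) = x)
    (h : ∀ i j, Van a (seg (X' i) (Y' j) hT).toG) : Van a (seg X Y hT).toG := by
  refine van_of_sum (κ := κ × κ') a (seg X Y hT).toG (fun ij => (seg (X' ij.1) (Y' ij.2) hT).toG)
    (fun ij => segMap hT (hinc ij.1) (hinc' ij.2)) (fun ij => segMap hT (hprj ij.1) (hprj' ij.2))
    (fun ij => segMap_grHom hT _ _) (fun ij => segMap_grHom hT _ _) ?_ (fun ij => h ij.1 ij.2)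
  intro w
  have key : ∀ z : X.carrier ⊗[k] Y.carrier, ∑ ij : κ × κ',
      TensorProduct.map ((inc ij.1).restrictScalars k) ((inc' ij.2).restrictScalars k)
        (TensorProduct.map ((prj ij.1).restrictScalars k) ((prj' ij.2).restrictScalars k) z) = z := by
    intro z
    induction z using TensorProduct.induction_on with
    | zero => simp
    | add x y hx hy => simp only [map_add]; rw [Finset.sum_add_distrib, hx, hy]
    | tmul x y =>
      rw [Fintype.sum_prod_type]
      simp only [TensorProduct.map_tmul]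
      show ∑ i, ∑ j, inc i (prj i x) ⊗ₜ[k] inc' j (prj' j y) = _
      simp only [← TensorProduct.tmul_sum]
      rw [← TensorProduct.sum_tmul, hsum, hsum']
  apply Subtype.ext
  apply toTT.symm.injective
  refine Eq.trans ?_ (key (toTT.symm (show segSub X Y hT from w).1))
  show toTT.symm ((∑ ij : κ × κ', (show segSub X Y hT from segMap hT (hinc ij.1) (hinc' ij.2)
    (segMap hT (hprj ij.1) (hprj' ij.2) w)) : segSub X Y hT) : TT ψ X.carrier Y.carrier) = _
  rw [AddSubmonoidClass.coe_finsetSum, map_sum]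
  rfl

theorem van_seg_of_bijective (a : HomogeneousIdeal 𝒯) (X : KMod.{u} 𝒜) (Y : KMod.{u} ℬ) {D : ℤ} {x : R} {y : S}
    (hx : x ∈ 𝒜 D) (hy : y ∈ ℬ D) (ha : ∀ t ∈ 𝒯 D, t ∈ a.toIdeal)
    (hxX : Function.Bijective (fun m : X.carrier => x • m)) (hyY : Function.Bijective (fun m : Y.carrier => y • m)) :
    Van a (seg X Y hT).toG := by
  obtain ⟨t, ht, hte⟩ := exists_psi_eq hT (mem_segrePiece_tmul 𝒜 ℬ hx hy)
  exact van_of_bijective a ht (ha t ht)
    (K962.Elem.smul_bijective (isSegreMod_seg X Y hT) hx hy hxX hyY hte)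

section KK

variable (C : ℕ → KMod.{u} 𝒜) (D : ℕ → KMod.{u} ℬ)

theorem van_kobj (a : HomogeneousIdeal 𝒯) (n : ℕ)
    (h : ∀ p q, p + q = n → Van a (seg (C p) (D q) hT).toG) : Van a (kobj hT C D n) := by
  let inc : ∀ p : Fin (n + 1), (seg (C p) (D (n - p)) hT).carrier →ₗ[T] KS hT C D n := fun p =>
    (sgl ψ C D p (n - p)).restrict (p := segSub (C p) (D (n - p)) hT) (q := KS hT C D n) (fun w hw => by
      intro a b
      by_cases hab : a = p ∧ b = n - p
      · obtain ⟨rfl, rfl⟩ := hab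
        rw [sgl_same]
        exact ⟨fun h' => absurd (by omega) h', hw⟩
      · rw [sgl_ne (by omega)]
        exact ⟨fun _ => rfl, zero_mem _⟩)
  let prj : ∀ p : Fin (n + 1), KS hT C D n →ₗ[T] (seg (C p) (D (n - p)) hT).carrier := fun p =>
    LinearMap.restrict (p := KS hT C D n) (q := segSub (C p) (D (n - p)) hT)
      ((LinearMap.proj (R := T) (φ := fun q => TT ψ (C p).carrier (D q).carrier) (n - p)) ∘ₗ
        (LinearMap.proj (R := T) (φ := fun p => ∀ q, TT ψ (C p).carrier (D q).carrier) (p : ℕ)))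
      (fun w hw => (hw p (n - p)).2)
  refine van_of_sum (κ := Fin (n + 1)) a (kobj hT C D n) (fun p => (seg (C p) (D (n - p)) hT).toG) inc prj
    ?_ ?_ ?_ (fun p => h p (n - p) (by omega))
  · intro p i w hw
    rw [mem_ksGr]
    intro a b
    show toTT.symm (sgl ψ C D p (n - p) (show segSub (C p) (D (n - p)) hT from w).1 a b) ∈ _
    by_cases hab : a = p ∧ b = n - p
    · obtain ⟨rfl, rfl⟩ := hab
      rw [sgl_same]
      exact hw
    · rw [sgl_ne (by omega), map_zero]
      exact zero_mem _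
  · intro p i w hw
    exact (mem_ksGr hT C D).1 hw p (n - p)
  · intro w
    apply Subtype.ext
    have hw := ((mem_KS' hT C D).1 w.2).1
    rw [AddSubmonoidClass.coe_finsetSum]
    refine Eq.trans ?_ (sum_sgl hw).symm
    rw [Finset.sum_range]
    rfl

end KK

end K962.VanK
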