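import Groth.Agent.GrSegre.K962.Kap
import Groth.Agent.GrSegre.K962.VanK
import Groth.Agent.GrSegre.K962.One
import Groth.Agent.GrSegre.K962.Par

/-!
# The Künneth formula for local cohomology of Segre products
-/

set_option autoImplicit false
set_option linter.unusedSectionVars false
set_option linter.style.haveILetI false
set_option warn.classDefReducibility false
universe u
open scoped TensorProduct DirectSum
open K759.Gr K759.GrObj K962.Basic K962.Pieces K962.KM K962.Seg K962.Tot K962.TotK K962.TotTors K962.TotAug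
  K962.Coh K962.Kap K962.Van K962.VanK K962.One
open Groth.Agent.Ega3B.KunnethAlg

namespace K962.Main

section Gen

variable {k : Type u} [Field k] {R S T : Type u} [CommRing R] [Algebra k R] [CommRing S] [Algebra k S]
  [CommRing T] [Algebra k T]
  {ι : Type} [AddCommGroup ι] [DecidableEq ι]
  {𝒜 : ι → Submodule k R} [GradedAlgebra 𝒜] {ℬ : ι → Submodule k S} [GradedAlgebra ℬ]
  {𝒯 : ι → Submodule k T} [GradedAlgebra 𝒯] {ψ : T →ₐ[k] R ⊗[k] S} (hT : GrSeg.IsSegreRing 𝒜 ℬ 𝒯 ψ)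
  {C : ℕ → KMod.{u} 𝒜} {d : ∀ p, (C p).carrier →ₗ[R] (C (p + 1)).carrier}
  {D : ℕ → KMod.{u} ℬ} {e : ∀ p, (D p).carrier →ₗ[S] (D (p + 1)).carrier}
  (hd : ∀ p, GrLC.IsGrHom (C p).gr (C (p + 1)).gr (d p))
  (he : ∀ p, GrLC.IsGrHom (D p).gr (D (p + 1)).gr (e p))

theorem mem_range_dK {n : ℕ} (w : KS hT C D (n + 1)) (hb : w.1 ∈ LinearMap.range (DT (ψ := ψ) d e)) :
    w ∈ LinearMap.range (dK hT d e hd he n) := by
  obtain ⟨y, hy⟩ := hb
  have hmem : dgF hT (tr n y) ∈ KS hT C D n := by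
    rw [mem_KS']
    constructor
    · funext p q
      by_cases hpq : p + q = n
      · rw [tr_apply_eq hpq]
      · rw [tr_apply_ne hpq]
        show 0 = dgT (C p) (D q) hT (tr n y p q)
        rw [tr_apply_ne hpq, map_zero]
    · funext p q
      apply toTT.symm.injective
      rw [dgF_apply, dgF_apply, dg_dg]
  refine ⟨⟨_, hmem⟩, Subtype.ext ?_⟩
  show DT d e (dgF hT (tr n y)) = w.1
  rw [DT_dgF hT d e hd he, DT_tr, hy]
  have h1 := (mem_KS' hT C D).1 w.2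
  rw [h1.1, h1.2]

theorem eq_zero_of_range (w : KS hT C D 0) (hb : w.1 ∈ LinearMap.range (DT (ψ := ψ) d e)) : w = 0 := by
  obtain ⟨y, hy⟩ := hb
  apply Subtype.ext
  rw [← ((mem_KS' hT C D).1 w.2).1, ← hy, tr_DT_zero]; rfl

/-- cocycles of `K` as cocycles of the full complex -/
noncomputable def toKer (n : ℕ) : LinearMap.ker (dK hT d e hd he n) →ₗ[T] LinearMap.ker (DT (ψ := ψ) d e) where
  toFun w := ⟨w.1.1, congrArg Subtype.val w.2⟩
  map_add' _ _ := rfl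
  map_smul' _ _ := rfl

variable (hdd : ∀ p x, d (p + 1) (d p x) = 0) (hee : ∀ p x, e (p + 1) (e p x) = 0)

/-- the Künneth map on cocycles of `K` -/
noncomputable def kapK (n : ℕ) : LinearMap.ker (dK hT d e hd he n) →ₗ[T] HH ψ hd he :=
  kap ψ hd he hdd hee ∘ₗ toKer hT hd he n

theorem kapK_ne {n : ℕ} (w : LinearMap.ker (dK hT d e hd he n)) {p q : ℕ} (hpq : p + q ≠ n) :
    kapK hT hd he hdd hee n w p q = 0 :=
  kap_ne hd he hdd hee (n := n) ((mem_KS' hT C D).1 w.1.2).1 hpq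

theorem kapK_mem {n : ℕ} (w : LinearMap.ker (dK hT d e hd he n)) {i : ι} (hw : w.1 ∈ ksGr hT C D n i) (p q : ℕ) :
    toTT.symm (kapK hT hd he hdd hee n w p q) ∈ GrSeg.segrePiece k (kg (Ho hd p)) (kg (Ho he q)) i :=
  kap_mem hd he hdd hee (fun p q => (mem_ksGr hT C D).1 hw p q) p q

theorem kapK_eq_zero_iff {n : ℕ} (w : LinearMap.ker (dK hT d e hd he (n + 1))) :
    kapK hT hd he hdd hee (n + 1) w = 0 ↔ w.1 ∈ LinearMap.range (dK hT d e hd he n) := by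
  constructor
  · intro h
    exact mem_range_dK hT hd he w.1 (mem_range_of_kap hd he hdd hee (n := n + 1) ((mem_KS' hT C D).1 w.1.2).1 h)
  · rintro ⟨y, hy⟩
    exact kap_range hd he hdd hee ⟨y.1, congrArg Subtype.val hy⟩

theorem kapK_zero_eq_zero_iff (w : LinearMap.ker (dK hT d e hd he 0)) :
    kapK hT hd he hdd hee 0 w = 0 ↔ w = 0 := by
  constructor
  · intro h
    exact Subtype.ext (eq_zero_of_range hT w.1
      (mem_range_of_kap hd he hdd hee (n := 0) ((mem_KS' hT C D).1 w.1.2).1 h))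
  · rintro rfl; exact map_zero _

theorem exists_kapK_eq {n : ℕ} {i : ι} {ω : HH ψ hd he} (h1 : ∀ p q, p + q ≠ n → ω p q = 0)
    (h2 : ∀ p q, toTT.symm (ω p q) ∈ GrSeg.segrePiece k (kg (Ho hd p)) (kg (Ho he q)) i) :
    ∃ w : LinearMap.ker (dK hT d e hd he n), w.1 ∈ ksGr hT C D n i ∧ kapK hT hd he hdd hee n w = ω := by
  obtain ⟨w, hw1, hw2, hw3⟩ := exists_kap_eq hd he hdd hee h1 h2
  have hmem : w.1 ∈ KS hT C D n := by
    rw [mem_KS']
    refine ⟨hw1, ?_⟩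
    funext p q
    apply toTT.symm.injective
    rw [dgF_apply]
    exact dg_of_mem _ _ (hw2 p q)
  exact ⟨⟨⟨w.1, hmem⟩, Subtype.ext w.2⟩, (mem_ksGr hT C D).2 hw2, hw3⟩

end Gen

section Factor

variable {T A B C : Type u} [CommRing T] [AddCommGroup A] [Module T A] [AddCommGroup B] [Module T B]
  [AddCommGroup C] [Module T C]

theorem exists_factor (φ : A →ₗ[T] B) (hs : Function.Surjective φ) (g : A →ₗ[T] C)
    (h : LinearMap.ker φ ≤ LinearMap.ker g) : ∃ κ : B →ₗ[T] C, ∀ z, κ (φ z) = g z := by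
  refine ⟨(LinearMap.ker φ).liftQ g h ∘ₗ (φ.quotKerEquivOfSurjective hs).symm.toLinearMap, fun z => ?_⟩
  rw [LinearMap.comp_apply]
  have : (φ.quotKerEquivOfSurjective hs).symm.toLinearMap (φ z) = (LinearMap.ker φ).mkQ z := by
    rw [LinearEquiv.coe_coe, LinearEquiv.symm_apply_eq]; rfl
  rw [this]
  rfl

end Factor

section Z

variable {k : Type u} [Field k] {R S T : Type u} [CommRing R] [Algebra k R] [CommRing S] [Algebra k S]
  [CommRing T] [Algebra k T]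
  {𝒜 : ℤ → Submodule k R} [GradedAlgebra 𝒜] {ℬ : ℤ → Submodule k S} [GradedAlgebra ℬ]
  {𝒯 : ℤ → Submodule k T} [GradedAlgebra 𝒯] {ψ : T →ₐ[k] R ⊗[k] S} (hT : GrSeg.IsSegreRing 𝒜 ℬ 𝒯 ψ)
  {κ₁ κ₂ : Type} [Fintype κ₁] [Fintype κ₂] {D : ℤ} {x : κ₁ → R} (hx : ∀ i, x i ∈ 𝒜 D)
  {y : κ₂ → S} (hy : ∀ i, y i ∈ ℬ D) (X : KMod.{u} 𝒜) (Y : KMod.{u} ℬ) (W : KMod.{u} 𝒯)
  {φ : W.carrier →ₗ[k] X.carrier ⊗[k] Y.carrier} (hP : GrSeg.IsSegreMod ψ (kg X) (kg Y) W.gr φ)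

/-- the terms have no local cohomology -/
theorem van_K (a : HomogeneousIdeal 𝒯) (ha : ∀ t ∈ 𝒯 D, t ∈ a.toIdeal) (n : ℕ) :
    Van a (kobj hT (Res.C hx X) (Res.C hy Y) n) := by
  classical
  refine van_kobj hT (Res.C hx X) (Res.C hy Y) a n fun p q _ => ?_
  refine van_seg_of_sum hT a (Res.C hx X p) (Res.Y hx X p) (Res.C hy Y q) (Res.Y hy Y q)
    (Res.cincl hx X p) (Res.cproj hx X p) (Res.cincl_grHom hx X p) (Res.cproj_grHom hx X p)
    (Res.sum_cincl_cproj hx X p) (Res.cincl hy Y q) (Res.cproj hy Y q) (Res.cincl_grHom hy Y q)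
    (Res.cproj_grHom hy Y q) (Res.sum_cincl_cproj hy Y q) fun i j => ?_
  exact van_seg_of_bijective hT a _ _ (hx i) (hy j) ha (Res.Y_smul_bijective hx X p i)
    (Res.Y_smul_bijective hy Y q j)

/-- the augmented complex over `T` -/
noncomputable def Kt : ℕ → GrLC.GMod.{u} 𝒯
  | 0 => W.toG
  | n + 1 => kobj hT (Res.C hx X) (Res.C hy Y) n

/-- its differentials -/
noncomputable def dt : ∀ n, (Kt hT hx hy X Y W n).carrier →ₗ[T] (Kt hT hx hy X Y W (n + 1)).carrier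
  | 0 => (aug (P := W.carrier) hT hP (Res.ε hx X) (Res.ε hy Y) (Res.ε_grHom hx X) (Res.ε_grHom hy Y) :
      W.carrier →ₗ[T] KS hT (Res.C hx X) (Res.C hy Y) 0)
  | n + 1 => dK hT (Res.d hx X) (Res.d hy Y) (Res.d_grHom hx X) (Res.d_grHom hy Y) n

theorem dt_grHom : ∀ n, GrLC.IsGrHom (Kt hT hx hy X Y W n).gr (Kt hT hx hy X Y W (n + 1)).gr
    (dt hT hx hy X Y W hP n)
  | 0 => aug_grHom hT hP (Res.ε hx X) (Res.ε hy Y) (Res.ε_grHom hx X) (Res.ε_grHom hy Y)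
  | n + 1 => dK_grHom hT (Res.d hx X) (Res.d hy Y) (Res.d_grHom hx X) (Res.d_grHom hy Y) n

theorem dt_dt : ∀ n z, dt hT hx hy X Y W hP (n + 1) (dt hT hx hy X Y W hP n z) = 0
  | 0, z => dK_aug hT (Res.d hx X) (Res.d hy Y) hP (Res.ε hx X) (Res.ε hy Y) (Res.ε_grHom hx X)
      (Res.ε_grHom hy Y) (Res.d_grHom hx X) (Res.d_grHom hy Y) (Res.d_ε hx X) (Res.d_ε hy Y) z
  | n + 1, z => dK_dK hT (Res.d hx X) (Res.d hy Y) (Res.d_grHom hx X) (Res.d_grHom hy Y) (Res.d_d hx X)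
      (Res.d_d hy Y) n z

variable [IsNoetherianRing R] [IsNoetherianRing S] [IsNoetherianRing T]
  {aR : HomogeneousIdeal 𝒜} {aS : HomogeneousIdeal ℬ} {aT : HomogeneousIdeal 𝒯}
  (haxR : aR.toIdeal ≤ (Ideal.span (Set.range x)).radical)
  (haxS : aS.toIdeal ≤ (Ideal.span (Set.range y)).radical)
  (hψ : ∀ t ∈ aT.toIdeal, ψ t ∈ (ps aR.toIdeal aS.toIdeal : Submodule k (R ⊗[k] S)))
  (haT : ∀ t ∈ 𝒯 D, t ∈ aT.toIdeal)
include haxR haxS hψ haT hP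

theorem compT (E : GrLC.StarInjRes 𝒯 W.gr) :
    (∃ θ : LinearMap.ker (aug (P := W.carrier) hT hP (Res.ε hx X) (Res.ε hy Y) (Res.ε_grHom hx X)
        (Res.ε_grHom hy Y)) ≃ₗ[T] E.H aT 0, ∀ z g, θ z ∈ E.Hcomp aT 0 g ↔ (z : W.carrier) ∈ W.gr g) ∧
    (∃ θ : LinearMap.ker (dK hT (Res.d hx X) (Res.d hy Y) (Res.d_grHom hx X) (Res.d_grHom hy Y) 0) →ₗ[T] E.H aT 1,
      Function.Surjective θ ∧
      (∀ z, θ z = 0 ↔ z.1 ∈ LinearMap.range (aug (P := W.carrier) hT hP (Res.ε hx X) (Res.ε hy Y)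
        (Res.ε_grHom hx X) (Res.ε_grHom hy Y))) ∧
      (∀ z g, z.1 ∈ ksGr hT (Res.C hx X) (Res.C hy Y) 0 g → θ z ∈ E.Hcomp aT 1 g) ∧
      (∀ g, ∀ w ∈ E.Hcomp aT 1 g, ∃ z, z.1 ∈ ksGr hT (Res.C hx X) (Res.C hy Y) 0 g ∧ θ z = w)) ∧
    ∀ n, ∃ θ : LinearMap.ker (dK hT (Res.d hx X) (Res.d hy Y) (Res.d_grHom hx X) (Res.d_grHom hy Y) (n + 1)) →ₗ[T]
        E.H aT (n + 2), Function.Surjective θ ∧
      (∀ z, θ z = 0 ↔ z.1 ∈ LinearMap.range
        (dK hT (Res.d hx X) (Res.d hy Y) (Res.d_grHom hx X) (Res.d_grHom hy Y) n)) ∧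
      (∀ z g, z.1 ∈ ksGr hT (Res.C hx X) (Res.C hy Y) (n + 1) g → θ z ∈ E.Hcomp aT (n + 2) g) ∧
      (∀ g, ∀ w ∈ E.Hcomp aT (n + 2) g, ∃ z, z.1 ∈ ksGr hT (Res.C hx X) (Res.C hy Y) (n + 1) g ∧ θ z = w) := by
  have hfR : aR.toIdeal.FG := IsNoetherian.noetherian _
  have hfS : aS.toIdeal.FG := IsNoetherian.noetherian _
  have key := K963.Iface.comparison aT (Kt hT hx hy X Y W) (dt hT hx hy X Y W hP) (dt_grHom hT hx hy X Y W hP)
    (dt_dt hT hx hy X Y W hP)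
    (fun z hz => K962.TotAug.tors_aug hT hP (Res.ε hx X) (Res.ε hy Y) (Res.ε_grHom hx X) (Res.ε_grHom hy Y) hψ
      (fun u hu => Res.tors_ε hx hfR haxR X hu) (fun u hu => Res.tors_ε hy hfS haxS Y hu) hz)
    (fun n => match n with
      | 0 => fun w hw => K962.TotAug.tors_zero hT hP (Res.ε hx X) (Res.ε hy Y) (Res.ε_grHom hx X)
          (Res.ε_grHom hy Y) (Res.d_grHom hx X) (Res.d_grHom hy Y) (Res.d_d hx X) (Res.d_d hy Y) hψ
          (fun u hu => Res.tors_zero hx hfR haxR X hu) (fun u hu => Res.tors_zero hy hfS haxS Y hu) w hw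
      | n + 1 => fun w hw => K962.TotTors.tors_succ hT (Res.d_d hx X) (Res.d_d hy Y) (Res.d_grHom hx X)
          (Res.d_grHom hy Y) hψ (fun n u hu => Res.tors_succ hx hfR haxR X n hu)
          (fun n u hu => Res.tors_succ hy hfS haxS Y n hu) n w hw)
    (fun n => van_K hT hx hy X Y aT haT n) E
  refine ⟨key.1, ?_, fun n => ?_⟩
  · obtain ⟨θ, h1, h2, h3, h4⟩ := key.2 0
    exact ⟨θ, h1, fun z => SetLike.ext_iff.1 h2 z, h3, h4⟩
  · obtain ⟨θ, h1, h2, h3, h4⟩ := key.2 (n + 1)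
    exact ⟨θ, h1, fun z => SetLike.ext_iff.1 h2 z, h3, h4⟩

include hT in
/-- **Künneth formula**: `H^{n+2}(M # N) ≅ ⊕_{p+q=n+1} H^p(C) # H^q(D)`. -/
theorem kunneth (E : GrLC.StarInjRes 𝒯 W.gr) (n : ℕ) :
    ∃ κ : E.H aT (n + 2) →ₗ[T] HH ψ (Res.d_grHom hx X) (Res.d_grHom hy Y), Function.Injective κ ∧
      (∀ z p q, p + q ≠ n + 1 → κ z p q = 0) ∧
      (∀ z i, z ∈ E.Hcomp aT (n + 2) i → ∀ p q, toTT.symm (κ z p q) ∈
        GrSeg.segrePiece k (kg (Ho (Res.d_grHom hx X) p)) (kg (Ho (Res.d_grHom hy Y) q)) i) ∧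
      (∀ i (ω : HH ψ (Res.d_grHom hx X) (Res.d_grHom hy Y)), (∀ p q, p + q ≠ n + 1 → ω p q = 0) →
        (∀ p q, toTT.symm (ω p q) ∈
          GrSeg.segrePiece k (kg (Ho (Res.d_grHom hx X) p)) (kg (Ho (Res.d_grHom hy Y) q)) i) →
        ∃ z ∈ E.Hcomp aT (n + 2) i, κ z = ω) := by
  obtain ⟨θ, hs, hk, hg, hl⟩ := (compT hT hx hy X Y W hP haxR haxS hψ haT E).2.2 n
  have hkap := fun w => kapK_eq_zero_iff hT (Res.d_grHom hx X) (Res.d_grHom hy Y) (Res.d_d hx X) (Res.d_d hy Y)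
    (n := n) w
  have hle : LinearMap.ker θ ≤ LinearMap.ker
      (kapK hT (Res.d_grHom hx X) (Res.d_grHom hy Y) (Res.d_d hx X) (Res.d_d hy Y) (n + 1)) := fun z hz =>
    LinearMap.mem_ker.2 ((hkap z).2 ((hk z).1 (LinearMap.mem_ker.1 hz)))
  obtain ⟨κ, hκ⟩ := exists_factor (T := T)
    (A := LinearMap.ker (dK hT (Res.d hx X) (Res.d hy Y) (Res.d_grHom hx X) (Res.d_grHom hy Y) (n + 1)))
    (B := E.H aT (n + 2)) (C := HH ψ (Res.d_grHom hx X) (Res.d_grHom hy Y))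
    θ hs (kapK hT (Res.d_grHom hx X) (Res.d_grHom hy Y) (Res.d_d hx X) (Res.d_d hy Y) (n + 1)) hle
  refine ⟨κ, ?_, ?_, ?_, ?_⟩
  · rw [injective_iff_map_eq_zero]
    intro z hz
    obtain ⟨w, rfl⟩ := hs z
    rw [hκ] at hz
    exact (hk w).2 ((hkap w).1 hz)
  · intro z p q hpq
    obtain ⟨w, rfl⟩ := hs z
    rw [hκ]
    exact kapK_ne hT _ _ _ _ w hpq
  · intro z i hz p q
    obtain ⟨w, hw, rfl⟩ := hl i z hz
    rw [hκ]
    exact kapK_mem hT _ _ _ _ w hw p q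
  · intro i ω h1 h2
    obtain ⟨w, hw, rfl⟩ := exists_kapK_eq hT (Res.d_grHom hx X) (Res.d_grHom hy Y) (Res.d_d hx X)
      (Res.d_d hy Y) (n := n + 1) h1 h2
    exact ⟨θ w, hg w i hw, hκ w⟩

end Z

end K962.Main
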