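import Groth.Agent.GrSegre.K961.CM
import Groth.Agent.GrDual.K993.Basic
import Groth.Agent.Ega4B.DepthFinite
import Groth.Agent.CalgB.CMPoly
import Mathlib.RingTheory.MvPolynomial.WeightedHomogeneous
import Mathlib.RingTheory.Nakayama

/-!
# The Segre product of `k[X](a)` and `k[Y_1, …, Y_s](b)`
-/

set_option autoImplicit false
set_option linter.unusedSectionVars false
set_option linter.style.haveILetI false
universe u
open scoped TensorProduct DirectSum
open DirectSum MvPolynomial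

attribute [local instance] MvPolynomial.weightedGradedAlgebra

namespace K962.PolySeg

/-- the standard grading of `k[X]` -/
abbrev gX (k : Type u) [Field k] : ℤ → Submodule k (MvPolynomial (Fin 1) k) :=
  weightedHomogeneousSubmodule k (fun _ : Fin 1 => (1 : ℤ))

/-- the standard grading of `k[Y_1, …, Y_s]` -/
abbrev gS (k : Type u) [Field k] (s : ℕ) : ℤ → Submodule k (MvPolynomial (Fin s) k) :=
  weightedHomogeneousSubmodule k (fun _ : Fin s => (1 : ℤ))

section Ev

variable {k : Type u} [Field k] {s : ℕ}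


/-- homogeneous polynomials in one variable -/
theorem exists_smul_pow {m : ℤ} {f : MvPolynomial (Fin 1) k} (hf : f ∈ (gX k) m) :
    ∃ c : k, f = c • (X 0) ^ m.toNat ∧ (m < 0 → c = 0) := by
  classical
  rw [mem_weightedHomogeneousSubmodule] at hf
  have hw : ∀ d : Fin 1 →₀ ℕ, Finsupp.weight (fun _ : Fin 1 => (1 : ℤ)) d = (d 0 : ℤ) := by
    intro d
    rw [Finsupp.weight_apply, Finsupp.sum_fintype _ _ (by simp)]
    simp
  refine ⟨coeff (Finsupp.single 0 m.toNat) f, ?_, ?_⟩
  · ext d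
    rw [coeff_smul, coeff_X_pow, smul_eq_mul]
    by_cases hd : Finsupp.single 0 m.toNat = d
    · rw [if_pos hd, mul_one, hd]
    · rw [if_neg hd, mul_zero]
      by_contra hne
      apply hd
      have h1 := hf hne
      rw [hw] at h1
      refine Finsupp.ext fun i => ?_
      rw [Subsingleton.elim i 0, Finsupp.single_eq_same]
      omega
  · intro hm
    by_contra hne
    have h1 := hf hne
    rw [hw, Finsupp.single_eq_same] at h1
    omega

/-- evaluation at `X = 1` -/
noncomputable def ev : MvPolynomial (Fin 1) k ⊗[k] MvPolynomial (Fin s) k →ₐ[k] MvPolynomial (Fin s) k :=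
  Algebra.TensorProduct.lift (aeval (fun _ => 1)) (AlgHom.id k _) (fun _ _ => Commute.all _ _)

theorem ev_tmul (f : MvPolynomial (Fin 1) k) (g : MvPolynomial (Fin s) k) :
    ev (f ⊗ₜ[k] g) = aeval (fun _ => (1 : MvPolynomial (Fin s) k)) f * g := by
  rw [ev, Algebra.TensorProduct.lift_tmul]; rfl

theorem ev_pow_tmul (n : ℕ) (g : MvPolynomial (Fin s) k) :
    ev (((X 0) ^ n : MvPolynomial (Fin 1) k) ⊗ₜ[k] g) = g := by
  rw [ev_tmul, map_pow, aeval_X, one_pow, one_mul]

theorem X_pow_mem (n : ℕ) : ((X 0) ^ n : MvPolynomial (Fin 1) k) ∈ (gX k) (n : ℤ) := by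
  have h := (isWeightedHomogeneous_X k (fun _ : Fin 1 => (1 : ℤ)) 0).pow n
  rw [mem_weightedHomogeneousSubmodule]
  simpa using h

theorem X_pow_mem' (i : Fin s) (n : ℕ) : ((X i) ^ n : MvPolynomial (Fin s) k) ∈ (gS k s) (n : ℤ) := by
  have h := (isWeightedHomogeneous_X k (fun _ : Fin s => (1 : ℤ)) i).pow n
  rw [mem_weightedHomogeneousSubmodule]
  simpa using h

theorem eq_zero_of_neg {m : ℤ} (hm : m < 0) {g : MvPolynomial (Fin s) k} (hg : g ∈ (gS k s) m) : g = 0 := by
  rw [mem_weightedHomogeneousSubmodule] at hg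
  ext d
  rw [coeff_zero]
  by_contra hne
  have h1 := hg hne
  rw [Finsupp.weight_apply] at h1
  have h2 : 0 ≤ d.sum fun i c => c • (1 : ℤ) := Finset.sum_nonneg fun i _ => by simp
  omega

/-- elements of the pieces of `R(a) # S(b)` -/
theorem exists_eq_tmul (a b : ℤ) {n : ℤ} {w : MvPolynomial (Fin 1) k ⊗[k] MvPolynomial (Fin s) k}
    (hw : w ∈ GrSeg.segrePiece k (fun n : ℤ => (gX k) (n + a)) (fun n : ℤ => (gS k s) (n + b)) n) :
    ∃ g ∈ (gS k s) (n + b), w = ((X 0) ^ (n + a).toNat : MvPolynomial (Fin 1) k) ⊗ₜ[k] g ∧ (n + a < 0 → g = 0) := by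
  induction hw using Submodule.span_induction with
  | mem w hw =>
    obtain ⟨f, hf, g, hg, rfl⟩ := hw
    obtain ⟨c, rfl, hc⟩ := exists_smul_pow hf
    refine ⟨c • g, Submodule.smul_mem _ c hg, ?_, fun h => by rw [hc h, zero_smul]⟩
    rw [TensorProduct.smul_tmul]
  | zero => exact ⟨0, zero_mem _, by rw [TensorProduct.tmul_zero], fun _ => rfl⟩
  | add w w' _ _ h h' =>
    obtain ⟨g, hg, rfl, hg0⟩ := h
    obtain ⟨g', hg', rfl, hg0'⟩ := h'
    exact ⟨g + g', add_mem hg hg', by rw [TensorProduct.tmul_add], fun h => by rw [hg0 h, hg0' h, add_zero]⟩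
  | smul c w _ h =>
    obtain ⟨g, hg, rfl, hg0⟩ := h
    exact ⟨c • g, Submodule.smul_mem _ c hg, by rw [TensorProduct.tmul_smul], fun h => by rw [hg0 h, smul_zero]⟩

end Ev

section Pres

variable {k : Type u} [Field k] {s : ℕ}


variable {P : Type u} [AddCommGroup P] [Module k P] {τ : Type u} [SetLike τ P] [AddSubgroupClass τ P]
  {𝒬 : ℤ → τ} [Decomposition 𝒬] {a b : ℤ}
  {φ : P →ₗ[k] MvPolynomial (Fin 1) k ⊗[k] MvPolynomial (Fin s) k} (hinj : Function.Injective φ)
  (him : ∀ n : ℤ, φ '' (𝒬 n : Set P) =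
    (GrSeg.segrePiece k (fun n : ℤ => (gX k) (n + a)) (fun n : ℤ => (gS k s) (n + b)) n : Set _))

include him in
theorem ev_phi_mem {n : ℤ} {p : P} (hp : p ∈ 𝒬 n) : ev (φ p) ∈ (gS k s) (n + b) := by
  have h1 : φ p ∈ (GrSeg.segrePiece k (fun n : ℤ => (gX k) (n + a)) (fun n : ℤ => (gS k s) (n + b)) n : Set _) := by
    rw [← him n]; exact ⟨p, hp, rfl⟩
  obtain ⟨g, hg, he, -⟩ := exists_eq_tmul a b h1
  rw [he, ev_pow_tmul]
  exact hg

include hinj him in
theorem eq_zero_of_ev {n : ℤ} {p : P} (hp : p ∈ 𝒬 n) (h : ev (φ p) = 0) : p = 0 := by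
  have h1 : φ p ∈ (GrSeg.segrePiece k (fun n : ℤ => (gX k) (n + a)) (fun n : ℤ => (gS k s) (n + b)) n : Set _) := by
    rw [← him n]; exact ⟨p, hp, rfl⟩
  obtain ⟨g, hg, he, -⟩ := exists_eq_tmul a b h1
  rw [he, ev_pow_tmul] at h
  apply hinj
  rw [he, h, TensorProduct.tmul_zero, map_zero]

include hinj him in
theorem eq_zero_of_lt {n : ℤ} {p : P} (hp : p ∈ 𝒬 n) (h : n + a < 0) : p = 0 := by
  have h1 : φ p ∈ (GrSeg.segrePiece k (fun n : ℤ => (gX k) (n + a)) (fun n : ℤ => (gS k s) (n + b)) n : Set _) := by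
    rw [← him n]; exact ⟨p, hp, rfl⟩
  obtain ⟨g, hg, he, hg0⟩ := exists_eq_tmul a b h1
  apply hinj
  rw [he, hg0 h, TensorProduct.tmul_zero, map_zero]

include him in
theorem exists_ev {n : ℤ} (h : 0 ≤ n + a) {g : MvPolynomial (Fin s) k} (hg : g ∈ (gS k s) (n + b)) :
    ∃ p ∈ 𝒬 n, ev (φ p) = g := by
  have h1 : ((X 0) ^ (n + a).toNat : MvPolynomial (Fin 1) k) ⊗ₜ[k] g ∈
      (GrSeg.segrePiece k (fun n : ℤ => (gX k) (n + a)) (fun n : ℤ => (gS k s) (n + b)) n : Set _) :=
    Submodule.subset_span ⟨_, by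
      have := X_pow_mem (k := k) (n + a).toNat
      rwa [Int.toNat_of_nonneg h] at this, g, hg, rfl⟩
  rw [← him n] at h1
  obtain ⟨p, hp, he⟩ := h1
  exact ⟨p, hp, by rw [he, ev_pow_tmul]⟩

include him in
theorem cp_ev (n : ℤ) (p : P) : K993.Basic.cp (gS k s) (n + b) (ev (φ p)) = ev (φ (K993.Basic.cp 𝒬 n p)) := by
  induction p using K993.Basic.hom_induction 𝒬 with
  | h0 => simp
  | hadd x y hx hy => simp only [map_add, hx, hy]
  | hh m x hx =>
    rw [K993.Basic.cp_of_mem 𝒬 hx, K993.Basic.cp_of_mem (gS k s) (ev_phi_mem him hx)]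
    by_cases h : n = m
    · rw [if_pos h, if_pos (by omega)]
    · rw [if_neg h, if_neg (by omega), map_zero, map_zero]

include hinj him in
theorem ev_phi_injective : Function.Injective (fun p => ev (φ p)) := by
  intro p q hpq
  rw [← sub_eq_zero]
  apply K993.Basic.eq_zero_of_cp 𝒬
  intro n
  apply eq_zero_of_ev hinj him (K993.Basic.cp_mem 𝒬 n _)
  rw [← cp_ev him, map_sub, map_sub]
  have : ev (φ p) = ev (φ q) := hpq
  rw [this, sub_self, map_zero]

include hinj him in
theorem cp_ev_eq_zero {m : ℤ} (hm : m < b - a) (p : P) : K993.Basic.cp (gS k s) m (ev (φ p)) = 0 := by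
  have h1 := cp_ev him (m - b) p
  rw [show m - b + b = m by omega] at h1
  rw [h1, eq_zero_of_lt hinj him (K993.Basic.cp_mem 𝒬 (m - b) p) (by omega), map_zero, map_zero]

include him in
theorem exists_of_cp {g : MvPolynomial (Fin s) k} (hg : ∀ m < b - a, K993.Basic.cp (gS k s) m g = 0) :
    ∃ p, ev (φ p) = g := by
  obtain ⟨S, hS, -⟩ := K993.Basic.exists_finset (gS k s) g
  have h1 : ∀ m : ℤ, ∃ p, ev (φ p) = K993.Basic.cp (gS k s) m g := by
    intro m
    by_cases hm : m < b - a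
    · exact ⟨0, by rw [hg m hm, map_zero, map_zero]⟩
    · obtain ⟨p, -, hp⟩ := exists_ev him (n := m - b) (by omega) (g := K993.Basic.cp (gS k s) m g) (by
        have := K993.Basic.cp_mem (gS k s) m g
        rwa [show m - b + b = m by omega])
      exact ⟨p, hp⟩
  choose p hp using h1
  refine ⟨∑ m ∈ S, p m, ?_⟩
  rw [map_sum, map_sum, ← hS]
  exact Finset.sum_congr rfl fun m _ => hp m

include him in
theorem ev_phi_surjective (hab : b ≤ a) : Function.Surjective (fun p => ev (φ p)) := by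
  intro g
  refine exists_of_cp him fun m hm => ?_
  exact eq_zero_of_neg (by omega) (K993.Basic.cp_mem (gS k s) m g)

end Pres

section Main

variable {k : Type u} [Field k] {s : ℕ} {T : Type u} [CommRing T] [Algebra k T] {𝒯 : ℤ → Submodule k T}
  [GradedAlgebra 𝒯]
  {ψ : T →ₐ[k] MvPolynomial (Fin 1) k ⊗[k] MvPolynomial (Fin s) k}
  (hT : GrSeg.IsSegreRing (gX k) (gS k s) 𝒯 ψ)

include hT in
theorem himT (n : ℤ) : ψ.toLinearMap '' (𝒯 n : Set T) =
    (GrSeg.segrePiece k (fun n : ℤ => gX k (n + 0)) (fun n : ℤ => gS k s (n + 0)) n : Set _) := by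
  simp only [add_zero]
  rw [← hT.2 n]
  rfl

include hT in
theorem bijective_ev_psi : Function.Bijective ((ev (s := s)).comp ψ) :=
  ⟨ev_phi_injective (φ := ψ.toLinearMap) hT.1 (himT hT), ev_phi_surjective (φ := ψ.toLinearMap) (himT hT) le_rfl⟩

/-- `T ≅ k[Y_1, …, Y_s]` -/
noncomputable def eT : T ≃ₐ[k] MvPolynomial (Fin s) k :=
  AlgEquiv.ofBijective ((ev (s := s)).comp ψ) (bijective_ev_psi hT)

theorem eT_apply (t : T) : eT hT t = ev (ψ t) := rfl

variable {P : Type u} [AddCommGroup P] [Module T P] [Module k P] [IsScalarTower k T P]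
  {𝒬 : ℤ → AddSubgroup P} [Decomposition 𝒬] {a b : ℤ}
  {φ : P →ₗ[k] MvPolynomial (Fin 1) k ⊗[k] MvPolynomial (Fin s) k}
  (hP : GrSeg.IsSegreMod ψ (fun n : ℤ => gX k (n + a)) (fun n : ℤ => gS k s (n + b)) 𝒬 φ)

theorem ev_act (c w : MvPolynomial (Fin 1) k ⊗[k] MvPolynomial (Fin s) k) :
    ev (GrSeg.act k (MvPolynomial (Fin 1) k) (MvPolynomial (Fin s) k) (MvPolynomial (Fin 1) k)
      (MvPolynomial (Fin s) k) c w) = ev c * ev w := by
  rw [← map_mul]
  congr 1
  induction c using TensorProduct.induction_on with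
  | zero => simp
  | add c c' h h' => rw [map_add, LinearMap.add_apply, h, h', add_mul]
  | tmul r s =>
    induction w using TensorProduct.induction_on with
    | zero => simp
    | add w w' h h' => rw [map_add, h, h', mul_add]
    | tmul x y => rw [GrSeg.act_tmul, Algebra.TensorProduct.tmul_mul_tmul, smul_eq_mul, smul_eq_mul]

include hP in
theorem ev_phi_smul (t : T) (p : P) : ev (φ (t • p)) = ev (ψ t) * ev (φ p) := by
  rw [hP.map_smul, ev_act]

include hT hP in
/-- part (a) -/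
theorem cm (hab : b ≤ a) (q : Ideal T) [q.IsPrime] :
    Subsingleton (LocalizedModule q.primeCompl P) ∨
      LocCoh.IsCohenMacaulayModule (Localization.AtPrime q) (LocalizedModule q.primeCompl P) := by
  letI : Algebra (MvPolynomial (Fin s) k) T := (eT hT).symm.toRingEquiv.toRingHom.toAlgebra
  have hmap : ∀ g : MvPolynomial (Fin s) k, algebraMap (MvPolynomial (Fin s) k) T g = (eT hT).symm g := fun g => rfl
  letI : Module (MvPolynomial (Fin s) k) P := Module.compHom P (algebraMap (MvPolynomial (Fin s) k) T)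
  haveI : IsScalarTower (MvPolynomial (Fin s) k) T P := ⟨fun g t p => by
    show (g • t) • p = algebraMap (MvPolynomial (Fin s) k) T g • (t • p)
    rw [Algebra.smul_def, mul_smul]⟩
  let e : P ≃ₗ[MvPolynomial (Fin s) k] MvPolynomial (Fin s) k :=
    LinearEquiv.ofBijective
      { toFun := fun p => ev (φ p)
        map_add' := fun p q => by rw [map_add, map_add]
        map_smul' := fun g p => by
          show ev (φ (algebraMap (MvPolynomial (Fin s) k) T g • p)) = g * ev (φ p)
          rw [ev_phi_smul hP, hmap, ← eT_apply hT, AlgEquiv.apply_symm_apply] }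
      ⟨ev_phi_injective hP.injective hP.image_piece, ev_phi_surjective hP.image_piece hab⟩
  haveI : Module.Finite (MvPolynomial (Fin s) k) P := Module.Finite.equiv e.symm
  haveI : Module.Flat (MvPolynomial (Fin s) k) P := Module.Flat.of_linearEquiv e
  haveI : IsNoetherianRing T := isNoetherianRing_of_ringEquiv _ (eT hT).symm.toRingEquiv
  haveI : LocCoh.IsCohenMacaulayRing k := by
    refine { isCohenMacaulayLocalRing_localization := fun p hp => ?_ }
    exact Groth.Agent.Flat2D.CMFlatArt.isCM_of_isArtinian _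
  haveI := Groth.Agent.CalgB.CMPoly.isCohenMacaulayRing_mvPolynomial k s
  exact K961.CM.cm_of_flat (A := MvPolynomial (Fin s) k) (R := T) P q

include hT hP in
theorem isSMulRegular {t : T} (ht : t ≠ 0) : IsSMulRegular P t := by
  rw [isSMulRegular_iff_right_eq_zero_of_smul]
  intro p hp
  have h1 : ev (φ (t • p)) = 0 := by rw [hp, map_zero, map_zero]
  rw [ev_phi_smul hP] at h1
  have h2 : ev (ψ t) ≠ 0 := by
    rw [← eT_apply hT]
    exact (map_ne_zero_iff _ (eT hT).injective).2 ht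
  have h3 := (mul_eq_zero.1 h1).resolve_left h2
  exact ev_phi_injective hP.injective hP.image_piece (h3.trans (by simp))

include hT hP in
theorem module_finite : Module.Finite T P := by
  letI : Algebra T (MvPolynomial (Fin s) k) := (eT hT).toRingEquiv.toRingHom.toAlgebra
  have hmap : ∀ t : T, algebraMap T (MvPolynomial (Fin s) k) t = eT hT t := fun t => rfl
  haveI : IsNoetherianRing T := isNoetherianRing_of_ringEquiv _ (eT hT).symm.toRingEquiv
  haveI : Module.Finite T (MvPolynomial (Fin s) k) :=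
    Module.Finite.of_surjective (Algebra.linearMap T (MvPolynomial (Fin s) k)) (eT hT).surjective
  let f : P →ₗ[T] MvPolynomial (Fin s) k :=
    { toFun := fun p => ev (φ p)
      map_add' := fun p q => by rw [map_add, map_add]
      map_smul' := fun t p => by
        rw [ev_phi_smul hP, RingHom.id_apply, Algebra.smul_def, hmap, eT_apply] }
  exact Module.Finite.of_injective f (ev_phi_injective hP.injective hP.image_piece)

theorem X_pow_ne_zero (i : Fin s) (n : ℕ) : ((X i) ^ n : MvPolynomial (Fin s) k) ≠ 0 :=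
  pow_ne_zero _ (X_ne_zero i)

include hT hP in
/-- part (b) -/
theorem depth_eq_one (hs : 0 < s) {mT : HomogeneousIdeal 𝒯}
    (hmT : mT.toIdeal = Ideal.span (⋃ n ∈ Set.Ioi (0 : ℤ), (𝒯 n : Set T))) (hab : a < b) :
    LocCoh.idealDepth mT.toIdeal P = (1 : ℕ∞) := by
  haveI : IsNoetherianRing T := isNoetherianRing_of_ringEquiv _ (eT hT).symm.toRingEquiv
  haveI : Module.Finite T P := module_finite hT hP
  let i₀ : Fin s := ⟨0, hs⟩
  obtain ⟨c, hc⟩ : ∃ c : ℕ, (c : ℤ) + 1 = b - a := ⟨(b - a - 1).toNat, by omega⟩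
  have hY : ∀ n : ℕ, ((X i₀) ^ n : MvPolynomial (Fin s) k) ∈ gS k s (n : ℤ) := X_pow_mem' i₀
  -- the element `θ`
  obtain ⟨θ, hθ, hθe⟩ := exists_ev (φ := ψ.toLinearMap) (a := 0) (b := 0) (himT hT) (n := 1) (by omega)
    (g := (X i₀ : MvPolynomial (Fin s) k)) (by
      have := hY 1
      rw [pow_one] at this
      simpa using this)
  have hθe' : ev (ψ θ) = (X i₀ : MvPolynomial (Fin s) k) := hθe
  have hθ0 : θ ≠ 0 := by
    rintro rfl
    rw [map_zero, map_zero] at hθe'
    exact X_ne_zero i₀ hθe'.symm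
  have hθm : θ ∈ mT.toIdeal := by
    rw [hmT]
    exact Ideal.subset_span (Set.mem_biUnion (show (1 : ℤ) ∈ Set.Ioi (0 : ℤ) by simp) hθ)
  -- the element `p₀`
  obtain ⟨p₀, hp₀, hp₀e⟩ := exists_ev (φ := φ) hP.image_piece (n := -a) (by omega)
    (g := (X i₀ ^ (c + 1) : MvPolynomial (Fin s) k)) (by
      have := hY (c + 1)
      rwa [show ((c + 1 : ℕ) : ℤ) = -a + b by push_cast; omega] at this)
  have hinj := ev_phi_injective hP.injective hP.image_piece
  have hp₀' : ∀ p' : P, θ • p' ≠ p₀ := by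
    intro p' he
    have h1 : ev (φ (θ • p')) = X i₀ ^ (c + 1) := by rw [he, hp₀e]
    rw [ev_phi_smul hP, hθe', pow_succ, mul_comm] at h1
    have h2 : ev (φ p') = X i₀ ^ c := mul_right_cancel₀ (X_ne_zero i₀) h1
    have h3 := cp_ev_eq_zero hP.injective hP.image_piece (m := (c : ℤ)) (by omega) p'
    rw [h2, K993.Basic.cp_same (gS k s) (hY c)] at h3
    exact X_pow_ne_zero i₀ c h3
  have hkill : ∀ t ∈ mT.toIdeal, ∃ p' : P, t • p₀ = θ • p' := by
    intro t ht
    rw [hmT] at ht
    induction ht using Submodule.span_induction with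
    | mem t ht =>
      obtain ⟨n, hn, ht⟩ := Set.mem_iUnion₂.1 ht
      have h1 : ev (ψ t) ∈ gS k s (n + 0) := ev_phi_mem (φ := ψ.toLinearMap) (himT hT) ht
      have hn' : (0 : ℤ) < n := hn
      rw [add_zero] at h1
      have h2 : ev (ψ t) * X i₀ ^ c ∈ gS k s (n + c) := SetLike.GradedMul.mul_mem h1 (hY c)
      obtain ⟨p', -, hp'⟩ := exists_ev (φ := φ) hP.image_piece (n := n + c - b) (by omega)
        (g := ev (ψ t) * X i₀ ^ c) (by rwa [show n + c - b + b = n + c by omega])
      refine ⟨p', hinj ?_⟩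
      show ev (φ (t • p₀)) = ev (φ (θ • p'))
      rw [ev_phi_smul hP, ev_phi_smul hP, hp₀e, hθe', hp']
      ring
    | zero => exact ⟨0, by rw [zero_smul, smul_zero]⟩
    | add t t' _ _ h h' =>
      obtain ⟨p, hp⟩ := h
      obtain ⟨p', hp'⟩ := h'
      exact ⟨p + p', by rw [add_smul, hp, hp', smul_add]⟩
    | smul r t _ h =>
      obtain ⟨p, hp⟩ := h
      exact ⟨r • p, by rw [smul_assoc, hp, smul_comm]⟩
  have hp₀0 : p₀ ≠ 0 := fun h => hp₀' 0 (by rw [smul_zero, h])
  -- `mT ≠ ⊤`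
  have hmne : mT.toIdeal ≠ ⊤ := by
    intro h
    obtain ⟨p', hp'⟩ := hkill 1 (h ▸ trivial)
    rw [one_smul] at hp'
    exact hp₀' p' hp'.symm
  have hne : mT.toIdeal • (⊤ : Submodule T P) ≠ ⊤ := by
    intro h
    obtain ⟨r, hr, hr0⟩ := Submodule.exists_sub_one_mem_and_smul_eq_zero_of_fg_of_le_smul mT.toIdeal
      (⊤ : Submodule T P) Module.Finite.fg_top h.ge
    have h1 : r = 0 := by
      by_contra hne
      have h2 := isSMulRegular hT hP hne
      rw [isSMulRegular_iff_right_eq_zero_of_smul] at h2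
      exact hp₀0 (h2 p₀ (hr0 p₀ trivial))
    rw [h1, zero_sub] at hr
    exact hmne ((Ideal.eq_top_iff_one _).2 (by simpa using neg_mem hr))
  have hreg := isSMulRegular hT hP hθ0
  apply le_antisymm
  · refine (Groth.Agent.Ega4B.DepthBasic.idealDepth_le_idealDepth_quotSMulTop_add_one mT.toIdeal P hne θ hθm
      hreg).trans ?_
    have h0 : LocCoh.idealDepth mT.toIdeal (QuotSMulTop θ P) = 0 := by
      by_contra hcon
      have h1 : 1 ≤ LocCoh.idealDepth mT.toIdeal (QuotSMulTop θ P) := by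
        rw [Order.one_le_iff_ne_zero]; exact hcon
      rw [Groth.Agent.Ega4B.DepthFinite.one_le_idealDepth_iff_exists _ _
        (Groth.Agent.Ega4B.DepthBasic.smul_top_quotSMulTop_ne_top hθm hne)] at h1
      obtain ⟨x, hx, hxr⟩ := h1
      obtain ⟨p', hp'⟩ := hkill x hx
      rw [isSMulRegular_iff_right_eq_zero_of_smul] at hxr
      have h2 : (Submodule.Quotient.mk p₀ : QuotSMulTop θ P) = 0 := by
        apply hxr
        rw [← Submodule.Quotient.mk_smul, Submodule.Quotient.mk_eq_zero, hp']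
        exact Submodule.smul_mem_pointwise_smul _ _ _ trivial
      rw [Submodule.Quotient.mk_eq_zero] at h2
      obtain ⟨p'', -, hp''⟩ := (Submodule.mem_smul_pointwise_iff_exists _ _ _).1 h2
      exact hp₀' p'' hp''
    rw [h0, zero_add]
  · rw [Groth.Agent.Ega4B.DepthFinite.one_le_idealDepth_iff_exists _ _ hne]
    exact ⟨θ, hθm, hreg⟩

end Main

end K962.PolySeg
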