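import Groth.Agent.GrSegre.K962.KM

/-!
# `M ⊗ N` as a `T`-module; the Segre product of graded modules as an object
-/

set_option autoImplicit false
set_option linter.unusedSectionVars false
set_option linter.style.haveILetI false
set_option warn.classDefReducibility false
universe u
open scoped TensorProduct DirectSum
open K759.Gr K759.GrObj K962.Basic K962.Pieces K962.KM

namespace K962.Seg

section Lin

variable {k : Type u} [CommRing k] {V W : Type u} [AddCommGroup V] [Module k V] [AddCommGroup W] [Module k W]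
  {ι : Type} [DecidableEq ι]
  (𝒱 : ι → Submodule k V) [DirectSum.Decomposition 𝒱] (𝒲 : ι → Submodule k W) [DirectSum.Decomposition 𝒲]

theorem exists_finset_bpr {w : V ⊗[k] W} (hw : dg 𝒱 𝒲 w = w) :
    ∃ s : Finset ι, (∀ i, i ∉ s → bpr 𝒱 𝒲 i i w = 0) ∧ ∑ i ∈ s, bpr 𝒱 𝒲 i i w = w := by
  classical
  have hw' : w ∈ ⨆ n, GrSeg.segrePiece k 𝒱 𝒲 n := hw ▸ dg_mem 𝒱 𝒲 w
  clear hw
  induction hw' using Submodule.iSup_induction' with
  | mem n w hw =>
    refine ⟨{n}, fun i hi => ?_, ?_⟩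
    · exact bpr_of_mem_ne 𝒱 𝒲 hw (Or.inl (fun h => hi (by simp [h])))
    · rw [Finset.sum_singleton, bpr_of_mem 𝒱 𝒲 hw]
  | zero => exact ⟨∅, fun i _ => map_zero _, by simp⟩
  | add w w' _ _ h h' =>
    obtain ⟨s, h1, h2⟩ := h
    obtain ⟨s', h1', h2'⟩ := h'
    refine ⟨s ∪ s', fun i hi => ?_, ?_⟩
    · rw [Finset.mem_union, not_or] at hi
      rw [map_add, h1 i hi.1, h1' i hi.2, add_zero]
    · simp only [map_add]
      rw [Finset.sum_add_distrib]
      congr 1
      · rw [← Finset.sum_subset (Finset.subset_union_left (s₁ := s) (s₂ := s')) (fun i _ hi => h1 i hi), h2]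
      · rw [← Finset.sum_subset (Finset.subset_union_right (s₁ := s) (s₂ := s')) (fun i _ hi => h1' i hi), h2']

theorem dg_bpr (i : ι) (w : V ⊗[k] W) : dg 𝒱 𝒲 (bpr 𝒱 𝒲 i i w) = bpr 𝒱 𝒲 i i w :=
  dg_of_mem 𝒱 𝒲 (bpr_mem 𝒱 𝒲 i w)

theorem dg_dg (w : V ⊗[k] W) : dg 𝒱 𝒲 (dg 𝒱 𝒲 w) = dg 𝒱 𝒲 w := dg_of_mem_iSup 𝒱 𝒲 (dg_mem 𝒱 𝒲 w)

variable {V' W' : Type u} [AddCommGroup V'] [Module k V'] [AddCommGroup W'] [Module k W']
  (𝒱' : ι → Submodule k V') [DirectSum.Decomposition 𝒱'] (𝒲' : ι → Submodule k W') [DirectSum.Decomposition 𝒲']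

theorem map_mem_segrePiece {f : V →ₗ[k] V'} {g : W →ₗ[k] W'} {n : ι} (hf : ∀ x ∈ 𝒱 n, f x ∈ 𝒱' n)
    (hg : ∀ x ∈ 𝒲 n, g x ∈ 𝒲' n) {w : V ⊗[k] W} (hw : w ∈ GrSeg.segrePiece k 𝒱 𝒲 n) :
    TensorProduct.map f g w ∈ GrSeg.segrePiece k 𝒱' 𝒲' n := by
  induction hw using Submodule.span_induction with
  | mem w hw =>
    obtain ⟨x, hx, y, hy, rfl⟩ := hw
    exact mem_segrePiece_tmul 𝒱' 𝒲' (hf x hx) (hg y hy)
  | zero => rw [map_zero]; exact zero_mem _
  | add x y _ _ hx hy => rw [map_add]; exact add_mem hx hy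
  | smul c x _ hx => rw [map_smul]; exact Submodule.smul_mem _ _ hx

theorem dg_map {f : V →ₗ[k] V'} {g : W →ₗ[k] W'} (hf : ∀ n, ∀ x ∈ 𝒱 n, f x ∈ 𝒱' n)
    (hg : ∀ n, ∀ x ∈ 𝒲 n, g x ∈ 𝒲' n) (w : V ⊗[k] W) :
    dg 𝒱' 𝒲' (TensorProduct.map f g w) = TensorProduct.map f g (dg 𝒱 𝒲 w) := by
  induction w using tensor_induction 𝒱 𝒲 with
  | h0 => simp
  | hadd x y hx hy => rw [map_add, map_add, hx, hy, map_add, map_add]
  | hpure i j x y hx hy =>
    by_cases h : j = i
    · subst h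
      rw [TensorProduct.map_tmul, dg_tmul_same 𝒱' 𝒲' (hf _ _ hx) (hg _ _ hy), dg_tmul_same 𝒱 𝒲 hx hy,
        TensorProduct.map_tmul]
    · rw [TensorProduct.map_tmul, dg_tmul_ne 𝒱' 𝒲' (hf _ _ hx) (hg _ _ hy) h, dg_tmul_ne 𝒱 𝒲 hx hy h, map_zero]

theorem bpr_map {f : V →ₗ[k] V'} {g : W →ₗ[k] W'} (hf : ∀ n, ∀ x ∈ 𝒱 n, f x ∈ 𝒱' n)
    (hg : ∀ n, ∀ x ∈ 𝒲 n, g x ∈ 𝒲' n) (i j : ι) (w : V ⊗[k] W) :
    bpr 𝒱' 𝒲' i j (TensorProduct.map f g w) = TensorProduct.map f g (bpr 𝒱 𝒲 i j w) := by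
  have h1 : ∀ i, pr 𝒱' i ∘ₗ f = f ∘ₗ pr 𝒱 i := by
    intro i
    ext x
    obtain ⟨s, hs, hs'⟩ := exists_finset_sum_pr 𝒱 x
    rw [LinearMap.comp_apply, LinearMap.comp_apply]
    conv_lhs => rw [hs]
    rw [map_sum, map_sum]
    by_cases hi : i ∈ s
    · rw [Finset.sum_eq_single i]
      · rw [pr_of_mem 𝒱' (hf _ _ (pr_mem 𝒱 i x))]
      · intro j _ hj; exact pr_of_mem_ne 𝒱' (hf _ _ (pr_mem 𝒱 j x)) hj
      · intro h; exact absurd hi h
    · rw [hs' i hi, map_zero]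
      refine Finset.sum_eq_zero fun j hj => pr_of_mem_ne 𝒱' (hf _ _ (pr_mem 𝒱 j x)) (fun h => hi (h ▸ hj))
  have h2 : ∀ i, pr 𝒲' i ∘ₗ g = g ∘ₗ pr 𝒲 i := by
    intro i
    ext x
    obtain ⟨s, hs, hs'⟩ := exists_finset_sum_pr 𝒲 x
    rw [LinearMap.comp_apply, LinearMap.comp_apply]
    conv_lhs => rw [hs]
    rw [map_sum, map_sum]
    by_cases hi : i ∈ s
    · rw [Finset.sum_eq_single i]
      · rw [pr_of_mem 𝒲' (hg _ _ (pr_mem 𝒲 i x))]
      · intro j _ hj; exact pr_of_mem_ne 𝒲' (hg _ _ (pr_mem 𝒲 j x)) hj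
      · intro h; exact absurd hi h
    · rw [hs' i hi, map_zero]
      refine Finset.sum_eq_zero fun j hj => pr_of_mem_ne 𝒲' (hg _ _ (pr_mem 𝒲 j x)) (fun h => hi (h ▸ hj))
  rw [bpr, bpr, ← LinearMap.comp_apply, ← LinearMap.comp_apply, ← TensorProduct.map_comp,
    ← TensorProduct.map_comp, h1, h2]

end Lin

section TT

/-- `M ⊗ N` as a `T`-module through `ψ`. -/
def TT {k : Type u} [CommRing k] {R S T : Type u} [CommRing R] [Algebra k R] [CommRing S] [Algebra k S]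
    [CommRing T] [Algebra k T] (_ψ : T →ₐ[k] R ⊗[k] S) (M N : Type u) [AddCommGroup M] [Module k M]
    [AddCommGroup N] [Module k N] : Type u := M ⊗[k] N

variable {k : Type u} [CommRing k] {R S T : Type u} [CommRing R] [Algebra k R] [CommRing S] [Algebra k S]
  [CommRing T] [Algebra k T] (ψ : T →ₐ[k] R ⊗[k] S)
  (M N : Type u) [AddCommGroup M] [Module R M] [Module k M] [IsScalarTower k R M]
  [AddCommGroup N] [Module S N] [Module k N] [IsScalarTower k S N]

noncomputable instance : AddCommGroup (TT ψ M N) := inferInstanceAs (AddCommGroup (M ⊗[k] N))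
noncomputable instance : Module k (TT ψ M N) := inferInstanceAs (Module k (M ⊗[k] N))
noncomputable instance : Module T (TT ψ M N) :=
  Module.compHom (M ⊗[k] N) ((actHom k R S M N).toRingHom.comp ψ.toRingHom)

variable {ψ M N}

/-- reinterpretation -/
noncomputable def toTT : M ⊗[k] N ≃ₗ[k] TT ψ M N := LinearEquiv.refl k _

theorem smul_def (t : T) (w : TT ψ M N) :
    t • w = (toTT (GrSeg.act k R S M N (ψ t) (toTT.symm w)) : TT ψ M N) := actHom_eq_act (ψ t) w

instance : IsScalarTower k T (TT ψ M N) where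
  smul_assoc c t w := by
    rw [smul_def, smul_def, map_smul, map_smul]
    rfl

variable {M' N' : Type u} [AddCommGroup M'] [Module R M'] [Module k M'] [IsScalarTower k R M']
  [AddCommGroup N'] [Module S N'] [Module k N'] [IsScalarTower k S N']

theorem map_act (f : M →ₗ[R] M') (g : N →ₗ[S] N') (c : R ⊗[k] S) (w : M ⊗[k] N) :
    TensorProduct.map (f.restrictScalars k) (g.restrictScalars k) (GrSeg.act k R S M N c w) =
      GrSeg.act k R S M' N' c (TensorProduct.map (f.restrictScalars k) (g.restrictScalars k) w) := by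
  induction c using TensorProduct.induction_on with
  | zero => simp
  | add x y hx hy => rw [map_add, LinearMap.add_apply, map_add, hx, hy, map_add, LinearMap.add_apply]
  | tmul r s =>
    induction w using TensorProduct.induction_on with
    | zero => simp
    | add x y hx hy => rw [map_add, map_add, hx, hy, map_add, map_add]
    | tmul x y =>
      rw [GrSeg.act_tmul, TensorProduct.map_tmul, TensorProduct.map_tmul, GrSeg.act_tmul]
      simp

/-- functoriality of the tensor product, `T`-linear -/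
noncomputable def mapTT (f : M →ₗ[R] M') (g : N →ₗ[S] N') : TT ψ M N →ₗ[T] TT ψ M' N' where
  toFun := TensorProduct.map (f.restrictScalars k) (g.restrictScalars k)
  map_add' := map_add _
  map_smul' t w := map_act f g (ψ t) w |>.trans (by rfl) |> fun h => by
    rw [smul_def, smul_def]; exact h

theorem mapTT_toTT (f : M →ₗ[R] M') (g : N →ₗ[S] N') (w : M ⊗[k] N) :
    mapTT (ψ := ψ) f g (toTT w) =
      toTT (TensorProduct.map (f.restrictScalars k) (g.restrictScalars k) w) := rfl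

end TT

section Graded

variable {k : Type u} [CommRing k] {R S T : Type u} [CommRing R] [Algebra k R] [CommRing S] [Algebra k S]
  [CommRing T] [Algebra k T]
  {ι : Type} [AddCommGroup ι] [DecidableEq ι]
  {𝒜 : ι → Submodule k R} [GradedAlgebra 𝒜] {ℬ : ι → Submodule k S} [GradedAlgebra ℬ]
  {𝒯 : ι → Submodule k T} [GradedAlgebra 𝒯] {ψ : T →ₐ[k] R ⊗[k] S}

/-- Diagonal projection and the action of diagonal elements. -/
theorem dg_act' {M N : Type u} [AddCommGroup M] [Module R M] [Module k M] [IsScalarTower k R M]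
    [AddCommGroup N] [Module S N] [Module k N] [IsScalarTower k S N]
    {ℳ : ι → Submodule k M} [DirectSum.Decomposition ℳ] [SetLike.GradedSMul 𝒜 ℳ]
    {𝒩 : ι → Submodule k N} [DirectSum.Decomposition 𝒩] [SetLike.GradedSMul ℬ 𝒩]
    {c : R ⊗[k] S} (hc : dg 𝒜 ℬ c = c) (w : M ⊗[k] N) :
    dg ℳ 𝒩 (GrSeg.act k R S M N c w) = GrSeg.act k R S M N c (dg ℳ 𝒩 w) := by
  have hc' : c ∈ ⨆ n, GrSeg.segrePiece k 𝒜 ℬ n := hc ▸ dg_mem 𝒜 ℬ c
  clear hc
  induction hc' using Submodule.iSup_induction' with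
  | mem n c hc =>
    induction hc using Submodule.span_induction with
    | mem c hc =>
      obtain ⟨a, ha, b, hb, rfl⟩ := hc
      induction w using tensor_induction ℳ 𝒩 with
      | h0 => simp
      | hadd w w' h h' => rw [map_add, map_add, h, h', map_add, map_add]
      | hpure i j x y hx hy =>
        rw [GrSeg.act_tmul]
        have hax := SetLike.GradedSMul.smul_mem (A := 𝒜) (B := ℳ) ha hx
        have hby := SetLike.GradedSMul.smul_mem (A := ℬ) (B := 𝒩) hb hy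
        rw [vadd_eq_add] at hax hby
        by_cases h : j = i
        · subst h
          rw [dg_tmul_same ℳ 𝒩 hx hy, GrSeg.act_tmul, dg_tmul_same ℳ 𝒩 hax hby]
        · rw [dg_tmul_ne ℳ 𝒩 hx hy h, map_zero, dg_tmul_ne ℳ 𝒩 hax hby (fun h' => h (add_left_cancel h'))]
    | zero => simp
    | add x y _ _ hx hy => rw [map_add, LinearMap.add_apply, map_add, hx, hy, LinearMap.add_apply]
    | smul c x _ hx => rw [map_smul, LinearMap.smul_apply, map_smul, hx, LinearMap.smul_apply]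
  | zero => simp
  | add x y _ _ hx hy => rw [map_add, LinearMap.add_apply, map_add, hx, hy, LinearMap.add_apply]

variable (X : KMod.{u} 𝒜) (Y : KMod.{u} ℬ)

/-- pieces as `k`-subspaces -/
abbrev kg (X : KMod.{u} 𝒜) : ι → Submodule k X.carrier := kp 𝒜 X.gr

theorem psi_dg (hT : GrSeg.IsSegreRing 𝒜 ℬ 𝒯 ψ) (t : T) : dg 𝒜 ℬ (ψ t) = ψ t :=
  dg_phi (isSegreMod_ring hT) t

/-- the diagonal projection is `T`-linear -/
noncomputable def dgT (hT : GrSeg.IsSegreRing 𝒜 ℬ 𝒯 ψ) :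
    TT ψ X.carrier Y.carrier →ₗ[T] TT ψ X.carrier Y.carrier where
  toFun w := toTT (dg (kg X) (kg Y) (toTT.symm w))
  map_add' w w' := by rw [map_add, map_add, map_add]
  map_smul' t w := by
    rw [smul_def, smul_def, LinearEquiv.symm_apply_apply, dg_act' (psi_dg hT t)]
    rfl

/-- the diagonal part of `X ⊗ Y` -/
noncomputable def segSub (hT : GrSeg.IsSegreRing 𝒜 ℬ 𝒯 ψ) : Submodule T (TT ψ X.carrier Y.carrier) :=
  LinearMap.ker (dgT X Y hT - LinearMap.id)

theorem mem_segSub (hT : GrSeg.IsSegreRing 𝒜 ℬ 𝒯 ψ) {w : TT ψ X.carrier Y.carrier} :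
    w ∈ segSub X Y hT ↔ dg (kg X) (kg Y) (toTT.symm w) = toTT.symm w := by
  rw [segSub, LinearMap.mem_ker, LinearMap.sub_apply, sub_eq_zero]
  exact Iff.rfl

/-- pieces of the diagonal part -/
noncomputable def segGr (hT : GrSeg.IsSegreRing 𝒜 ℬ 𝒯 ψ) : ι → AddSubgroup (segSub X Y hT) := fun i =>
  ((GrSeg.segrePiece k (kg X) (kg Y) i).toAddSubgroup).comap
    ((toTT.symm : TT ψ X.carrier Y.carrier ≃ₗ[k] _).toLinearMap.toAddMonoidHom.comp
      (segSub X Y hT).subtype.toAddMonoidHom)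

theorem mem_segGr (hT : GrSeg.IsSegreRing 𝒜 ℬ 𝒯 ψ) {i : ι} {w : segSub X Y hT} :
    w ∈ segGr X Y hT i ↔ toTT.symm (w : TT ψ X.carrier Y.carrier) ∈ GrSeg.segrePiece k (kg X) (kg Y) i := Iff.rfl

noncomputable def segDec (hT : GrSeg.IsSegreRing 𝒜 ℬ 𝒯 ψ) : DirectSum.Decomposition (segGr X Y hT) :=
  mkDecomp (segGr X Y hT)
    (fun i =>
      { toFun := fun w => ⟨toTT (bpr (kg X) (kg Y) i i (toTT.symm w.1)), by
          rw [mem_segSub, LinearEquiv.symm_apply_apply]; exact dg_bpr _ _ _ _⟩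
        map_zero' := Subtype.ext (by
          show toTT (bpr (kg X) (kg Y) i i (toTT.symm ((0 : segSub X Y hT) : TT ψ X.carrier Y.carrier))) = 0
          rw [ZeroMemClass.coe_zero, map_zero, map_zero, map_zero])
        map_add' := fun w w' => Subtype.ext (by
          show toTT (bpr (kg X) (kg Y) i i (toTT.symm ((w + w' : segSub X Y hT) : TT ψ X.carrier Y.carrier))) = _
          rw [Submodule.coe_add, map_add, map_add, map_add]; rfl) })
    (fun i w => bpr_mem _ _ i _)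
    (fun w => by
      obtain ⟨s, h1, h2⟩ := exists_finset_bpr (kg X) (kg Y) ((mem_segSub X Y hT).1 w.2)
      refine ⟨s, fun i hi => Subtype.ext (by
        show toTT (bpr (kg X) (kg Y) i i (toTT.symm w.1)) = 0
        rw [h1 i hi, map_zero]), Subtype.ext ?_⟩
      rw [AddSubmonoidClass.coe_finsetSum]
      show ∑ i ∈ s, toTT (bpr (kg X) (kg Y) i i (toTT.symm w.1)) = w.1
      rw [← map_sum, h2, LinearEquiv.apply_symm_apply])
    (fun i w hw => Subtype.ext (by
      show toTT (bpr (kg X) (kg Y) i i (toTT.symm w.1)) = w.1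
      rw [bpr_of_mem _ _ ((mem_segGr X Y hT).1 hw), LinearEquiv.apply_symm_apply]))
    (fun i j w hij hw => Subtype.ext (by
      show toTT (bpr (kg X) (kg Y) j j (toTT.symm w.1)) = 0
      rw [bpr_of_mem_ne _ _ ((mem_segGr X Y hT).1 hw) (Or.inl hij), map_zero]))

theorem segGSMul (hT : GrSeg.IsSegreRing 𝒜 ℬ 𝒯 ψ) : SetLike.GradedSMul 𝒯 (segGr X Y hT) where
  smul_mem {i j t w} ht hw := by
    rw [mem_segGr] at hw ⊢
    rw [Submodule.coe_smul, smul_def, LinearEquiv.symm_apply_apply]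
    exact act_mem (psi_mem hT ht) hw

/-- The Segre product `X # Y` as an object. -/
noncomputable def seg (hT : GrSeg.IsSegreRing 𝒜 ℬ 𝒯 ψ) : KMod.{u} 𝒯 :=
  letI := segDec X Y hT
  letI := segGSMul X Y hT
  { carrier := segSub X Y hT
    gr := segGr X Y hT }

/-- the inclusion `X # Y → X ⊗ Y` -/
noncomputable def segφ (hT : GrSeg.IsSegreRing 𝒜 ℬ 𝒯 ψ) : (seg X Y hT).carrier →ₗ[k] X.carrier ⊗[k] Y.carrier :=
  (toTT.symm : TT ψ X.carrier Y.carrier ≃ₗ[k] _).toLinearMap ∘ₗ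
    ((segSub X Y hT).subtype.restrictScalars k)

theorem isSegreMod_seg (hT : GrSeg.IsSegreRing 𝒜 ℬ 𝒯 ψ) :
    GrSeg.IsSegreMod ψ (kg X) (kg Y) (seg X Y hT).gr (segφ X Y hT) where
  injective := toTT.symm.injective.comp Subtype.val_injective
  image_piece n := by
    ext w
    constructor
    · rintro ⟨p, hp, rfl⟩; exact hp
    · intro hw
      exact ⟨⟨toTT w, (mem_segSub X Y hT).2 (by
        rw [LinearEquiv.symm_apply_apply]; exact dg_of_mem _ _ hw)⟩, hw, rfl⟩
  map_smul t p := by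
    obtain ⟨w, hw⟩ := p
    show toTT.symm (t • w) = _
    rw [smul_def, LinearEquiv.symm_apply_apply]
    rfl

end Graded

end K962.Seg
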