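import Groth.Agent.GrSegre.K961.SegStd
import Groth.Agent.GrDual.K993.Basic
import Groth.Prelude.Def_GrLC

/-!
# Pieces of a standard graded ring of positive dimension; `endDeg < 0`
-/

set_option autoImplicit false
set_option linter.unusedSectionVars false
set_option linter.style.haveILetI false
universe u
open K961.Irr K962.Pieces DirectSum

namespace K962.Std

section

variable {k : Type u} [Field k] {R : Type u} [CommRing R] [Algebra k R]
  {𝒜 : ℤ → Submodule k R} [GradedAlgebra 𝒜]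

/-- in a standard graded ring, a zero piece of nonnegative degree is followed by zero pieces -/
theorem succ_eq_bot (hstd : Ideal.span (⋃ n ∈ Set.Ioi (0 : ℤ), (𝒜 n : Set R)) =
      Ideal.span ((𝒜 1 : Submodule k R) : Set R)) {n : ℤ} (hn : 0 ≤ n) (hb : 𝒜 n = ⊥) : 𝒜 (n + 1) = ⊥ := by
  have key : ∀ x ∈ Ideal.span ((𝒜 1 : Submodule k R) : Set R), ∀ a : R, K993.Basic.cp 𝒜 (n + 1) (a * x) = 0 := by
    intro x hx
    refine Submodule.span_induction (p := fun x _ => ∀ a : R, K993.Basic.cp 𝒜 (n + 1) (a * x) = 0) ?_ ?_ ?_ ?_ hx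
    · intro l hl a
      have h1 : K993.Basic.cp 𝒜 (n + 1) (l • a) = l • K993.Basic.cp 𝒜 (n + 1 - 1) a :=
        K993.Basic.cp_smul_homog 𝒜 𝒜 hl (n + 1) a
      have h2 : K993.Basic.cp 𝒜 (n + 1 - 1) a ∈ 𝒜 n := by
        have := K993.Basic.cp_mem 𝒜 (n + 1 - 1) a
        rwa [show n + 1 - 1 = n by omega] at this ⊢
      rw [hb, Submodule.mem_bot] at h2
      rw [mul_comm, ← smul_eq_mul, h1, h2, smul_zero]
    · intro a; rw [mul_zero, map_zero]
    · intro x y _ _ hx hy a; rw [mul_add, map_add, hx, hy, add_zero]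
    · intro r x _ hx a
      rw [smul_eq_mul, ← mul_assoc]
      exact hx (a * r)
  rw [eq_bot_iff]
  intro x hx
  have h1 : x ∈ Ideal.span ((𝒜 1 : Submodule k R) : Set R) := by
    rw [← hstd]
    exact mem_irr_of_mem 𝒜 (by omega) hx
  have h2 := key x h1 1
  rw [one_mul, K993.Basic.cp_same 𝒜 hx] at h2
  exact (Submodule.mem_bot k).2 h2

theorem eq_bot_of_le (hstd : Ideal.span (⋃ n ∈ Set.Ioi (0 : ℤ), (𝒜 n : Set R)) =
      Ideal.span ((𝒜 1 : Submodule k R) : Set R)) {n : ℤ} (hn : 0 ≤ n) (hb : 𝒜 n = ⊥) {m : ℤ} (hm : n ≤ m) :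
    𝒜 m = ⊥ := by
  obtain ⟨t, rfl⟩ : ∃ t : ℕ, m = n + t := ⟨(m - n).toNat, by omega⟩
  clear hm
  induction t with
  | zero => simpa using hb
  | succ t ih =>
    rw [Nat.cast_succ, ← add_assoc]
    exact succ_eq_bot hstd (by omega) ih

/-- the pieces of nonnegative degree of a standard graded ring of positive dimension are nonzero. -/
theorem piece_ne_bot [Algebra.FiniteType k R] (hpos : ∀ n : ℤ, n < 0 → 𝒜 n = ⊥)
    (h0 : 𝒜 0 = Submodule.span k {(1 : R)})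
    (hstd : Ideal.span (⋃ n ∈ Set.Ioi (0 : ℤ), (𝒜 n : Set R)) = Ideal.span ((𝒜 1 : Submodule k R) : Set R))
    {r : ℕ} (hr : ringKrullDim R = r) (h1 : 1 ≤ r) {n : ℤ} (hn : 0 ≤ n) : 𝒜 n ≠ ⊥ := by
  intro hb
  haveI : IsNoetherianRing R := Algebra.FiniteType.isNoetherianRing k R
  obtain ⟨r, rfl⟩ : ∃ r', r = r' + 1 := ⟨r - 1, by omega⟩
  have hd : Module.supportDim R R = ((r + 1 : ℕ) : WithBot ℕ∞) := by
    rw [Module.supportDim_self_eq_ringKrullDim, hr]
  obtain ⟨D₁, hD₁, hx⟩ := K961.SegDim2.exists_params 𝒜 𝒜 hpos h0 (r + 1) hd.le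
  obtain ⟨x, hx, hxr⟩ := hx 1 one_pos
  have hD : (0 : ℤ) < ((1 * D₁ : ℕ) : ℤ) := by exact_mod_cast Nat.mul_pos one_pos hD₁
  haveI := K961.FinDim.finite_adjoin 𝒜 𝒜 hpos h0 hD x hx hxr
  obtain ⟨a, m, hm, hmf⟩ := K961.Dim.exists_homogeneous_free (R := R) 𝒜 x (by simpa using hd.ge)
  obtain ⟨m', hm', hmf'⟩ := K961.SegStd.exists_free_le hstd hD x hx hm hmf (max a n) (le_max_left _ _)
  rw [eq_bot_of_le hstd hn hb (le_max_right a n), Submodule.mem_bot] at hm'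
  subst hm'
  exact one_ne_zero (hmf' 1 (smul_zero _))

end

theorem endDeg_lt_zero_iff {M : Type u} [AddCommGroup M] (ℳ : ℤ → AddSubgroup M) :
    GrLC.endDeg ℳ < 0 ↔ ∀ n : ℤ, 0 ≤ n → ℳ n = ⊥ := by
  constructor
  · intro h n hn
    by_contra hne
    have h1 : ((n : WithTop ℤ) : WithBot (WithTop ℤ)) ≤ GrLC.endDeg ℳ :=
      le_iSup₂_of_le n hne le_rfl
    have h2 : ((0 : ℤ) : WithTop ℤ) ≤ ((n : ℤ) : WithTop ℤ) := WithTop.coe_le_coe.2 hn
    have h3 : (0 : WithBot (WithTop ℤ)) ≤ ((n : WithTop ℤ) : WithBot (WithTop ℤ)) := WithBot.coe_le_coe.2 h2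
    exact absurd (h3.trans h1) (not_le.2 h)
  · intro h
    have h1 : GrLC.endDeg ℳ ≤ (((-1 : ℤ) : WithTop ℤ) : WithBot (WithTop ℤ)) := by
      refine iSup₂_le fun n hn => ?_
      have : n < 0 := by
        by_contra hc
        exact hn (h n (not_lt.1 hc))
      exact WithBot.coe_le_coe.2 (WithTop.coe_le_coe.2 (by omega))
    refine lt_of_le_of_lt h1 ?_
    exact WithBot.coe_lt_coe.2 (WithTop.coe_lt_coe.2 (by omega))

end K962.Std
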