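import Groth.Agent.GrSegre.K962.Seg
import Groth.Agent.GrSegre.K962.Kun

/-!
# The diagonal part of the total complex of `C ⊗ D`
-/

set_option autoImplicit false
set_option linter.unusedSectionVars false
set_option linter.style.haveILetI false
set_option warn.classDefReducibility false
universe u
open scoped TensorProduct DirectSum
open K759.Gr K759.GrObj K962.Basic K962.Pieces K962.KM K962.Seg
open Groth.Agent.Ega3B.KunnethAlg

namespace K962.Tot

section Gen

variable {k : Type u} [CommRing k]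
  {C : ℕ → Type u} [∀ p, AddCommGroup (C p)] [∀ p, Module k (C p)] (d : ∀ p, C p →ₗ[k] C (p + 1))
  {D : ℕ → Type u} [∀ p, AddCommGroup (D p)] [∀ p, Module k (D p)] (e : ∀ p, D p →ₗ[k] D (p + 1))
  {C' : ℕ → Type u} [∀ p, AddCommGroup (C' p)] [∀ p, Module k (C' p)] (d' : ∀ p, C' p →ₗ[k] C' (p + 1))
  {D' : ℕ → Type u} [∀ p, AddCommGroup (D' p)] [∀ p, Module k (D' p)] (e' : ∀ p, D' p →ₗ[k] D' (p + 1))

theorem dtot_add (w w' : ∀ p q, C p ⊗[k] D q) (p q : ℕ) :
    dtot d e (fun p q => w p q + w' p q) p q = dtot d e w p q + dtot d e w' p q := by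
  match p, q with
  | 0, 0 => simp only [dtot_zero_zero, add_zero]
  | p + 1, 0 => simp only [dtot_succ_zero, map_add]
  | 0, q + 1 => simp only [dtot_zero_succ, map_add, neg_add]
  | p + 1, q + 1 => simp only [dtot_succ_succ, map_add, smul_add]; abel

theorem dtot_zero (p q : ℕ) : dtot d e (fun _ _ => 0) p q = 0 := by
  match p, q with
  | 0, 0 => rw [dtot_zero_zero]
  | p + 1, 0 => rw [dtot_succ_zero, map_zero]
  | 0, q + 1 => rw [dtot_zero_succ, map_zero, neg_zero]
  | p + 1, q + 1 => rw [dtot_succ_succ, map_zero, map_zero, smul_zero, sub_zero]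

/-- naturality of the total differential. -/
theorem dtot_comm (F : ∀ p q, C p ⊗[k] D q →+ C' p ⊗[k] D' q)
    (h1 : ∀ p q w, F (p + 1) q ((d p).rTensor (D q) w) = (d' p).rTensor (D' q) (F p q w))
    (h2 : ∀ p q w, F p (q + 1) ((e q).lTensor (C p) w) = (e' q).lTensor (C' p) (F p q w))
    (w : ∀ p q, C p ⊗[k] D q) (p q : ℕ) :
    F p q (dtot d e w p q) = dtot d' e' (fun p q => F p q (w p q)) p q := by
  match p, q with
  | 0, 0 => rw [dtot_zero_zero, dtot_zero_zero, map_zero]
  | p + 1, 0 => rw [dtot_succ_zero, dtot_succ_zero, h1]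
  | 0, q + 1 => rw [dtot_zero_succ, dtot_zero_succ, map_neg, h2]
  | p + 1, q + 1 => rw [dtot_succ_succ, dtot_succ_succ, map_sub, map_zsmul, h1, h2]

variable {d e}

theorem dtot_dtot (hd : ∀ p, d (p + 1) ∘ₗ d p = 0) (he : ∀ p, e (p + 1) ∘ₗ e p = 0)
    (w : ∀ p q, C p ⊗[k] D q) (p q : ℕ) : dtot d e (dtot d e w) p q = 0 := by
  match p, q with
  | 0, 0 => rw [dtot_zero_zero]
  | 1, 0 => rw [dtot_succ_zero, dtot_zero_zero, map_zero]
  | p + 2, 0 => rw [dtot_succ_zero, dtot_succ_zero, rTensor_rTensor hd]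
  | 0, 1 => rw [dtot_zero_succ, dtot_zero_zero, map_zero, neg_zero]
  | 0, q + 2 => rw [dtot_zero_succ, dtot_zero_succ, map_neg, lTensor_lTensor he, neg_zero, neg_zero]
  | 1, 1 =>
    rw [dtot_succ_succ, dtot_zero_succ, dtot_succ_zero, map_neg, map_eq, map_eq']
    simp
  | p + 2, 1 =>
    rw [dtot_succ_succ, dtot_succ_zero, dtot_succ_succ, map_sub, rTensor_rTensor hd, map_zsmul, map_eq, map_eq',
      zero_sub, pow_succ (-1 : ℤ) (p + 1), mul_neg_one, neg_smul, sub_neg_eq_add, neg_add_cancel]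
  | 1, q + 2 =>
    rw [dtot_succ_succ, dtot_zero_succ, dtot_succ_succ, map_neg, map_eq, map_sub, map_zsmul, lTensor_lTensor he,
      map_eq', smul_zero, sub_zero]
    simp
  | p + 2, q + 2 =>
    rw [dtot_succ_succ, dtot_succ_succ, dtot_succ_succ, map_sub, rTensor_rTensor hd, map_sub, map_zsmul,
      map_zsmul, lTensor_lTensor he, map_eq, map_eq', smul_zero, sub_zero,
      zero_sub, pow_succ (-1 : ℤ) (p + 1), mul_neg_one, neg_smul, sub_neg_eq_add, neg_add_cancel]

/-- `dtot w` at `(p, q)` only depends on `w` in total degree `p + q - 1`. -/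
theorem dtot_congr {w w' : ∀ p q, C p ⊗[k] D q} (p q : ℕ)
    (h : ∀ p' q', p' + q' + 1 = p + q → w p' q' = w' p' q') : dtot d e w p q = dtot d e w' p q := by
  match p, q with
  | 0, 0 => rw [dtot_zero_zero, dtot_zero_zero]
  | p + 1, 0 => rw [dtot_succ_zero, dtot_succ_zero, h p 0 (by omega)]
  | 0, q + 1 => rw [dtot_zero_succ, dtot_zero_succ, h 0 q (by omega)]
  | p + 1, q + 1 => rw [dtot_succ_succ, dtot_succ_succ, h p (q + 1) (by omega), h (p + 1) q (by omega)]

end Gen

section Cx

variable {k : Type u} [Field k] {R S T : Type u} [CommRing R] [Algebra k R] [CommRing S] [Algebra k S]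
  [CommRing T] [Algebra k T]
  {ι : Type} [AddCommGroup ι] [DecidableEq ι]
  {𝒜 : ι → Submodule k R} [GradedAlgebra 𝒜] {ℬ : ι → Submodule k S} [GradedAlgebra ℬ]
  {𝒯 : ι → Submodule k T} [GradedAlgebra 𝒯] {ψ : T →ₐ[k] R ⊗[k] S} (hT : GrSeg.IsSegreRing 𝒜 ℬ 𝒯 ψ)
  {C : ℕ → KMod.{u} 𝒜} (d : ∀ p, (C p).carrier →ₗ[R] (C (p + 1)).carrier)
  {D : ℕ → KMod.{u} ℬ} (e : ∀ p, (D p).carrier →ₗ[S] (D (p + 1)).carrier)

/-- the underlying `k`-linear differential -/
abbrev dk (p : ℕ) : (C p).carrier →ₗ[k] (C (p + 1)).carrier := (d p).restrictScalars k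

variable (ψ C D) in
/-- all total degrees at once -/
abbrev Full : Type u := ∀ p q : ℕ, TT ψ (C p).carrier (D q).carrier

theorem rTensor_act {M M' N : Type u} [AddCommGroup M] [Module R M] [Module k M] [IsScalarTower k R M]
    [AddCommGroup M'] [Module R M'] [Module k M'] [IsScalarTower k R M']
    [AddCommGroup N] [Module S N] [Module k N] [IsScalarTower k S N] (f : M →ₗ[R] M') (c : R ⊗[k] S)
    (w : M ⊗[k] N) : GrSeg.act k R S M' N c ((f.restrictScalars k).rTensor N w) =
      (f.restrictScalars k).rTensor N (GrSeg.act k R S M N c w) :=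
  (map_act (k := k) f (LinearMap.id : N →ₗ[S] N) c w).symm

theorem lTensor_act {M N N' : Type u} [AddCommGroup M] [Module R M] [Module k M] [IsScalarTower k R M]
    [AddCommGroup N'] [Module S N'] [Module k N'] [IsScalarTower k S N']
    [AddCommGroup N] [Module S N] [Module k N] [IsScalarTower k S N] (f : N →ₗ[S] N') (c : R ⊗[k] S)
    (w : M ⊗[k] N) : GrSeg.act k R S M N' c ((f.restrictScalars k).lTensor M w) =
      (f.restrictScalars k).lTensor M (GrSeg.act k R S M N c w) :=
  (map_act (k := k) (LinearMap.id : M →ₗ[R] M) f c w).symm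

/-- The total differential, `T`-linear. -/
noncomputable def DT : Full ψ C D →ₗ[T] Full ψ C D where
  toFun w := fun p q => toTT (dtot (dk d) (dk e) (fun p q => toTT.symm (w p q)) p q)
  map_add' w w' := by
    funext p q
    show toTT (dtot (dk d) (dk e) (fun p q => toTT.symm (w p q + w' p q)) p q) = _
    simp only [map_add]
    rw [dtot_add, map_add]; rfl
  map_smul' t w := by
    funext p q
    show (toTT (dtot (dk d) (dk e) (fun p q => toTT.symm (t • w p q)) p q) : TT ψ (C p).carrier (D q).carrier) =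
      t • (toTT (dtot (dk d) (dk e) (fun p q => toTT.symm (w p q)) p q) : TT ψ (C p).carrier (D q).carrier)
    simp only [smul_def, LinearEquiv.symm_apply_apply]
    exact congrArg toTT (dtot_comm (dk d) (dk e) (dk d) (dk e)
      (fun p q => (GrSeg.act k R S (C p).carrier (D q).carrier (ψ t)).toAddMonoidHom)
      (fun p q w => rTensor_act (d p) (ψ t) w) (fun p q w => lTensor_act (e q) (ψ t) w)
      (fun p q => toTT.symm (w p q)) p q).symm

theorem DT_apply (w : Full ψ C D) (p q : ℕ) :
    toTT.symm (DT d e w p q) = dtot (dk d) (dk e) (fun p q => toTT.symm (w p q)) p q := rfl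

/-- The diagonal projection on everything. -/
noncomputable def dgF : Full ψ C D →ₗ[T] Full ψ C D where
  toFun w := fun p q => dgT (C p) (D q) hT (w p q)
  map_add' w w' := by funext p q; exact map_add _ _ _
  map_smul' t w := by funext p q; exact (dgT (C p) (D q) hT).map_smul t (w p q)

theorem dgF_apply (w : Full ψ C D) (p q : ℕ) :
    toTT.symm (dgF hT w p q) = dg (kg (C p)) (kg (D q)) (toTT.symm (w p q)) := rfl

/-- Truncation to total degree `n`. -/
noncomputable def tr (n : ℕ) : Full ψ C D →ₗ[T] Full ψ C D where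
  toFun w := fun p q => if p + q = n then w p q else 0
  map_add' w w' := by
    funext p q
    show (if p + q = n then w p q + w' p q else 0) = (if p + q = n then w p q else 0) + (if p + q = n then w' p q else 0)
    split_ifs <;> simp
  map_smul' t w := by
    funext p q
    show (if p + q = n then t • w p q else 0) = t • (if p + q = n then w p q else 0)
    split_ifs <;> simp

theorem tr_apply_eq {n p q : ℕ} (h : p + q = n) (w : Full ψ C D) : tr n w p q = w p q := if_pos h
theorem tr_apply_ne {n p q : ℕ} (h : p + q ≠ n) (w : Full ψ C D) : tr n w p q = 0 := if_neg h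

theorem DT_tr (n : ℕ) (w : Full ψ C D) : DT d e (tr n w) = tr (n + 1) (DT d e w) := by
  funext p q
  by_cases h : p + q = n + 1
  · rw [tr_apply_eq h]
    apply toTT.symm.injective
    rw [DT_apply, DT_apply]
    exact dtot_congr p q (fun p' q' h' => by rw [tr_apply_eq (by omega)])
  · rw [tr_apply_ne h]
    apply toTT.symm.injective
    rw [DT_apply, map_zero]
    refine (dtot_congr (w' := fun _ _ => 0) p q (fun p' q' h' => ?_)).trans (dtot_zero _ _ _ _)
    rw [tr_apply_ne (by omega), map_zero]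

section Hom

variable (hd : ∀ p, GrLC.IsGrHom (C p).gr (C (p + 1)).gr (d p))
  (he : ∀ p, GrLC.IsGrHom (D p).gr (D (p + 1)).gr (e p))

include hd he in
theorem DT_dgF (w : Full ψ C D) : DT d e (dgF hT w) = dgF hT (DT d e w) := by
  funext p q
  apply toTT.symm.injective
  rw [dgF_apply, DT_apply, DT_apply]
  exact (dtot_comm (dk d) (dk e) (dk d) (dk e)
    (fun p q => (dg (kg (C p)) (kg (D q))).toAddMonoidHom)
    (fun p q w => dg_map (kg (C p)) (kg (D q)) (kg (C (p + 1))) (kg (D q)) (f := dk d p) (g := LinearMap.id) (hd p) (fun _ _ h => h) w)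
    (fun p q w => dg_map (kg (C p)) (kg (D q)) (kg (C p)) (kg (D (q + 1))) (f := LinearMap.id) (g := dk e q) (fun _ _ h => h) (he q) w)
    (fun p q => toTT.symm (w p q)) p q).symm

include hd he in
theorem dtot_mem {i : ι} {w : Full ψ C D}
    (hw : ∀ p q, toTT.symm (w p q) ∈ GrSeg.segrePiece k (kg (C p)) (kg (D q)) i) (p q : ℕ) :
    toTT.symm (DT d e w p q) ∈ GrSeg.segrePiece k (kg (C p)) (kg (D q)) i := by
  rw [mem_segrePiece_iff, DT_apply]
  refine (dtot_comm (dk d) (dk e) (dk d) (dk e)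
    (fun p q => (bpr (kg (C p)) (kg (D q)) i i).toAddMonoidHom)
    (fun p q w => bpr_map (kg (C p)) (kg (D q)) (kg (C (p + 1))) (kg (D q)) (f := dk d p) (g := LinearMap.id) (hd p) (fun _ _ h => h) i i w)
    (fun p q w => bpr_map (kg (C p)) (kg (D q)) (kg (C p)) (kg (D (q + 1))) (f := LinearMap.id) (g := dk e q) (fun _ _ h => h) (he q) i i w)
    (fun p q => toTT.symm (w p q)) p q).trans ?_
  apply dtot_congr
  intro p' q' _
  exact (mem_segrePiece_iff _ _).1 (hw p' q')

end Hom

end Cx

end K962.Tot
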