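import Groth.Agent.GrSegre.K962.Tot

/-!
# The complex `K`: `K⁰ = P = M # N`, `Kⁿ⁺¹ = ⊕_{p+q=n} C^p # D^q`
-/

set_option autoImplicit false
set_option linter.unusedSectionVars false
set_option linter.style.haveILetI false
set_option warn.classDefReducibility false
universe u
open scoped TensorProduct DirectSum
open K759.Gr K759.GrObj K962.Basic K962.Pieces K962.KM K962.Seg K962.Tot
open Groth.Agent.Ega3B.KunnethAlg

namespace K962.TotK

variable {k : Type u} [Field k] {R S T : Type u} [CommRing R] [Algebra k R] [CommRing S] [Algebra k S]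
  [CommRing T] [Algebra k T]
  {ι : Type} [AddCommGroup ι] [DecidableEq ι]
  {𝒜 : ι → Submodule k R} [GradedAlgebra 𝒜] {ℬ : ι → Submodule k S} [GradedAlgebra ℬ]
  {𝒯 : ι → Submodule k T} [GradedAlgebra 𝒯] {ψ : T →ₐ[k] R ⊗[k] S} (hT : GrSeg.IsSegreRing 𝒜 ℬ 𝒯 ψ)
  (C : ℕ → KMod.{u} 𝒜) (d : ∀ p, (C p).carrier →ₗ[R] (C (p + 1)).carrier)
  (D : ℕ → KMod.{u} ℬ) (e : ∀ p, (D p).carrier →ₗ[S] (D (p + 1)).carrier)

/-- `⊕_{p+q=n} C^p # D^q` inside the product of all `C^p ⊗ D^q`. -/
noncomputable def KS (n : ℕ) : Submodule T (Full ψ C D) where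
  carrier := {w | ∀ p q, (p + q ≠ n → w p q = 0) ∧ w p q ∈ segSub (C p) (D q) hT}
  add_mem' {w w'} hw hw' p q := ⟨fun h => by
    show w p q + w' p q = 0
    rw [(hw p q).1 h, (hw' p q).1 h, add_zero], add_mem (hw p q).2 (hw' p q).2⟩
  zero_mem' p q := ⟨fun _ => rfl, zero_mem _⟩
  smul_mem' t w hw p q := ⟨fun h => by
    show t • w p q = 0
    rw [(hw p q).1 h, smul_zero], Submodule.smul_mem _ t (hw p q).2⟩

theorem mem_KS {n : ℕ} {w : Full ψ C D} :
    w ∈ KS hT C D n ↔ ∀ p q, (p + q ≠ n → w p q = 0) ∧ w p q ∈ segSub (C p) (D q) hT := Iff.rfl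

theorem mem_KS' {n : ℕ} {w : Full ψ C D} : w ∈ KS hT C D n ↔ tr n w = w ∧ dgF hT w = w := by
  constructor
  · intro h
    refine ⟨?_, ?_⟩
    · funext p q
      by_cases hpq : p + q = n
      · exact tr_apply_eq hpq w
      · rw [tr_apply_ne hpq, (h p q).1 hpq]
    · funext p q
      exact (mem_segSub _ _ hT).1 (h p q).2 |> fun h => toTT.symm.injective h
  · rintro ⟨h1, h2⟩ p q
    refine ⟨fun hpq => ?_, ?_⟩
    · rw [← h1, tr_apply_ne hpq]
    · rw [mem_segSub]
      have := congrFun (congrFun h2 p) q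
      exact congrArg toTT.symm this

/-- The pieces. -/
noncomputable def ksGr (n : ℕ) : ι → AddSubgroup (KS hT C D n) := fun i =>
  ⨅ (p : ℕ), ⨅ (q : ℕ), ((GrSeg.segrePiece k (kg (C p)) (kg (D q)) i).toAddSubgroup).comap
    ((toTT.symm : TT ψ (C p).carrier (D q).carrier ≃ₗ[k] _).toLinearMap.toAddMonoidHom.comp
      (((LinearMap.proj (R := T) (φ := fun q => TT ψ (C p).carrier (D q).carrier) q) ∘ₗ
        (LinearMap.proj (R := T) (φ := fun p => ∀ q, TT ψ (C p).carrier (D q).carrier) p) ∘ₗ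
          (KS hT C D n).subtype).toAddMonoidHom))

theorem mem_ksGr {n : ℕ} {i : ι} {w : KS hT C D n} : w ∈ ksGr hT C D n i ↔
    ∀ p q, toTT.symm (w.1 p q) ∈ GrSeg.segrePiece k (kg (C p)) (kg (D q)) i := by
  simp only [ksGr, AddSubgroup.mem_iInf]
  exact Iff.rfl

noncomputable def ksDec (n : ℕ) : DirectSum.Decomposition (ksGr hT C D n) :=
  mkDecomp (ksGr hT C D n)
    (fun i =>
      { toFun := fun w => ⟨fun p q => toTT (bpr (kg (C p)) (kg (D q)) i i (toTT.symm (w.1 p q))), fun p q =>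
          ⟨fun h => by
            show toTT (bpr (kg (C p)) (kg (D q)) i i (toTT.symm (w.1 p q))) = 0
            rw [(w.2 p q).1 h, map_zero, map_zero, map_zero], by
            rw [mem_segSub, LinearEquiv.symm_apply_apply]; exact dg_bpr _ _ _ _⟩⟩
        map_zero' := Subtype.ext (by
          funext p q
          show toTT (bpr (kg (C p)) (kg (D q)) i i (toTT.symm (0 : TT ψ (C p).carrier (D q).carrier))) = 0
          rw [map_zero, map_zero, map_zero])
        map_add' := fun w w' => Subtype.ext (by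
          funext p q
          show toTT (bpr (kg (C p)) (kg (D q)) i i (toTT.symm (w.1 p q + w'.1 p q))) = _
          rw [map_add, map_add, map_add]; rfl) })
    (fun i w => (mem_ksGr hT C D).2 fun p q => bpr_mem _ _ i _)
    (fun w => by
      classical
      have key : ∀ p q, ∃ s : Finset ι, (∀ i, i ∉ s → bpr (kg (C p)) (kg (D q)) i i (toTT.symm (w.1 p q)) = 0) ∧
          ∑ i ∈ s, bpr (kg (C p)) (kg (D q)) i i (toTT.symm (w.1 p q)) = toTT.symm (w.1 p q) := fun p q =>
        exists_finset_bpr (kg (C p)) (kg (D q)) ((mem_segSub _ _ hT).1 (w.2 p q).2)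
      choose s h1 h2 using key
      refine ⟨(Finset.range (n + 1)).biUnion (fun p => s p (n - p)), fun i hi => Subtype.ext ?_, Subtype.ext ?_⟩
      · funext p q
        show toTT (bpr (kg (C p)) (kg (D q)) i i (toTT.symm (w.1 p q))) = 0
        by_cases hpq : p + q = n
        · have hq : q = n - p := by omega
          subst hq
          rw [h1 p (n - p) i (fun h => hi (Finset.mem_biUnion.2 ⟨p, Finset.mem_range.2 (by omega), h⟩)), map_zero]
        · rw [(w.2 p q).1 hpq, map_zero, map_zero, map_zero]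
      · rw [AddSubmonoidClass.coe_finsetSum]
        funext p q
        rw [Finset.sum_apply, Finset.sum_apply]
        show ∑ i ∈ _, toTT (bpr (kg (C p)) (kg (D q)) i i (toTT.symm (w.1 p q))) = w.1 p q
        rw [← map_sum]
        by_cases hpq : p + q = n
        · have hq : q = n - p := by omega
          subst hq
          rw [← Finset.sum_subset (Finset.subset_biUnion_of_mem (fun p => s p (n - p))
            (Finset.mem_range.2 (show p < n + 1 by omega))) (fun i _ hi => h1 p (n - p) i hi), h2,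
            LinearEquiv.apply_symm_apply]
        · rw [(w.2 p q).1 hpq]
          simp)
    (fun i w hw => Subtype.ext (by
      funext p q
      show toTT (bpr (kg (C p)) (kg (D q)) i i (toTT.symm (w.1 p q))) = w.1 p q
      rw [bpr_of_mem _ _ ((mem_ksGr hT C D).1 hw p q), LinearEquiv.apply_symm_apply]))
    (fun i j w hij hw => Subtype.ext (by
      funext p q
      show toTT (bpr (kg (C p)) (kg (D q)) j j (toTT.symm (w.1 p q))) = 0
      rw [bpr_of_mem_ne _ _ ((mem_ksGr hT C D).1 hw p q) (Or.inl hij), map_zero]))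

theorem ksGSMul (n : ℕ) : SetLike.GradedSMul 𝒯 (ksGr hT C D n) where
  smul_mem {i j t w} ht hw := by
    rw [mem_ksGr] at hw ⊢
    intro p q
    show toTT.symm (t • w.1 p q) ∈ _
    rw [smul_def, LinearEquiv.symm_apply_apply]
    exact act_mem (psi_mem hT ht) (hw p q)

/-- `Kⁿ⁺¹` as a graded module. -/
@[reducible] noncomputable def kobj (n : ℕ) : GrLC.GMod.{u} 𝒯 :=
  letI := ksDec hT C D n
  letI := ksGSMul hT C D n
  { carrier := KS hT C D n
    gr := ksGr hT C D n }

variable {C D}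

section Diff

variable (hd : ∀ p, GrLC.IsGrHom (C p).gr (C (p + 1)).gr (d p))
  (he : ∀ p, GrLC.IsGrHom (D p).gr (D (p + 1)).gr (e p))

include hd he in
theorem DT_mem_KS {n : ℕ} {w : Full ψ C D} (hw : w ∈ KS hT C D n) : DT d e w ∈ KS hT C D (n + 1) := by
  rw [mem_KS'] at hw ⊢
  refine ⟨?_, ?_⟩
  · rw [← DT_tr, hw.1]
  · rw [← DT_dgF hT d e hd he, hw.2]

/-- The differentials. -/
noncomputable def dK (n : ℕ) : KS hT C D n →ₗ[T] KS hT C D (n + 1) :=
  (DT d e).restrict (fun _ hw => DT_mem_KS hT d e hd he hw)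

theorem dK_grHom (n : ℕ) : GrLC.IsGrHom (ksGr hT C D n) (ksGr hT C D (n + 1)) (dK hT d e hd he n) := by
  intro i w hw
  rw [mem_ksGr] at hw ⊢
  exact fun p q => dtot_mem d e hd he hw p q

theorem DT_DT (hdd : ∀ p x, d (p + 1) (d p x) = 0) (hee : ∀ p x, e (p + 1) (e p x) = 0) (w : Full ψ C D) :
    DT d e (DT d e w) = 0 := by
  funext p q
  apply toTT.symm.injective
  rw [DT_apply]
  have : (fun p q => toTT.symm (DT d e w p q)) = dtot (dk d) (dk e) (fun p q => toTT.symm (w p q)) := rfl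
  rw [this]
  refine (dtot_dtot (fun p => LinearMap.ext fun x => ?_) (fun p => LinearMap.ext fun x => ?_) _ p q).trans ?_
  · exact hdd p x
  · exact hee p x
  · exact (map_zero toTT.symm).symm

theorem dK_dK (hdd : ∀ p x, d (p + 1) (d p x) = 0) (hee : ∀ p x, e (p + 1) (e p x) = 0) (n : ℕ)
    (w : KS hT C D n) : dK hT d e hd he (n + 1) (dK hT d e hd he n w) = 0 :=
  Subtype.ext (DT_DT d e hdd hee w.1)

end Diff

section Aug

variable {M N P : Type u} [AddCommGroup M] [Module R M] [Module k M] [IsScalarTower k R M]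
  [AddCommGroup N] [Module S N] [Module k N] [IsScalarTower k S N]
  [AddCommGroup P] [Module T P] [Module k P] [IsScalarTower k T P]
  {ℳ : ι → Submodule k M} [DirectSum.Decomposition ℳ] [SetLike.GradedSMul 𝒜 ℳ]
  {𝒩 : ι → Submodule k N} [DirectSum.Decomposition 𝒩] [SetLike.GradedSMul ℬ 𝒩]
  {𝒬 : ι → AddSubgroup P} [DirectSum.Decomposition 𝒬]
  {φ : P →ₗ[k] M ⊗[k] N} (hP : GrSeg.IsSegreMod ψ ℳ 𝒩 𝒬 φ)
  (ε : M →ₗ[R] (C 0).carrier) (η : N →ₗ[S] (D 0).carrier)

/-- placing an element in bidegree `(0, 0)` -/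
noncomputable def at00 (w : TT ψ (C 0).carrier (D 0).carrier) : Full ψ C D
  | 0, 0 => w
  | 0, _ + 1 => 0
  | _ + 1, _ => 0

theorem at00_add (w w' : TT ψ (C 0).carrier (D 0).carrier) :
    (at00 (w + w') : Full ψ C D) = at00 w + at00 w' := by
  funext p q
  match p, q with
  | 0, 0 => rfl
  | 0, q + 1 => exact (add_zero (0 : TT ψ (C 0).carrier (D (q + 1)).carrier)).symm
  | p + 1, q => exact (add_zero (0 : TT ψ (C (p + 1)).carrier (D q).carrier)).symm

theorem at00_smul (t : T) (w : TT ψ (C 0).carrier (D 0).carrier) :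
    (at00 (t • w) : Full ψ C D) = t • at00 w := by
  funext p q
  match p, q with
  | 0, 0 => rfl
  | 0, q + 1 => exact (smul_zero (A := TT ψ (C 0).carrier (D (q + 1)).carrier) t).symm
  | p + 1, q => exact (smul_zero (A := TT ψ (C (p + 1)).carrier (D q).carrier) t).symm

theorem at00_mem {w : TT ψ (C 0).carrier (D 0).carrier} (hw : w ∈ segSub (C 0) (D 0) hT) :
    at00 w ∈ KS hT C D 0 := by
  intro p q
  match p, q with
  | 0, 0 => exact ⟨fun h => absurd rfl h, hw⟩
  | 0, q + 1 => exact ⟨fun _ => rfl, zero_mem _⟩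
  | p + 1, q => exact ⟨fun _ => rfl, zero_mem _⟩

variable (hε : ∀ n, ∀ x ∈ ℳ n, ε x ∈ (C 0).gr n) (hη : ∀ n, ∀ x ∈ 𝒩 n, η x ∈ (D 0).gr n)

variable (φ) in
/-- the `(0,0)` component of the augmentation -/
noncomputable def aug0 : P →ₗ[k] TT ψ (C 0).carrier (D 0).carrier :=
  toTT.toLinearMap ∘ₗ TensorProduct.map (ε.restrictScalars k) (η.restrictScalars k) ∘ₗ φ

include hP in
theorem aug0_smul (t : T) (p : P) : aug0 (ψ := ψ) φ ε η (t • p) = t • aug0 φ ε η p := by
  rw [smul_def]
  show toTT (TensorProduct.map (ε.restrictScalars k) (η.restrictScalars k) (φ (t • p))) = _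
  rw [hP.map_smul, map_act]
  rfl

include hP hε hη in
theorem aug0_mem (p : P) : aug0 (ψ := ψ) φ ε η p ∈ segSub (C 0) (D 0) hT := by
  rw [mem_segSub]
  show dg (kg (C 0)) (kg (D 0)) (TensorProduct.map (ε.restrictScalars k) (η.restrictScalars k) (φ p)) = _
  rw [dg_map ℳ 𝒩 (kg (C 0)) (kg (D 0)) (f := ε.restrictScalars k) (g := η.restrictScalars k) hε hη,
    dg_phi hP]
  rfl

/-- The augmentation `P → K¹`. -/
noncomputable def aug : P →ₗ[T] KS hT C D 0 where
  toFun p := ⟨at00 (aug0 φ ε η p), at00_mem hT (aug0_mem hT hP ε η hε hη p)⟩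
  map_add' p p' := Subtype.ext (by
    show at00 (aug0 φ ε η (p + p')) = at00 (aug0 φ ε η p) + at00 (aug0 φ ε η p')
    rw [map_add, at00_add])
  map_smul' t p := Subtype.ext (by
    show at00 (aug0 φ ε η (t • p)) = t • at00 (aug0 φ ε η p)
    rw [aug0_smul hP, at00_smul])

theorem aug_apply (p : P) : (aug hT hP ε η hε hη p).1 = at00 (aug0 φ ε η p) := rfl

theorem aug_grHom : GrLC.IsGrHom 𝒬 (ksGr hT C D 0) (aug hT hP ε η hε hη) := by
  intro i p hp
  rw [mem_ksGr]
  intro a b
  match a, b with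
  | 0, 0 =>
    exact map_mem_segrePiece ℳ 𝒩 (kg (C 0)) (kg (D 0)) (f := ε.restrictScalars k) (g := η.restrictScalars k)
      (hε i) (hη i) (phi_mem hP hp)
  | 0, q + 1 => 
    show toTT.symm (0 : TT ψ (C 0).carrier (D (q + 1)).carrier) ∈ _
    rw [map_zero]; exact zero_mem _
  | p + 1, q =>
    show toTT.symm (0 : TT ψ (C (p + 1)).carrier (D q).carrier) ∈ _
    rw [map_zero]; exact zero_mem _

theorem dK_aug (hd : ∀ p, GrLC.IsGrHom (C p).gr (C (p + 1)).gr (d p))
    (he : ∀ p, GrLC.IsGrHom (D p).gr (D (p + 1)).gr (e p))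
    (hdε : ∀ x, d 0 (ε x) = 0) (heη : ∀ x, e 0 (η x) = 0) (p : P) :
    dK hT d e hd he 0 (aug hT hP ε η hε hη p) = 0 := by
  apply Subtype.ext
  show DT d e (at00 (aug0 φ ε η p)) = 0
  have h1 : ∀ w : M ⊗[k] N, (dk d 0).rTensor (D 0).carrier
      (TensorProduct.map (ε.restrictScalars k) (η.restrictScalars k) w) = 0 := by
    intro w
    induction w using TensorProduct.induction_on with
    | zero => simp
    | add x y hx hy => rw [map_add, map_add, hx, hy, add_zero]
    | tmul x y =>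
      rw [TensorProduct.map_tmul, LinearMap.rTensor_tmul]
      show d 0 (ε x) ⊗ₜ[k] _ = 0
      rw [hdε, TensorProduct.zero_tmul]
  have h2 : ∀ w : M ⊗[k] N, (dk e 0).lTensor (C 0).carrier
      (TensorProduct.map (ε.restrictScalars k) (η.restrictScalars k) w) = 0 := by
    intro w
    induction w using TensorProduct.induction_on with
    | zero => simp
    | add x y hx hy => rw [map_add, map_add, hx, hy, add_zero]
    | tmul x y =>
      rw [TensorProduct.map_tmul, LinearMap.lTensor_tmul]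
      show _ ⊗ₜ[k] e 0 (η y) = 0
      rw [heη, TensorProduct.tmul_zero]
  funext a b
  apply toTT.symm.injective
  rw [DT_apply]
  match a, b with
  | 0, 0 => rw [dtot_zero_zero]; rfl
  | 1, 0 => 
    rw [dtot_succ_zero]
    exact h1 _
  | a + 2, 0 => rw [dtot_succ_zero]; exact map_zero _
  | 0, 1 => 
    rw [dtot_zero_succ]
    exact (congrArg Neg.neg (h2 _)).trans neg_zero
  | 0, b + 2 => rw [dtot_zero_succ]; exact (congrArg Neg.neg (map_zero _)).trans neg_zero
  | 1, b + 1 =>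
    rw [dtot_succ_succ]
    show (dk d 0).rTensor _ (0 : (C 0).carrier ⊗[k] (D (b + 1)).carrier) - (-1 : ℤ) ^ (0 + 1) •
      (dk e b).lTensor _ (0 : (C (0 + 1)).carrier ⊗[k] (D b).carrier) = 0
    simp
  | a + 2, b + 1 =>
    rw [dtot_succ_succ]
    show (dk d (a + 1)).rTensor _ (0 : (C (a + 1)).carrier ⊗[k] (D (b + 1)).carrier) - (-1 : ℤ) ^ (a + 1 + 1) •
      (dk e b).lTensor _ (0 : (C (a + 1 + 1)).carrier ⊗[k] (D b).carrier) = 0
    simp

end Aug

end K962.TotK
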