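import Groth.Agent.GrSegre.K962.TotK
import Mathlib.LinearAlgebra.TensorProduct.RightExactness

/-!
# The cohomology of the complex `K` is torsion
-/

set_option autoImplicit false
set_option linter.unusedSectionVars false
set_option linter.style.haveILetI false
set_option warn.classDefReducibility false
universe u
open scoped TensorProduct DirectSum
open K759.Gr K759.GrObj K962.Basic K962.Pieces K962.KM K962.Seg K962.Tot K962.TotK
open Groth.Agent.Ega3B.KunnethAlg

namespace K962.TotTors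

section PS

variable {k : Type u} [CommRing k] {R S T : Type u} [CommRing R] [Algebra k R] [CommRing S] [Algebra k S]
  [CommRing T] [Algebra k T]

/-- the span of `a ⊗ b`, `a ∈ I`, `b ∈ J` -/
def ps (I : Ideal R) (J : Ideal S) : Submodule k (R ⊗[k] S) :=
  Submodule.span k {x | ∃ a ∈ I, ∃ b ∈ J, x = a ⊗ₜ[k] b}

theorem tmul_mem_ps {I : Ideal R} {J : Ideal S} {a : R} {b : S} (ha : a ∈ I) (hb : b ∈ J) :
    a ⊗ₜ[k] b ∈ (ps I J : Submodule k (R ⊗[k] S)) := Submodule.subset_span ⟨a, ha, b, hb, rfl⟩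

theorem ps_mono {I I' : Ideal R} {J J' : Ideal S} (h : I ≤ I') (h' : J ≤ J') :
    (ps I J : Submodule k (R ⊗[k] S)) ≤ ps I' J' := by
  rw [ps, Submodule.span_le]
  rintro _ ⟨a, ha, b, hb, rfl⟩
  exact tmul_mem_ps (h ha) (h' hb)

theorem mul_mem_ps {I I' : Ideal R} {J J' : Ideal S} {x y : R ⊗[k] S} (hx : x ∈ (ps I J : Submodule k (R ⊗[k] S)))
    (hy : y ∈ (ps I' J' : Submodule k (R ⊗[k] S))) :
    x * y ∈ (ps (I * I') (J * J') : Submodule k (R ⊗[k] S)) := by
  induction hx using Submodule.span_induction with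
  | mem x hx =>
    obtain ⟨a, ha, b, hb, rfl⟩ := hx
    induction hy using Submodule.span_induction with
    | mem y hy =>
      obtain ⟨a', ha', b', hb', rfl⟩ := hy
      rw [Algebra.TensorProduct.tmul_mul_tmul]
      exact tmul_mem_ps (Ideal.mul_mem_mul ha ha') (Ideal.mul_mem_mul hb hb')
    | zero => rw [mul_zero]; exact zero_mem _
    | add y y' _ _ h h' => rw [mul_add]; exact add_mem h h'
    | smul c y _ h => rw [mul_smul_comm]; exact Submodule.smul_mem _ _ h
  | zero => rw [zero_mul]; exact zero_mem _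
  | add y y' _ _ h h' => rw [add_mul]; exact add_mem h h'
  | smul c y _ h => rw [smul_mul_assoc]; exact Submodule.smul_mem _ _ h

theorem ps_top : (ps ⊤ ⊤ : Submodule k (R ⊗[k] S)) = ⊤ := by
  rw [eq_top_iff]
  rintro x -
  induction x using TensorProduct.induction_on with
  | zero => exact zero_mem _
  | add x y hx hy => exact add_mem hx hy
  | tmul a b => exact tmul_mem_ps trivial trivial

theorem psi_pow_mem {ψ : T →ₐ[k] R ⊗[k] S} {aR : Ideal R} {aS : Ideal S} {aT : Ideal T}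
    (h : ∀ t ∈ aT, ψ t ∈ (ps aR aS : Submodule k (R ⊗[k] S))) (m : ℕ) :
    ∀ t ∈ aT ^ m, ψ t ∈ (ps (aR ^ m) (aS ^ m) : Submodule k (R ⊗[k] S)) := by
  induction m with
  | zero =>
    intro t _
    rw [pow_zero, pow_zero, Ideal.one_eq_top, Ideal.one_eq_top, ps_top]; trivial
  | succ m ih =>
    intro t ht
    rw [pow_succ] at ht
    rw [pow_succ, pow_succ]
    refine Submodule.mul_induction_on ht (fun x hx y hy => ?_) (fun x y hx hy => ?_)
    · rw [map_mul]; exact mul_mem_ps (ih x hx) (h y hy)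
    · rw [map_add]; exact add_mem hx hy

end PS

section Sgl

variable {k : Type u} [Field k] {R S T : Type u} [CommRing R] [Algebra k R] [CommRing S] [Algebra k S]
  [CommRing T] [Algebra k T]
  {ι : Type} [AddCommGroup ι] [DecidableEq ι]
  {𝒜 : ι → Submodule k R} [GradedAlgebra 𝒜] {ℬ : ι → Submodule k S} [GradedAlgebra ℬ]
  {𝒯 : ι → Submodule k T} [GradedAlgebra 𝒯] {ψ : T →ₐ[k] R ⊗[k] S}
  {C : ℕ → KMod.{u} 𝒜} {d : ∀ p, (C p).carrier →ₗ[R] (C (p + 1)).carrier}
  {D : ℕ → KMod.{u} ℬ} {e : ∀ p, (D p).carrier →ₗ[S] (D (p + 1)).carrier}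

variable (C D ψ) in
/-- an element placed in bidegree `(p, q)` -/
noncomputable def sgl (p q : ℕ) : TT ψ (C p).carrier (D q).carrier →ₗ[T] Full ψ C D :=
  LinearMap.single T (fun p => ∀ q, TT ψ (C p).carrier (D q).carrier) p ∘ₗ
    LinearMap.single T (fun q => TT ψ (C p).carrier (D q).carrier) q

theorem sgl_same (p q : ℕ) (z : TT ψ (C p).carrier (D q).carrier) : sgl ψ C D p q z p q = z := by
  simp [sgl]

theorem sgl_ne {p q a b : ℕ} (h : a ≠ p ∨ b ≠ q) (z : TT ψ (C p).carrier (D q).carrier) :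
    sgl ψ C D p q z a b = 0 := by
  by_cases h1 : a = p
  · subst h1
    simp only [ne_eq, not_true_eq_false, false_or] at h
    simp [sgl, Pi.single_eq_of_ne h]
  · simp [sgl, Pi.single_eq_of_ne h1]

theorem sgl_ksmul (p q : ℕ) (r : k) (z : TT ψ (C p).carrier (D q).carrier) :
    sgl ψ C D p q (r • z) = algebraMap k T r • sgl ψ C D p q z := by
  rw [← map_smul, algebraMap_smul]

theorem DT_sgl (p q : ℕ) (z : TT ψ (C p).carrier (D q).carrier) :
    DT d e (sgl ψ C D p q z) = sgl ψ C D (p + 1) q (toTT ((dk d p).rTensor _ (toTT.symm z))) +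
      (-1 : ℤ) ^ (p + 1) • sgl ψ C D p (q + 1) (toTT ((dk e q).lTensor _ (toTT.symm z))) := by
  have hr : ∀ a b : ℕ, (toTT ((dk d a).rTensor (D b).carrier (toTT.symm (sgl ψ C D p q z a b))) :
      TT ψ (C (a + 1)).carrier (D b).carrier) =
      sgl ψ C D (p + 1) q (toTT ((dk d p).rTensor _ (toTT.symm z))) (a + 1) b := by
    intro a b
    by_cases h : a = p ∧ b = q
    · obtain ⟨rfl, rfl⟩ := h
      rw [sgl_same, sgl_same]
    · rw [sgl_ne (by omega), sgl_ne (by omega), map_zero, map_zero, map_zero]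
  have hl : ∀ a b : ℕ, (toTT ((dk e b).lTensor (C a).carrier (toTT.symm (sgl ψ C D p q z a b))) :
      TT ψ (C a).carrier (D (b + 1)).carrier) =
      sgl ψ C D p (q + 1) (toTT ((dk e q).lTensor _ (toTT.symm z))) a (b + 1) := by
    intro a b
    by_cases h : a = p ∧ b = q
    · obtain ⟨rfl, rfl⟩ := h
      rw [sgl_same, sgl_same]
    · rw [sgl_ne (by omega), sgl_ne (by omega), map_zero, map_zero, map_zero]
  funext a b
  have e1 : ∀ (x y : Full ψ C D) (m : ℤ), (x + m • y) a b = x a b + m • y a b := fun _ _ _ => rfl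
  rw [e1]
  match a, b with
  | 0, 0 =>
    rw [sgl_ne (by omega), sgl_ne (by omega), smul_zero, add_zero]
    rfl
  | a + 1, 0 =>
    rw [← hr, sgl_ne (q := q + 1) (by omega), smul_zero, add_zero]
    apply toTT.symm.injective
    rw [DT_apply, dtot_succ_zero]; rfl
  | 0, b + 1 =>
    rw [← hl, sgl_ne (p := p + 1) (by omega), zero_add]
    apply toTT.symm.injective
    rw [DT_apply, dtot_zero_succ, map_zsmul]
    by_cases h : 0 = p ∧ b = q
    · obtain ⟨rfl, rfl⟩ := h
      rw [zero_add, pow_one, neg_one_smul]; rfl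
    · rw [sgl_ne (by omega), map_zero, map_zero, neg_zero, map_zero, map_zero, smul_zero]
  | a + 1, b + 1 =>
    rw [← hl, ← hr]
    apply toTT.symm.injective
    rw [DT_apply, dtot_succ_succ, map_add, map_zsmul, LinearEquiv.symm_apply_apply, LinearEquiv.symm_apply_apply]
    by_cases h : a + 1 = p ∧ b = q
    · obtain ⟨rfl, rfl⟩ := h
      rw [pow_succ (-1 : ℤ) (a + 1), mul_neg_one, neg_smul, sub_eq_add_neg]
    · rw [sgl_ne (a := a + 1) (b := b) (by omega), map_zero, map_zero, smul_zero, smul_zero, sub_zero, add_zero]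

theorem sum_sgl {n : ℕ} {w : Full ψ C D} (hw : tr n w = w) :
    w = ∑ p ∈ Finset.range (n + 1), sgl ψ C D p (n - p) (w p (n - p)) := by
  funext a b
  rw [Finset.sum_apply, Finset.sum_apply]
  by_cases h : a + b = n
  · have hb : b = n - a := by omega
    subst hb
    rw [Finset.sum_eq_single a]
    · rw [sgl_same]
    · intro p _ hp
      exact sgl_ne (Or.inl (Ne.symm hp)) _
    · intro h'
      exact absurd (Finset.mem_range.2 (by omega)) h'
  · rw [← hw, tr_apply_ne h]
    symm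
    refine Finset.sum_eq_zero fun p hp => ?_
    have := Finset.mem_range.1 hp
    exact sgl_ne (by omega) _

end Sgl

section Tors

variable {k : Type u} [Field k] {R S T : Type u} [CommRing R] [Algebra k R] [CommRing S] [Algebra k S]
  [CommRing T] [Algebra k T]
  {ι : Type} [AddCommGroup ι] [DecidableEq ι]
  {𝒜 : ι → Submodule k R} [GradedAlgebra 𝒜] {ℬ : ι → Submodule k S} [GradedAlgebra ℬ]
  {𝒯 : ι → Submodule k T} [GradedAlgebra 𝒯] {ψ : T →ₐ[k] R ⊗[k] S}
  {C : ℕ → KMod.{u} 𝒜} {d : ∀ p, (C p).carrier →ₗ[R] (C (p + 1)).carrier}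
  {D : ℕ → KMod.{u} ℬ} {e : ∀ p, (D p).carrier →ₗ[S] (D (p + 1)).carrier}
  {aR : Ideal R} {aS : Ideal S} {aT : Ideal T}

variable (ψ) in
theorem exists_sgl_range
    (tC : ∀ n (u : (C (n + 1)).carrier), d (n + 1) u = 0 → ∃ m : ℕ, ∀ r ∈ aR ^ m, r • u ∈ LinearMap.range (d n))
    (tD : ∀ n (u : (D (n + 1)).carrier), e (n + 1) u = 0 → ∃ m : ℕ, ∀ r ∈ aS ^ m, r • u ∈ LinearMap.range (e n))
    (p q : ℕ) (hpq : 1 ≤ p + q) (ζ : LinearMap.ker (dk d p) ⊗[k] LinearMap.ker (dk e q)) :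
    ∃ m : ℕ, ∀ c ∈ (ps (aR ^ m) (aS ^ m) : Submodule k (R ⊗[k] S)),
      sgl ψ C D p q (toTT (GrSeg.act k R S _ _ c
        (TensorProduct.map (LinearMap.ker (dk d p)).subtype (LinearMap.ker (dk e q)).subtype ζ))) ∈
        LinearMap.range (DT (ψ := ψ) d e) := by
  induction ζ using TensorProduct.induction_on with
  | zero => exact ⟨0, fun c _ => by rw [map_zero, map_zero, map_zero, map_zero]; exact zero_mem _⟩
  | add ζ ζ' h h' =>
    obtain ⟨m, hm⟩ := h
    obtain ⟨m', hm'⟩ := h'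
    refine ⟨max m m', fun c hc => ?_⟩
    rw [map_add, map_add, map_add, map_add]
    refine add_mem (hm c ?_) (hm' c ?_)
    · exact ps_mono (Ideal.pow_le_pow_right (le_max_left _ _)) (Ideal.pow_le_pow_right (le_max_left _ _)) hc
    · exact ps_mono (Ideal.pow_le_pow_right (le_max_right _ _)) (Ideal.pow_le_pow_right (le_max_right _ _)) hc
  | tmul u v =>
    have hu : d p u.1 = 0 := u.2
    have hv : e q v.1 = 0 := v.2
    have hlin : ∀ m : ℕ, (∀ a ∈ aR ^ m, ∀ b ∈ aS ^ m,
        sgl ψ C D p q (toTT ((a • u.1) ⊗ₜ[k] (b • v.1))) ∈ LinearMap.range (DT (ψ := ψ) d e)) →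
        ∀ c ∈ (ps (aR ^ m) (aS ^ m) : Submodule k (R ⊗[k] S)), sgl ψ C D p q (toTT (GrSeg.act k R S _ _ c
        (TensorProduct.map (LinearMap.ker (dk d p)).subtype (LinearMap.ker (dk e q)).subtype (u ⊗ₜ v)))) ∈
        LinearMap.range (DT (ψ := ψ) d e) := by
      intro m hm c hc
      induction hc using Submodule.span_induction with
      | mem c hc =>
        obtain ⟨a, ha, b, hb, rfl⟩ := hc
        exact hm a ha b hb
      | zero => rw [map_zero, LinearMap.zero_apply, map_zero, map_zero]; exact zero_mem _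
      | add c c' _ _ h h' => rw [map_add, LinearMap.add_apply, map_add, map_add]; exact add_mem h h'
      | smul r c _ h =>
        rw [map_smul, LinearMap.smul_apply, map_smul, sgl_ksmul]
        exact Submodule.smul_mem _ _ h
    match p, q, hpq with
    | p + 1, q, _ =>
      obtain ⟨m, hm⟩ := tC p u.1 hu
      refine ⟨m, hlin m fun a ha b hb => ?_⟩
      obtain ⟨u', hu'⟩ := hm a ha
      refine ⟨sgl ψ C D p q (toTT (u' ⊗ₜ[k] (b • v.1))), ?_⟩
      rw [DT_sgl, LinearEquiv.symm_apply_apply, LinearMap.rTensor_tmul, LinearMap.lTensor_tmul]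
      have h1 : dk e q (b • v.1) = 0 := by show e q (b • v.1) = 0; rw [map_smul, hv, smul_zero]
      rw [h1, TensorProduct.tmul_zero, map_zero, map_zero, smul_zero, add_zero]
      show sgl ψ C D (p + 1) q (toTT (d p u' ⊗ₜ[k] (b • v.1))) = _
      rw [hu']
    | 0, q + 1, _ =>
      obtain ⟨m, hm⟩ := tD q v.1 hv
      refine ⟨m, hlin m fun a ha b hb => ?_⟩
      obtain ⟨v', hv'⟩ := hm b hb
      refine ⟨- sgl ψ C D 0 q (toTT ((a • u.1) ⊗ₜ[k] v')), ?_⟩
      rw [map_neg, DT_sgl, LinearEquiv.symm_apply_apply, LinearMap.rTensor_tmul, LinearMap.lTensor_tmul]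
      have h1 : dk d 0 (a • u.1) = 0 := by show d 0 (a • u.1) = 0; rw [map_smul, hu, smul_zero]
      have h2 : ((-1 : ℤ) ^ (0 + 1)) = -1 := by norm_num
      rw [h1, TensorProduct.zero_tmul, map_zero, map_zero, h2, neg_one_smul, neg_add, neg_neg, neg_zero, zero_add]
      show sgl ψ C D 0 (q + 1) (toTT ((a • u.1) ⊗ₜ[k] e q v')) = _
      rw [hv']

theorem exists_kun (hdd : ∀ p x, d (p + 1) (d p x) = 0) (hee : ∀ p x, e (p + 1) (e p x) = 0)
    {w : Full ψ C D} (hw : DT d e w = 0) :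
    ∃ (w' : Full ψ C D) (ζ : ∀ p q, LinearMap.ker (dk d p) ⊗[k] LinearMap.ker (dk e q)),
      ∀ p q, w p q = toTT (TensorProduct.map (LinearMap.ker (dk d p)).subtype
        (LinearMap.ker (dk e q)).subtype (ζ p q)) + DT d e w' p q := by
  obtain ⟨w', ζ, h⟩ := K962.Kun.surj (d := dk d) (e := dk e) (fun p => LinearMap.ext fun x => hdd p x)
    (fun p => LinearMap.ext fun x => hee p x) (fun p q => toTT.symm (w p q)) (fun p q => by
      rw [← DT_apply, hw]; exact map_zero _)
  refine ⟨fun p q => toTT (w' p q), ζ, fun p q => ?_⟩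
  apply toTT.symm.injective
  rw [h p q, map_add, DT_apply]
  rfl

variable (hT : GrSeg.IsSegreRing 𝒜 ℬ 𝒯 ψ)

theorem tors_succ (hdd : ∀ p x, d (p + 1) (d p x) = 0) (hee : ∀ p x, e (p + 1) (e p x) = 0)
    (hd : ∀ p, GrLC.IsGrHom (C p).gr (C (p + 1)).gr (d p))
    (he : ∀ p, GrLC.IsGrHom (D p).gr (D (p + 1)).gr (e p))
    (hψ : ∀ t ∈ aT, ψ t ∈ (ps aR aS : Submodule k (R ⊗[k] S)))
    (tC : ∀ n (u : (C (n + 1)).carrier), d (n + 1) u = 0 → ∃ m : ℕ, ∀ r ∈ aR ^ m, r • u ∈ LinearMap.range (d n))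
    (tD : ∀ n (u : (D (n + 1)).carrier), e (n + 1) u = 0 → ∃ m : ℕ, ∀ r ∈ aS ^ m, r • u ∈ LinearMap.range (e n))
    (n : ℕ) (w : KS hT C D (n + 1)) (hw : dK hT d e hd he (n + 1) w = 0) :
    ∃ m : ℕ, ∀ t ∈ aT ^ m, t • w ∈ LinearMap.range (dK hT d e hd he n) := by
  have hw0 : DT d e w.1 = 0 := congrArg Subtype.val hw
  obtain ⟨w', ζ, h⟩ := exists_kun hdd hee hw0
  have key := fun p : ℕ => exists_sgl_range (ψ := ψ) (aR := aR) (aS := aS) tC tD p (n + 1 - p)
  have key2 : ∃ m : ℕ, ∀ p ∈ Finset.range (n + 1 + 1), ∀ c ∈ (ps (aR ^ m) (aS ^ m) : Submodule k (R ⊗[k] S)),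
      sgl ψ C D p (n + 1 - p) (toTT (GrSeg.act k R S _ _ c
        (TensorProduct.map (LinearMap.ker (dk d p)).subtype (LinearMap.ker (dk e (n + 1 - p))).subtype
          (ζ p (n + 1 - p))))) ∈ LinearMap.range (DT (ψ := ψ) d e) := by
    have : ∀ p ∈ Finset.range (n + 1 + 1), ∃ m : ℕ, ∀ c ∈ (ps (aR ^ m) (aS ^ m) : Submodule k (R ⊗[k] S)),
      sgl ψ C D p (n + 1 - p) (toTT (GrSeg.act k R S _ _ c
        (TensorProduct.map (LinearMap.ker (dk d p)).subtype (LinearMap.ker (dk e (n + 1 - p))).subtype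
          (ζ p (n + 1 - p))))) ∈ LinearMap.range (DT (ψ := ψ) d e) := fun p hp =>
      key p (by have := Finset.mem_range.1 hp; omega) (ζ p (n + 1 - p))
    choose! m hm using this
    refine ⟨(Finset.range (n + 1 + 1)).sup m, fun p hp c hc => hm p hp c ?_⟩
    have hle := Finset.le_sup (f := m) hp
    exact ps_mono (Ideal.pow_le_pow_right hle) (Ideal.pow_le_pow_right hle) hc
  obtain ⟨m, hm⟩ := key2
  refine ⟨m, fun t ht => ?_⟩
  have hψt := psi_pow_mem hψ m t ht
  have hwt := (mem_KS' hT C D).1 w.2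
  -- `t w` is a boundary in the big complex
  have hb : t • w.1 ∈ LinearMap.range (DT (ψ := ψ) d e) := by
    have e1 : w.1 = ∑ p ∈ Finset.range (n + 1 + 1), sgl ψ C D p (n + 1 - p)
        (toTT (TensorProduct.map (LinearMap.ker (dk d p)).subtype
        (LinearMap.ker (dk e (n + 1 - p))).subtype (ζ p (n + 1 - p)))) + DT d e (tr n w') := by
      conv_lhs => rw [sum_sgl hwt.1]
      rw [DT_tr, sum_sgl (w := tr (n + 1) (DT d e w')) (by
        funext p q
        by_cases hpq : p + q = n + 1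
        · rw [tr_apply_eq hpq]
        · rw [tr_apply_ne hpq, tr_apply_ne hpq]), ← Finset.sum_add_distrib]
      refine Finset.sum_congr rfl fun p hp => ?_
      have := Finset.mem_range.1 hp
      rw [← map_add, tr_apply_eq (by omega), ← h]
    rw [e1, smul_add, Finset.smul_sum]
    refine add_mem (sum_mem fun p hp => ?_) (Submodule.smul_mem _ _ ⟨_, rfl⟩)
    rw [← map_smul, smul_def]
    exact hm p hp _ hψt
  obtain ⟨y, hy⟩ := hb
  have hmem : dgF hT (tr n y) ∈ KS hT C D n := by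
    rw [mem_KS']
    constructor
    · funext p q
      by_cases hpq : p + q = n
      · rw [tr_apply_eq hpq]
      · rw [tr_apply_ne hpq]
        show 0 = dgT (C p) (D q) hT (tr n y p q)
        rw [tr_apply_ne hpq, map_zero]
    · funext p q
      apply toTT.symm.injective
      rw [dgF_apply, dgF_apply, dg_dg]
  refine ⟨⟨_, hmem⟩, Subtype.ext ?_⟩
  show DT d e (dgF hT (tr n y)) = t • w.1
  rw [DT_dgF hT d e hd he, DT_tr, hy]
  have h1 := (mem_KS' hT C D).1 (Submodule.smul_mem (KS hT C D (n + 1)) t w.2)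
  rw [h1.1, h1.2]

end Tors

end K962.TotTors
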