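import Groth.Agent.GrSegre.K962.Main

/-!
# The Künneth formula for rings defined over a field: the standing data
-/

set_option autoImplicit false
set_option linter.unusedSectionVars false
set_option linter.style.haveILetI false
set_option warn.classDefReducibility false
universe u
open scoped TensorProduct DirectSum
open K759.Gr K759.GrObj K962.Basic K962.Pieces K962.KM K962.Seg K962.Tot K962.TotK K962.TotTors K962.TotAug
  K962.Coh K962.Kap K962.Van K962.VanK K962.One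

namespace K962.Wrap

section Kmod

variable {k : Type u} [CommRing k] {R : Type u} [CommRing R] [Algebra k R]
  {ι : Type} [AddCommGroup ι] [DecidableEq ι] (𝒜 : ι → Submodule k R) [GradedAlgebra 𝒜]
  {M : Type u} [AddCommGroup M] [Module R M] [Module k M] [IsScalarTower k R M]
  {τ : Type u} [SetLike τ M] [AddSubgroupClass τ M]
  (ℳ : ι → τ) [DirectSum.Decomposition ℳ] [SetLike.GradedSMul 𝒜 ℳ]

/-- A graded module with pieces in any `SetLike` type as an object. -/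
noncomputable def kmod : KMod.{u} 𝒜 :=
  { carrier := M
    gr := (K963.Cat.toGMod 𝒜 ℳ).gr
    dec := (K963.Cat.toGMod 𝒜 ℳ).dec
    gsmul := (K963.Cat.toGMod 𝒜 ℳ).gsmul }

theorem mem_kmod_gr {m : M} {g : ι} : (show (kmod 𝒜 ℳ).carrier from m) ∈ (kmod 𝒜 ℳ).gr g ↔ m ∈ ℳ g := Iff.rfl

variable {𝒜 ℳ}

theorem transfer (E : GrLC.StarInjRes 𝒜 ℳ) (E' : GrLC.StarInjRes 𝒜 (kmod 𝒜 ℳ).gr) (a : HomogeneousIdeal 𝒜)
    (i : ℕ) : ∃ θ : E.H a i ≃ₗ[R] E'.H a i, ∀ x g, x ∈ E.Hcomp a i g ↔ θ x ∈ E'.Hcomp a i g := by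
  have he : GrLC.IsGrHomDeg ℳ (kmod 𝒜 ℳ).gr (LinearEquiv.refl R M).toLinearMap 0 := fun g m hm => by
    rw [add_zero]; exact hm
  refine ⟨K963.Iface.Hequiv E E' a i (LinearEquiv.refl R M) he, fun x g => ?_⟩
  have := K963.Iface.Hequiv_mem_iff E E' a i (LinearEquiv.refl R M) he (g := g) x
  rw [add_zero] at this
  exact this.symm

end Kmod

section Par

variable {k : Type u} [Field k] {R S T : Type u} [CommRing R] [Algebra k R] [CommRing S] [Algebra k S]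
  [CommRing T] [Algebra k T]
  {𝒜 : ℤ → Submodule k R} [GradedAlgebra 𝒜] {ℬ : ℤ → Submodule k S} [GradedAlgebra ℬ]
  {𝒯 : ℤ → Submodule k T} [GradedAlgebra 𝒯] (ψ : T →ₐ[k] R ⊗[k] S)
  (mR : HomogeneousIdeal 𝒜) (mS : HomogeneousIdeal ℬ) (mT : HomogeneousIdeal 𝒯)

/-- Parameters of one degree for both rings. -/
structure Par : Type u where
  D : ℤ
  n₁ : ℕ
  x : Fin n₁ → R
  hx : ∀ i, x i ∈ 𝒜 D
  hxa : ∀ i, x i ∈ mR.toIdeal
  hrx : mR.toIdeal ≤ (Ideal.span (Set.range x)).radical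
  n₂ : ℕ
  y : Fin n₂ → S
  hy : ∀ i, y i ∈ ℬ D
  hya : ∀ i, y i ∈ mS.toIdeal
  hry : mS.toIdeal ≤ (Ideal.span (Set.range y)).radical
  haT : ∀ t ∈ 𝒯 D, t ∈ mT.toIdeal
  hψ : ∀ t ∈ mT.toIdeal, ψ t ∈ (ps mR.toIdeal mS.toIdeal : Submodule k (R ⊗[k] S))

variable {ψ mR mS mT}

theorem exists_par [Algebra.FiniteType k R] [Algebra.FiniteType k S] (hT : GrSeg.IsSegreRing 𝒜 ℬ 𝒯 ψ)
    (hmR : mR.toIdeal = Ideal.span (⋃ n ∈ Set.Ioi (0 : ℤ), (𝒜 n : Set R)))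
    (hmS : mS.toIdeal = Ideal.span (⋃ n ∈ Set.Ioi (0 : ℤ), (ℬ n : Set S)))
    (hmT : mT.toIdeal = Ideal.span (⋃ n ∈ Set.Ioi (0 : ℤ), (𝒯 n : Set T))) :
    Nonempty (Par ψ mR mS mT) := by
  have hNR : IsNoetherianRing R := Algebra.FiniteType.isNoetherianRing k R
  have hNS : IsNoetherianRing S := Algebra.FiniteType.isNoetherianRing k S
  obtain ⟨D₁, hD₁, h1⟩ := K962.Par.exists_params (𝒜 := 𝒜) mR.toIdeal hmR
  obtain ⟨D₂, hD₂, h2⟩ := K962.Par.exists_params (𝒜 := ℬ) mS.toIdeal hmS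
  have hD : 0 < D₁ * D₂ := Nat.mul_pos hD₁ hD₂
  obtain ⟨n₁, x, hx, hxa, hrx⟩ := h1 (D₁ * D₂) hD (Dvd.intro _ rfl)
  obtain ⟨n₂, y, hy, hya, hry⟩ := h2 (D₁ * D₂) hD (Dvd.intro_left _ rfl)
  exact ⟨{
    D := ((D₁ * D₂ : ℕ) : ℤ)
    n₁ := n₁
    x := x
    hx := hx
    hxa := hxa
    hrx := hrx
    n₂ := n₂
    y := y
    hy := hy
    hya := hya
    hry := hry
    haT := fun t ht => by
      rw [hmT]
      refine Ideal.subset_span ?_
      simp only [Set.mem_iUnion, Set.mem_Ioi]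
      exact ⟨_, by exact_mod_cast hD, ht⟩
    hψ := fun t ht => by
      rw [hmT] at ht
      rw [hmR, hmS]
      exact K962.Par.psi_mem_ps hT ht }⟩

end Par

end K962.Wrap
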